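import Cfsg.Agent.Lib.RegularSE.Kit

/-!
If the Sylow subgroup is not abelian, the central element acts quadratically.
-/

set_option autoImplicit false
set_option linter.unusedSectionVars false

namespace Cfsg.Agent.RegularSE

open Matrix

variable {R : Type*} [CommRing R] {d : ℕ}

/-- The linear term of `(N + E) ^ l` for commuting `N` of degree one and `E` of degree `k`. -/
theorem pow_add_sub {k : ℕ} {E : Matrix (Fin d) (Fin d) R} (hE : Ge k E) (hk : 1 ≤ k)
    (hNE : shift R d 1 * E = E * shift R d 1) :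
    ∀ l : ℕ, Ge (l + k) ((shift R d 1 + E) ^ (l + 1) - shift R d 1 ^ (l + 1)) ∧
      Ge (l + 2 * k - 1) ((shift R d 1 + E) ^ (l + 1) - shift R d 1 ^ (l + 1) -
        ((l + 1 : ℕ) : R) • (shift R d 1 ^ l * E))
  | 0 => by
    simp only [zero_add, pow_one, add_sub_cancel_left, pow_zero, one_mul, Nat.cast_one, one_smul, sub_self]
    exact ⟨hE, ge_zero_matrix _⟩
  | l + 1 => by
    obtain ⟨h1, h2⟩ := pow_add_sub hE hk hNE l
    set N := shift R d 1 with hN
    set D := (N + E) ^ (l + 1) - N ^ (l + 1) with hD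
    have e1 : (N + E) ^ (l + 1 + 1) - N ^ (l + 1 + 1) = D * N + D * E + N ^ (l + 1) * E := by
      rw [pow_succ (N + E) (l + 1), pow_succ N (l + 1), hD]
      noncomm_ring
    have hNl : Ge (l + 1) (N ^ (l + 1)) := by simpa using (ge_shift (R := R) (d := d) 1).pow (l + 1)
    have e2 : (N + E) ^ (l + 1 + 1) - N ^ (l + 1 + 1) - ((l + 1 + 1 : ℕ) : R) • (N ^ (l + 1) * E) =
        (D - ((l + 1 : ℕ) : R) • (N ^ l * E)) * N + D * E := by
      rw [e1, sub_mul D, smul_mul_assoc, mul_assoc (N ^ l) E N, ← hNE, ← mul_assoc, ← pow_succ,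
        Nat.cast_succ (l + 1), add_smul, one_smul]
      abel
    refine ⟨?_, ?_⟩
    · rw [e1]
      exact (((h1.mul (ge_shift 1)).mono (by omega)).add ((h1.mul hE).mono (by omega))).add
        ((hNl.mul hE).mono (by omega))
    · rw [e2]
      exact ((h2.mul (ge_shift 1)).mono (by omega)).add ((h1.mul hE).mono (by omega))

namespace Datum

variable {p : ℕ} [hp : Fact p.Prime] {G : Type*} [Group G] [Finite G] (D : Datum p d G) (K : D.Kit)

/-- A nonabelian Sylow subgroup forces `d < 2 k`. -/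
theorem lt_two_k (hdp : d ≤ p) (hab : ¬ ∀ a ∈ D.T, ∀ b ∈ D.T, a * b = b * a) : d < 2 * K.k := by
  classical
  by_contra hlt
  have hd := D.two_le_dim hdp
  obtain ⟨t₀, ht₀, ht₀x⟩ : ∃ t ∈ D.T, ¬ t * D.x = D.x * t := by
    by_contra h
    push Not at h
    exact hab fun a ha b hb => D.commute_of_commute hdp (h a ha) (h b hb)
  have hG0 : ∀ u ∈ D.T, Ge 0 (D.ρ u) := fun u hu => by
    have h := ((D.tri hu).mono (show 0 ≤ 1 by omega)).add ge_one_zero
    rwa [sub_add_cancel] at h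
  let f : G → G := fun t => D.x * t * D.x⁻¹ * t⁻¹
  have hfT : ∀ t ∈ D.T, f t ∈ D.T := fun t ht =>
    mul_mem (mul_mem (mul_mem D.x_mem ht) (inv_mem D.x_mem)) (inv_mem ht)
  have hGe : ∀ t ∈ D.T, ∀ s : ℕ, Ge s (D.ρ t - 1) → Ge (s + 1) (D.ρ (f t) - 1) := by
    intro t htT s hs
    have e : D.ρ (f t) - 1 = (shift (ZMod p) d 1 * (D.ρ t - 1) - (D.ρ t - 1) * shift (ZMod p) d 1) *
        (D.ρ D.x⁻¹ * D.ρ t⁻¹) := by
      have e1 : shift (ZMod p) d 1 * (D.ρ t - 1) - (D.ρ t - 1) * shift (ZMod p) d 1 =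
          D.ρ (D.x * t) - D.ρ (t * D.x) := by
        rw [map_mul, map_mul, D.rho_x]
        noncomm_ring
      rw [e1, sub_mul, ← map_mul D.ρ D.x⁻¹ t⁻¹, ← map_mul, ← map_mul,
        show t * D.x * (D.x⁻¹ * t⁻¹) = 1 by group,
        show D.x * t * (D.x⁻¹ * t⁻¹) = f t by simp [f, mul_assoc], map_one]
    rw [e]
    have h1 : Ge (s + 1) (shift (ZMod p) d 1 * (D.ρ t - 1) - (D.ρ t - 1) * shift (ZMod p) d 1) :=
      (((ge_shift 1).mul hs).mono (by omega)).sub ((hs.mul (ge_shift 1)).mono (by omega))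
    exact (h1.mul ((hG0 _ (inv_mem D.x_mem)).mul (hG0 _ (inv_mem htT)))).mono (by omega)
  let seq : ℕ → G := fun n => f^[n] t₀
  have hseq : ∀ n, seq (n + 1) = f (seq n) := fun n => Function.iterate_succ_apply' f n t₀
  have hseqT : ∀ n, seq n ∈ D.T := by
    intro n
    induction n with
    | zero => exact ht₀
    | succ n ih => rw [hseq]; exact hfT _ ih
  have hend : seq d = 1 := by
    have h : ∀ n, Ge n (D.ρ (seq n) - 1) := by
      intro n
      induction n with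
      | zero => exact (D.tri ht₀).mono (by omega)
      | succ n ih => rw [hseq]; exact hGe _ (hseqT n) n ih
    exact D.inj (by rw [map_one, ← sub_eq_zero]; exact (h d).eq_zero le_rfl)
  have hex : ∃ n, seq n * D.x = D.x * seq n := ⟨d, by rw [hend, one_mul, mul_one]⟩
  have hfirst := Nat.find_spec hex
  obtain ⟨n, hn⟩ : ∃ n, Nat.find hex = n + 1 := by
    refine ⟨Nat.find hex - 1, (Nat.succ_pred_eq_of_pos (Nat.pos_of_ne_zero fun h => ?_)).symm⟩
    rw [h] at hfirst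
    exact ht₀x hfirst
  have hnot : ¬ seq n * D.x = D.x * seq n := Nat.find_min hex (by omega)
  rw [hn, hseq] at hfirst
  set t := seq n with ht
  have htT : t ∈ D.T := hseqT n
  obtain ⟨a, b, hab'⟩ := K.decomp (f t) (hfT t htT) hfirst
  have hne : (⟨1, by omega⟩ : Fin d) ≠ ⟨0, by omega⟩ := by simp
  have ha : (a : ZMod p) = 0 := by
    have h := hGe t htT 1 (D.tri htT) (⟨1, by omega⟩ : Fin d) ⟨0, by omega⟩ (by simp)
    have hz := K.ge_z (⟨1, by omega⟩ : Fin d) ⟨0, by omega⟩ (by simp; have := K.two_le; omega)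
    rw [Matrix.sub_apply, Matrix.one_apply_ne hne, sub_zero] at h hz
    rw [hab', D.first_add hdp (pow_mem D.x_mem a) (pow_mem K.z_mem b) _ _ rfl,
      D.first_pow hdp D.x_mem _ _ rfl, D.first_pow hdp K.z_mem _ _ rfl, hz, mul_zero, add_zero, D.rho_x,
      Matrix.add_apply, Matrix.one_apply_ne hne, zero_add, shift_apply, if_pos (by simp), mul_one] at h
    exact h
  obtain ⟨a', rfl⟩ := (ZMod.natCast_eq_zero_iff _ _).1 ha
  rw [pow_mul, D.pow_p hdp D.x_mem, one_pow, one_mul] at hab'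
  have hb : (b : ZMod p) ≠ 0 := fun hb0 => by
    obtain ⟨b', rfl⟩ := (ZMod.natCast_eq_zero_iff _ _).1 hb0
    rw [pow_mul, D.pow_p hdp K.z_mem, one_pow] at hab'
    refine hnot ?_
    change D.x * t * D.x⁻¹ * t⁻¹ = 1 at hab'
    rw [mul_inv_eq_one, mul_inv_eq_iff_eq_mul] at hab'
    exact hab'.symm
  set N := shift (ZMod p) d 1 with hN
  set A := D.ρ K.z - 1 with hA
  set E := (D.ρ (K.z ^ b) - 1) * (1 + N) with hE
  have hzcomm : ∀ m : ℕ, N * D.ρ (K.z ^ m) = D.ρ (K.z ^ m) * N := fun m =>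
    (D.rho_commute hdp (show Commute (K.z ^ m) D.x from (show Commute K.z D.x from K.z_comm).pow_left m)).symm
  have hNE : N * E = E * N := by
    rw [hE, ← mul_assoc, mul_sub, hzcomm, mul_one, mul_assoc, mul_add, add_mul, mul_one, one_mul]
    noncomm_ring
  have hGeE : Ge K.k E := by
    rw [hE, map_pow]
    exact ((K.ge_z.pow_sub_one b).mul (ge_one_zero.add ((ge_shift 1).mono (by omega)))).mono (by omega)
  -- the conjugate of `x`
  have hconj : N * D.ρ t = D.ρ t * (N + E) := by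
    have h1 : D.x * t = t * (K.z ^ b * D.x) := by
      rw [← mul_assoc, (Commute.pow_left (K.central t htT) b).symm.eq, ← hab']
      simp [f, mul_assoc]
    have h2 := congrArg D.ρ h1
    rw [map_mul, map_mul, map_mul, D.rho_x, add_mul, one_mul] at h2
    have h3 : N * D.ρ t = D.ρ t * (D.ρ (K.z ^ b) * (1 + N)) - D.ρ t := by rw [← h2]; abel
    rw [h3, hE]
    noncomm_ring
  have hpow : ∀ l : ℕ, N ^ l * D.ρ t = D.ρ t * (N + E) ^ l := by
    intro l
    induction l with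
    | zero => simp
    | succ l ih => rw [pow_succ, mul_assoc, hconj, ← mul_assoc, ih, mul_assoc, ← pow_succ]
  have hAN : A * N = N * A := by
    rw [hA, sub_mul, mul_sub, one_mul, mul_one, hN, D.rho_commute hdp K.z_comm]
  have hd0 : 0 < d := by omega
  have hAsum : A = ∑ l : Fin d, A l ⟨0, hd0⟩ • N ^ l.val := by
    conv_lhs => rw [commutant_eq_sum hAN ⟨0, hd0⟩ rfl]
    exact Finset.sum_congr rfl fun l _ => by rw [hN, shift_one_pow]
  have hzero : ∑ l : Fin d, A l ⟨0, hd0⟩ • ((N + E) ^ l.val - N ^ l.val) = 0 := by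
    have h1 : A * D.ρ t = D.ρ t * A := by
      rw [hA, sub_mul, mul_sub, one_mul, mul_one, ← map_mul, ← map_mul, K.central t htT]
    have h2 : A * D.ρ t = D.ρ t * ∑ l : Fin d, A l ⟨0, hd0⟩ • (N + E) ^ l.val := by
      conv_lhs => rw [hAsum]
      rw [Finset.sum_mul, Finset.mul_sum]
      exact Finset.sum_congr rfl fun l _ => by rw [smul_mul_assoc, hpow, mul_smul_comm]
    have h3 : D.ρ t⁻¹ * (D.ρ t * A) = D.ρ t⁻¹ * (D.ρ t * ∑ l : Fin d, A l ⟨0, hd0⟩ • (N + E) ^ l.val) := by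
      rw [← h1, h2]
    rw [← mul_assoc, ← mul_assoc, ← map_mul, inv_mul_cancel, map_one, one_mul, one_mul] at h3
    simp only [smul_sub, Finset.sum_sub_distrib]
    rw [← h3, ← hAsum, sub_self]
  have hk2 := K.two_le
  have hkd := K.k_lt
  set r : Fin d := ⟨2 * K.k - 1, by omega⟩ with hr
  have h := congrFun (congrFun hzero r) ⟨0, hd0⟩
  rw [Matrix.sum_apply, Finset.sum_eq_single (⟨K.k, hkd⟩ : Fin d)] at h
  · obtain ⟨k₁, hk₁⟩ : ∃ k₁, K.k = k₁ + 1 := ⟨K.k - 1, by omega⟩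
    have h1 := (pow_add_sub hGeE (by omega) hNE k₁).2 r ⟨0, hd0⟩ (by simp [hr]; omega)
    rw [Matrix.sub_apply, sub_eq_zero, ← hk₁, Matrix.smul_apply] at h1
    rw [Matrix.smul_apply] at h
    rw [show (⟨K.k, hkd⟩ : Fin d).val = K.k from rfl, h1] at h
    have hAk : A ⟨K.k, hkd⟩ ⟨0, hd0⟩ = K.γ := by
      rw [hA, Matrix.sub_apply, K.lead _ _ (by simp), Matrix.one_apply_ne (by simp; omega), sub_zero]
    have hEk : E ⟨K.k, hkd⟩ ⟨0, hd0⟩ = (b : ZMod p) * K.γ := by
      have hne' : (⟨K.k, hkd⟩ : Fin d) ≠ ⟨0, hd0⟩ := by simp; omega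
      have hZ : (D.ρ (K.z ^ b) - 1) ⟨K.k, hkd⟩ ⟨0, hd0⟩ = (b : ZMod p) * K.γ := by
        have h2 := K.ge_z.pow_sub_linear b (⟨K.k, hkd⟩ : Fin d) ⟨0, hd0⟩ (by simp; omega)
        rw [Matrix.sub_apply, sub_eq_zero, Matrix.smul_apply, ← hA, hAk, smul_eq_mul] at h2
        rw [map_pow]
        exact h2
      have hN1 : ((D.ρ (K.z ^ b) - 1) * N) ⟨K.k, hkd⟩ ⟨0, hd0⟩ = 0 := by
        rw [map_pow]
        exact ((K.ge_z.pow_sub_one b).mul (ge_shift 1)) _ _ (by simp)
      rw [hE, mul_add, mul_one, Matrix.add_apply, hZ, hN1, add_zero]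
    have hlead : (N ^ k₁ * E) r ⟨0, hd0⟩ = (b : ZMod p) * K.γ := by
      rw [hN, shift_one_pow, Ge.mul_apply_lead (ge_shift k₁) hGeE (l := ⟨K.k, hkd⟩) (by simp)
        (by simp [hr]; omega), shift_apply, if_pos (by simp [hr]; omega), one_mul, hEk]
    rw [hlead, hAk, smul_eq_mul, smul_eq_mul] at h
    rcases mul_eq_zero.1 h with h' | h'
    · exact K.γ_ne h'
    rcases mul_eq_zero.1 h' with h'' | h''
    · rw [ZMod.natCast_eq_zero_iff] at h''
      exact absurd (Nat.le_of_dvd (by omega) h'') (by omega)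
    · exact mul_ne_zero hb K.γ_ne h''
  · intro l _ hl
    rw [Matrix.smul_apply]
    rcases lt_or_gt_of_ne (fun e => hl (Fin.ext e) : l.val ≠ K.k) with h1 | h1
    · rw [hA, K.ge_z l ⟨0, hd0⟩ (by simpa using h1), zero_smul]
    · obtain ⟨l', hl'⟩ : ∃ l', l.val = l' + 1 := ⟨l.val - 1, by omega⟩
      rw [hl', (pow_add_sub hGeE (by omega) hNE l').1 r ⟨0, hd0⟩ (by simp [hr]; omega), smul_zero]
  · exact fun h => absurd (Finset.mem_univ _) h

end Datum

end Cfsg.Agent.RegularSE
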