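import Cfsg.Agent.Lib.RegularSE.AbelianAux
import Mathlib.FieldTheory.Finite.Basic

/-!
An abelian Sylow subgroup of order `p ^ 2` with a regular element: for a central element of small
degree the trace of a suitable tensor spans an invariant flag subspace.
-/

set_option autoImplicit false
set_option linter.unusedSectionVars false

namespace Cfsg.Agent.RegularSE

open Matrix

namespace Datum

variable {p : ℕ} [hp : Fact p.Prime] {d : ℕ} {G : Type*} [Group G] [Finite G] (D : Datum p d G)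

/-- A flag subspace invariant under the group. -/
def HasInvariantFlag : Prop :=
  ∃ r : ℕ, 0 < r ∧ r < d ∧ ∀ (g : G) (a c : Fin d), a.val < r → r ≤ c.val → D.ρ g a c = 0

theorem rho_inv_mul (g : G) : D.ρ g⁻¹ * D.ρ g = 1 := by rw [← map_mul, inv_mul_cancel, map_one]

theorem rho_mul_inv (g : G) : D.ρ g * D.ρ g⁻¹ = 1 := by rw [← map_mul, mul_inv_cancel, map_one]

theorem raises_rho {g : G} {s : ℕ} (h : Ge s (D.ρ g - 1)) :
    Raises (fun r : Fin d => (r.val : ℤ)) (s : ℤ) (D.ρ g - 1) :=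
  fun r c hrc => h r c (by simp at hrc; omega)

variable (hdp : d ≤ p) (K : D.Kit)

/-- An invariant nonzero subspace killing the first coordinate gives an invariant flag subspace. -/
theorem flag_of_submodule (W : Submodule (ZMod p) (Fin d → ZMod p))
    (hW0 : ∀ v ∈ W, ∀ a : Fin d, a.val = 0 → v a = 0) (hne : W ≠ ⊥)
    (hinv : ∀ g : G, ∀ v ∈ W, D.ρ g *ᵥ v ∈ W) : D.HasInvariantFlag := by
  classical
  obtain ⟨v₀, hv₀, hv₀0⟩ := Submodule.exists_mem_ne_zero_of_ne_bot hne
  have hex : ∃ r : ℕ, ∃ v ∈ W, ∃ a : Fin d, a.val = r ∧ v a ≠ 0 := by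
    obtain ⟨a, ha⟩ := Function.ne_iff.1 hv₀0
    exact ⟨a.val, v₀, hv₀, a, rfl, ha⟩
  obtain ⟨v, hv, a₀, ha₀, hva⟩ := Nat.find_spec hex
  set r := Nat.find hex with hr
  have hlow : ∀ u ∈ W, ∀ a : Fin d, a.val < r → u a = 0 := fun u hu a ha => by
    by_contra h
    exact Nat.find_min hex ha ⟨u, hu, a, rfl, h⟩
  have hN : ∀ u ∈ W, shift (ZMod p) d 1 *ᵥ u ∈ W := fun u hu => by
    have h := W.sub_mem (hinv D.x u hu) hu
    rwa [D.rho_x, Matrix.add_mulVec, Matrix.one_mulVec, add_sub_cancel_left] at h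
  have hNl : ∀ l : ℕ, shift (ZMod p) d l *ᵥ v ∈ W := fun l => by
    induction l with
    | zero => rwa [shift_zero, Matrix.one_mulVec]
    | succ l ih =>
      rw [Nat.add_comm, ← shift_mul_shift, ← Matrix.mulVec_mulVec]
      exact hN _ ih
  have hbasis : ∀ n : ℕ, ∀ b : Fin d, d ≤ b.val + n → r ≤ b.val → Pi.single b (1 : ZMod p) ∈ W := by
    intro n
    induction n with
    | zero => intro b hb; omega
    | succ n ih =>
      intro b hb hrb
      set u := shift (ZMod p) d (b.val - r) *ᵥ v with hu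
      have hub : u b = v a₀ := by
        rw [hu, Matrix.mulVec, dotProduct, Finset.sum_eq_single a₀]
        · rw [shift_apply, if_pos (by omega), one_mul]
        · intro i _ hi
          rw [shift_apply, if_neg (fun e => hi (Fin.ext (by omega))), zero_mul]
        · exact fun h => absurd (Finset.mem_univ _) h
      have hlt : ∀ i : Fin d, i.val < b.val → u i = 0 := by
        intro i hi
        rw [hu, Matrix.mulVec, dotProduct]
        refine Finset.sum_eq_zero fun l _ => ?_
        rw [shift_apply]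
        split_ifs with h
        · rw [hlow v hv l (by omega), mul_zero]
        · rw [zero_mul]
      have hrest : u - ∑ i ∈ Finset.univ.filter (fun i : Fin d => b.val < i.val), u i • Pi.single i (1 : ZMod p)
          = u b • Pi.single b (1 : ZMod p) := by
        ext i
        rw [Pi.sub_apply, Finset.sum_apply, Pi.smul_apply]
        simp only [Pi.smul_apply, Pi.single_apply, smul_eq_mul, mul_ite, mul_one, mul_zero,
          Finset.sum_ite_eq, Finset.mem_filter, Finset.mem_univ, true_and]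
        rcases lt_trichotomy i.val b.val with h | h | h
        · rw [if_neg (by omega), if_neg (fun e => by subst e; omega), hlt i h, sub_zero]
        · obtain rfl : i = b := Fin.ext h
          simp
        · rw [if_pos h, if_neg (fun e => by subst e; omega), sub_self]
      have hmem : u b • Pi.single b (1 : ZMod p) ∈ W := by
        rw [← hrest]
        refine W.sub_mem (hNl _) (W.sum_mem fun i hi => W.smul_mem _ (ih i ?_ ?_))
        · have := (Finset.mem_filter.1 hi).2; omega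
        · have := (Finset.mem_filter.1 hi).2; omega
      have h2 := W.smul_mem (u b)⁻¹ hmem
      rwa [smul_smul, inv_mul_cancel₀ (hub ▸ hva), one_smul] at h2
  refine ⟨r, Nat.pos_of_ne_zero fun h0 => hva (hW0 v hv a₀ (by omega)), by omega, fun g a c ha hc => ?_⟩
  have h := hlow _ (hinv g _ (hbasis d c (by omega) hc)) a ha
  rwa [Matrix.mulVec_single_one] at h

include hdp K

theorem card_T (hab : ∀ a ∈ D.T, ∀ b ∈ D.T, a * b = b * a) : Nat.card (D.T : Subgroup G) = p ^ 2 := by
  have h : ((D.T : Subgroup G) ⊓ Subgroup.centralizer {D.x} : Subgroup G) = (D.T : Subgroup G) :=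
    inf_eq_left.2 fun t ht => Subgroup.mem_centralizer_singleton_iff.2 (hab t ht _ D.x_mem)
  rw [← D.card_cent, h]

/-- A normalizing element is lower triangular with geometric diagonal. -/
theorem normalizer_shape {n : G} (hn : n ∈ Subgroup.normalizer ((D.T : Subgroup G) : Set G))
    (hab : ∀ a ∈ D.T, ∀ b ∈ D.T, a * b = b * a) :
    BL 1 (D.ρ n) ∧ BL 1 (D.ρ n⁻¹) ∧ ∃ μ : ZMod p, μ ≠ 0 ∧ ∀ a c : Fin d, c.val = 0 →
      D.ρ n a a = μ ^ a.val * D.ρ n c c ∧ D.ρ n c c * D.ρ n⁻¹ c c = 1 := by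
  have hd : 2 ≤ d := D.two_le_dim hdp
  have key : ∀ m : G, m ∈ Subgroup.normalizer ((D.T : Subgroup G) : Set G) →
      ∃ M' : Matrix (Fin d) (Fin d) (ZMod p), Ge 1 M' ∧ (∃ μ : ZMod p, ∀ r c : Fin d, r.val = c.val + 1 → M' r c = μ) ∧
        D.ρ m * shift (ZMod p) d 1 = M' * D.ρ m := by
    intro m hm
    have hy : m * D.x * m⁻¹ ∈ D.T := (Subgroup.mem_normalizer_iff.1 hm _).1 D.x_mem
    obtain ⟨a, b, hab'⟩ := K.decomp _ hy (hab _ hy _ D.x_mem)
    refine ⟨D.ρ (m * D.x * m⁻¹) - 1, D.tri hy, ⟨(a : ZMod p), fun r c hrc => ?_⟩, ?_⟩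
    · rw [hab', Matrix.sub_apply, Matrix.one_apply_ne (fun e => by subst e; omega), sub_zero,
        D.first_add hdp (pow_mem D.x_mem a) (pow_mem K.z_mem b) r c hrc, D.first_pow hdp D.x_mem r c hrc,
        D.first_pow hdp K.z_mem r c hrc]
      have h := K.ge_z r c (by have := K.two_le; omega)
      rw [Matrix.sub_apply, Matrix.one_apply_ne (fun e => by subst e; omega), sub_zero] at h
      rw [h, mul_zero, add_zero, D.rho_x, Matrix.add_apply, Matrix.one_apply_ne (fun e => by subst e; omega),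
        zero_add, shift_apply, if_pos hrc, mul_one]
    · rw [sub_mul, one_mul, ← map_mul, show m * D.x * m⁻¹ * m = m * D.x by group, map_mul, D.rho_x,
        mul_add, mul_one, add_sub_cancel_left]
  have hbl : ∀ m : G, m ∈ Subgroup.normalizer ((D.T : Subgroup G) : Set G) → BL 1 (D.ρ m) := fun m hm => by
    obtain ⟨M', hM', -, he⟩ := key m hm
    exact bl_of_intertwine one_ne_zero (ge_shift 1) (fun r c h => by rw [shift_apply, if_pos h]) hM' he
  have hge : ∀ m : G, m ∈ Subgroup.normalizer ((D.T : Subgroup G) : Set G) → Ge 0 (D.ρ m) :=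
    fun m hm r c h => hbl m hm r c (by simpa using h)
  refine ⟨hbl n hn, hbl _ (inv_mem hn), ?_⟩
  obtain ⟨M', hM', ⟨μ, hμ⟩, he⟩ := key n hn
  have hstep : ∀ c : Fin d, ∀ h : c.val + 1 < d,
      D.ρ n ⟨c.val + 1, h⟩ ⟨c.val + 1, h⟩ = μ * D.ρ n c c := by
    intro c h
    have h' := congrFun (congrFun he ⟨c.val + 1, h⟩) c
    rw [Ge.mul_apply_lead (hge n hn) (ge_shift 1) (l := ⟨c.val + 1, h⟩) rfl (by simp),
      Ge.mul_apply_lead hM' (hge n hn) (l := c) (by simp) (by simp), shift_apply, if_pos rfl, mul_one,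
      hμ _ c rfl] at h'
    exact h'
  have hdiag : ∀ (l : ℕ) (a c : Fin d), a.val = l → c.val = 0 → D.ρ n a a = μ ^ l * D.ρ n c c := by
    intro l
    induction l with
    | zero => intro a c ha hc; rw [show a = c from Fin.ext (by omega), pow_zero, one_mul]
    | succ l ih =>
      intro a c ha hc
      have h := hstep ⟨l, by omega⟩ (by simp; omega)
      rw [ih ⟨l, by omega⟩ c rfl hc] at h
      rw [show a = ⟨l + 1, by omega⟩ from Fin.ext ha, pow_succ', mul_assoc]
      exact h
  have hunit : ∀ c : Fin d, D.ρ n c c * D.ρ n⁻¹ c c = 1 := fun c => by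
    have h := congrFun (congrFun (D.rho_mul_inv n) c) c
    rwa [Ge.mul_apply_lead (hge n hn) (hge _ (inv_mem hn)) (l := c) rfl rfl, Matrix.one_apply_eq] at h
  refine ⟨μ, fun h0 => ?_, fun a c hc => ⟨hdiag a.val a c rfl hc, hunit c⟩⟩
  have h := hunit ⟨1, hd⟩
  rw [hdiag 1 ⟨1, hd⟩ ⟨0, by omega⟩ rfl rfl, h0, pow_one, zero_mul, zero_mul] at h
  exact zero_ne_one h

/-- The centralizer of a nontrivial element of `T` is block lower triangular. -/
theorem centralizer_shape (hab : ∀ a ∈ D.T, ∀ b ∈ D.T, a * b = b * a) {r c : G} (hr : r ∈ D.T)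
    (hr1 : r ≠ 1) (hc : c * r = r * c) : BL K.k (D.ρ c) := by
  obtain ⟨a, b, rfl⟩ := K.decomp r hr (hab r hr _ D.x_mem)
  have hcomm : D.ρ c * (D.ρ (D.x ^ a * K.z ^ b) - 1) = (D.ρ (D.x ^ a * K.z ^ b) - 1) * D.ρ c := by
    rw [mul_sub, sub_mul, mul_one, one_mul, ← map_mul, ← map_mul, hc]
  by_cases ha : (a : ZMod p) = 0
  · obtain ⟨a', rfl⟩ := (ZMod.natCast_eq_zero_iff _ _).1 ha
    rw [pow_mul, D.pow_p hdp D.x_mem, one_pow, one_mul] at hr1 hcomm
    have hb : (b : ZMod p) ≠ 0 := fun hb0 => by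
      obtain ⟨b', rfl⟩ := (ZMod.natCast_eq_zero_iff _ _).1 hb0
      exact hr1 (by rw [pow_mul, D.pow_p hdp K.z_mem, one_pow])
    refine bl_of_intertwine (mul_ne_zero hb K.γ_ne) ?_ (fun r c hrc => ?_) ?_ hcomm
    · rw [map_pow]; exact K.ge_z.pow_sub_one b
    · have h := (K.ge_z.pow_sub_linear b) r c (by have := K.two_le; omega)
      have hne : r ≠ c := fun e => by subst e; have := K.two_le; omega
      rw [Matrix.sub_apply, Matrix.smul_apply, Matrix.sub_apply, Matrix.one_apply_ne hne, sub_zero,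
        Matrix.sub_apply, Matrix.one_apply_ne hne, sub_zero, K.lead r c hrc, sub_eq_zero, smul_eq_mul] at h
      rw [map_pow, Matrix.sub_apply, Matrix.one_apply_ne hne, sub_zero, h]
    · rw [map_pow]; exact K.ge_z.pow_sub_one b
  · refine bl_of_ge (bl_of_intertwine ha (D.tri hr) (fun r c hrc => ?_) (D.tri hr) hcomm)
    rw [Matrix.sub_apply, Matrix.one_apply_ne (fun e => by subst e; omega), sub_zero,
      D.first_add hdp (pow_mem D.x_mem a) (pow_mem K.z_mem b) r c hrc, D.first_pow hdp D.x_mem r c hrc,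
      D.first_pow hdp K.z_mem r c hrc]
    have h := K.ge_z r c (by have := K.two_le; omega)
    rw [Matrix.sub_apply, Matrix.one_apply_ne (fun e => by subst e; omega), sub_zero] at h
    rw [h, mul_zero, add_zero, D.rho_x, Matrix.add_apply, Matrix.one_apply_ne (fun e => by subst e; omega),
      zero_add, shift_apply, if_pos hrc, mul_one]

/-- The slot of a normalizing element. -/
theorem slot_shape {n : G} (hn : n ∈ Subgroup.normalizer ((D.T : Subgroup G) : Set G))
    (hab : ∀ a ∈ D.T, ∀ b ∈ D.T, a * b = b * a) (r : ℕ) :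
    Ge r (D.ρ n * shift (ZMod p) d r * D.ρ n⁻¹) := by
  obtain ⟨h1, h2, -⟩ := D.normalizer_shape hdp K hn hab
  have e : ∀ {M : Matrix (Fin d) (Fin d) (ZMod p)}, BL 1 M → Ge 0 M := fun hM a b h => hM a b (by simpa using h)
  exact (((e h1).mul (ge_shift r)).mul (e h2)).mono (by omega)

/-- Small degree: an invariant flag subspace. -/
theorem hasInvariantFlag_of_small (h5 : 5 ≤ p) (hab : ∀ a ∈ D.T, ∀ b ∈ D.T, a * b = b * a)
    (hk : 2 * K.k < d) : D.HasInvariantFlag := by
  classical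
  have hk2 := K.two_le
  set j := (p - 1 + (d - 2)) / (d - 1) with hj
  have hj1 := Nat.div_add_mod (p - 1 + (d - 2)) (d - 1)
  have hj2 := Nat.mod_lt (p - 1 + (d - 2)) (show 0 < d - 1 by omega)
  rw [← hj, Nat.mul_comm] at hj1
  clear_value j
  clear hj
  have hjpos : 1 ≤ j := by
    by_contra h
    rw [show j = 0 by omega, zero_mul] at hj1
    omega
  have hjk : j * K.k ≤ p - 1 := by
    have : j * (2 * K.k) ≤ j * (d - 1) := Nat.mul_le_mul_left j (by omega)
    rw [show j * (2 * K.k) = 2 * (j * K.k) by ring] at this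
    omega
  obtain ⟨f, hf, hf'⟩ := exists_split K.k (d - 1) j (p - 1) hjk (by omega)
  obtain ⟨j', hj'⟩ : ∃ j', j = j' + 1 := ⟨j - 1, by omega⟩
  set A := conjRep D.ρ with hA
  set P := tpow A j with hP
  set m : (Fin j → Fin d × Fin d) → ZMod p := pureT fun l => flat (shift (ZMod p) d (f l)) with hm
  have hpure : ∀ g : G, P g *ᵥ m = pureT fun l => flat (D.ρ g * shift (ZMod p) d (f l) * D.ρ g⁻¹) :=
    fun g => by
      rw [hP, hm, tpow_pureT]
      simp only [hA, conjRep_flat]
  have hfix : ∀ t ∈ D.T, P t *ᵥ m = m := fun t ht => by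
    rw [hpure, hm]
    congr 1
    funext l
    have hc := D.rho_commute hdp (hab t ht _ D.x_mem)
    rw [← shift_one_pow, ((Commute.pow_right (show Commute (D.ρ t) (shift (ZMod p) d 1) from hc)) (f l)).eq,
      mul_assoc, D.rho_mul_inv, mul_one]
  have hbound : ∀ q : Fin j → Fin d × Fin d, -((j * (d - 1) : ℕ) : ℤ) ≤ wt degPair q := by
    intro q
    have h : ∀ l ∈ (Finset.univ : Finset (Fin j)), -((d - 1 : ℕ) : ℤ) ≤ degPair (q l) := fun l _ => by
      unfold degPair
      have := (q l).2.2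
      omega
    refine le_trans (le_of_eq ?_) (Finset.card_nsmul_le_sum _ _ _ h)
    rw [Finset.card_univ, Fintype.card_fin, nsmul_eq_mul, Nat.cast_mul]
    ring
  have hge : ∀ {g : G} {s : ℕ}, 1 ≤ s → g ∈ D.T → Ge s (D.ρ g - 1) → Raises (wt degPair) (s : ℤ) (P g - 1) := by
    intro g s hs hg hgs
    refine raises_tpow (by omega) (raises_conjRep hs hgs ?_) j
    rw [show g⁻¹ = g ^ (p - 1) from inv_eq_of_mul_eq_one_right (by
      rw [← pow_succ', Nat.sub_add_cancel hp.out.one_le, D.pow_p hdp hg]), map_pow]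
    exact hgs.pow_sub_one _
  have hxge : Ge 1 (D.ρ D.x - 1) := D.tri D.x_mem
  have hp1 : ((p - 1 : ℕ) : ℤ) = (p : ℤ) - 1 := by omega
  obtain ⟨F, hF, hFn, hw⟩ := trT_split (P := P) (T := (D.T : Subgroup G)) (m := m) (δ := wt degPair)
    (x := D.x) (z := K.z) (k := (K.k : ℤ)) (L := (p : ℤ)) (e₀ := -((j * (d - 1) : ℕ) : ℤ)) (e₁ := (j : ℤ))
    (by omega) hfix D.x_mem K.z_mem (D.pow_p hdp D.x_mem) (D.pow_p hdp K.z_mem) (D.card_T hdp K hab)
    (fun t ht => K.decomp t ht (hab t ht _ D.x_mem)) (K.central _ D.x_mem).symm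
    (hge le_rfl D.x_mem hxge) (hge (by omega) K.z_mem K.ge_z)
    (fun g q hq => absurd (hbound q) (by omega))
    (fun g _ ⟨r, hr, hr1, hgr⟩ => by
      obtain ⟨c, n, rfl, hcr, hn⟩ := D.exists_factor hab hr hgr
      have hc1 := D.centralizer_shape hdp K hab hr hr1 hcr
      have hc2 := D.centralizer_shape hdp K hab hr hr1
        (show c⁻¹ * r = r * c⁻¹ from (Commute.inv_left (show Commute c r from hcr)).eq)
      rw [map_mul, ← Matrix.mulVec_mulVec, hpure, hP, tpow_pureT]
      simp only [hA, conjRep_flat]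
      refine (fil_pureT (r := fun _ => (1 : ℤ)) fun l i hi => ?_).mono (by simp)
      have hX : BU K.k (D.ρ n * shift (ZMod p) d (f l) * D.ρ n⁻¹) :=
        bu_of_ge (by omega) (hf' l).1 (D.slot_shape hdp K hn hab (f l))
      exact ge_of_bu (hc1.mul_BU_mul hX hc2) i.1 i.2 (by simp [degPair] at hi; omega))
    (by
      have h1 : j * (d - 1) ≤ 2 * p - 3 := by omega
      have h2 : (2 : ℤ) ≤ K.k := by omega
      have h3 : ((p : ℤ) - 1) * 3 ≤ ((p - 1 : ℕ) : ℤ) * (1 + K.k) := by
        rw [hp1]; exact mul_le_mul_of_nonneg_left (by omega) (by omega)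
      omega)
    (by omega) D.T.not_dvd_index
  set w := trT P (D.T : Subgroup G) m with hwdef
  -- the normalizing cosets
  have hfil : ∀ n ∈ F, Fil (wt degPair) ((p : ℤ) - 1) (P n *ᵥ m) := fun n hn => by
    rw [hpure]
    refine (fil_pureT (r := fun l => (f l : ℤ)) fun l i hi => ?_).mono ?_
    · exact D.slot_shape hdp K (hFn n hn) hab (f l) i.1 i.2 (by simp [degPair] at hi; omega)
    · rw [← Nat.cast_sum, hf]; omega
  have hwfil : Fil (wt degPair) ((p : ℤ) - 1) w := by
    have h : w = (w - ∑ n ∈ F, P n *ᵥ m) + ∑ n ∈ F, P n *ᵥ m := (sub_add_cancel _ _).symm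
    rw [h]
    exact (hw.mono (by omega)).add (Fil.sum hfil)
  let q₀ : Fin j → Fin d × Fin d := fun l => (⟨f l, by have := (hf' l).2; omega⟩, ⟨0, by omega⟩)
  have hq₀ : wt degPair q₀ = (p : ℤ) - 1 := by
    simp only [wt, degPair, q₀, Nat.cast_zero, sub_zero]
    rw [← Nat.cast_sum, hf]; omega
  have hval : w q₀ = (F.card : ZMod p) := by
    have h := hw q₀ (by rw [hq₀]; omega)
    rw [Pi.sub_apply, sub_eq_zero, Finset.sum_apply] at h
    rw [h, Finset.card_eq_sum_ones, Nat.cast_sum]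
    refine Finset.sum_congr rfl fun n hn => ?_
    rw [hpure, pureT]
    obtain ⟨hn1, hn2, μ, hμ, hdg⟩ := D.normalizer_shape hdp K (hFn n hn) hab
    have e : ∀ {M : Matrix (Fin d) (Fin d) (ZMod p)}, BL 1 M → Ge 0 M := fun hM a b h => hM a b (by simpa using h)
    have hl : ∀ l, flat (D.ρ n * shift (ZMod p) d (f l) * D.ρ n⁻¹) (q₀ l) = μ ^ f l := fun l => by
      show (D.ρ n * shift (ZMod p) d (f l) * D.ρ n⁻¹) (q₀ l).1 (q₀ l).2 = _
      rw [Ge.mul_apply_lead ((e hn1).mul (ge_shift (f l))) (e hn2) (l := (q₀ l).2) rfl (by simp [q₀]),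
        Ge.mul_apply_lead (e hn1) (ge_shift (f l)) (l := (q₀ l).1) (by simp [q₀]) (by simp [q₀]),
        shift_apply, if_pos (by simp [q₀]), mul_one, (hdg (q₀ l).1 (q₀ l).2 rfl).1, mul_assoc,
        (hdg (q₀ l).1 (q₀ l).2 rfl).2, mul_one]
    simp only [hl, Finset.prod_pow_eq_pow_sum, hf, ZMod.pow_card_sub_one_eq_one hμ, Nat.cast_one]
  -- the slices of the trace
  subst hj'
  let S : Set (Fin d → ZMod p) :=
    Set.range fun cq : Fin d × (Fin j' → Fin d × Fin d) => fun a => w (Fin.cons (a, cq.1) cq.2)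
  refine D.flag_of_submodule (Submodule.span (ZMod p) S) ?_ ?_ ?_
  · intro v hv a ha
    induction hv using Submodule.span_induction with
    | mem u hu =>
      obtain ⟨⟨c, q⟩, rfl⟩ := hu
      refine hwfil _ ?_
      have h : ∀ l ∈ (Finset.univ : Finset (Fin j')), degPair (q l) ≤ ((d - 1 : ℕ) : ℤ) := fun l _ => by
        unfold degPair
        have := (q l).1.2
        omega
      have h' := Finset.sum_le_card_nsmul _ _ _ h
      rw [Finset.card_univ, Fintype.card_fin, nsmul_eq_mul] at h'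
      rw [wt, Fin.sum_univ_succ]
      simp only [Fin.cons_zero, Fin.cons_succ]
      have h2 : degPair (a, c) ≤ 0 := by unfold degPair; simp [ha]
      have h3 : (j' : ℤ) * ((d - 1 : ℕ) : ℤ) < (p : ℤ) - 1 := by
        have : j' * (d - 1) < p - 1 := by rw [Nat.succ_mul] at hj1; omega
        rw [← Nat.cast_mul]; omega
      omega
    | zero => rfl
    | add u v _ _ hu hv => rw [Pi.add_apply, hu, hv, add_zero]
    | smul s u _ hu => rw [Pi.smul_apply, hu, smul_zero]
  · intro h
    have hmem : (fun a => w (Fin.cons (a, (q₀ 0).2) (Fin.tail q₀))) ∈ Submodule.span (ZMod p) S :=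
      Submodule.subset_span ⟨((q₀ 0).2, Fin.tail q₀), rfl⟩
    rw [h, Submodule.mem_bot] at hmem
    have := congrFun hmem (q₀ 0).1
    simp only [Prod.mk.eta, Fin.cons_self_tail, Pi.zero_apply, hval] at this
    exact hF ((ZMod.natCast_eq_zero_iff _ _).1 this)
  · intro g v hv
    induction hv using Submodule.span_induction with
    | mem u hu =>
      obtain ⟨⟨c, q⟩, rfl⟩ := hu
      -- write the slice through `ρ g⁻¹`
      let v' : Fin d → ZMod p := ∑ cq : Fin d × (Fin j' → Fin d × Fin d),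
        (D.ρ g cq.1 c * tpow A j' g⁻¹ q cq.2) • fun a => w (Fin.cons (a, cq.1) cq.2)
      have hv' : v' ∈ Submodule.span (ZMod p) S :=
        Submodule.sum_mem _ fun cq _ => Submodule.smul_mem _ _ (Submodule.subset_span ⟨cq, rfl⟩)
      suffices h : (fun a => w (Fin.cons (a, c) q)) = D.ρ g⁻¹ *ᵥ v' by
        show D.ρ g *ᵥ (fun a => w (Fin.cons (a, c) q)) ∈ Submodule.span (ZMod p) S
        rw [h, Matrix.mulVec_mulVec, D.rho_mul_inv, Matrix.one_mulVec]
        exact hv'
      funext a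
      conv_lhs => rw [hwdef, ← trT_invariant hfix g⁻¹, ← hwdef]
      simp only [Matrix.mulVec, dotProduct, v', Finset.sum_apply, Pi.smul_apply, smul_eq_mul, Finset.mul_sum,
        Fintype.sum_prod_type]
      rw [← Fintype.sum_equiv (Fin.consEquiv fun _ : Fin (j' + 1) => Fin d × Fin d)
        (fun x => P g⁻¹ (Fin.cons (a, c) q) (Fin.cons x.1 x.2) * w (Fin.cons x.1 x.2)) _ (fun _ => rfl),
        Fintype.sum_prod_type, Fintype.sum_prod_type]
      refine Finset.sum_congr rfl fun i _ => Finset.sum_congr rfl fun i' _ => Finset.sum_congr rfl fun r _ => ?_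
      simp only [hP, tpow_apply, Fin.prod_univ_succ, Fin.cons_zero, Fin.cons_succ, hA, conjRep_apply, inv_inv]
      ring
    | zero => rw [Matrix.mulVec_zero]; exact Submodule.zero_mem _
    | add u v _ _ hu hv => rw [Matrix.mulVec_add]; exact Submodule.add_mem _ hu hv
    | smul s u _ hu => rw [Matrix.mulVec_smul]; exact Submodule.smul_mem _ _ hu

/-- Dimension three: the fixed line is invariant. -/
theorem hasInvariantFlag_of_three (h5 : 5 ≤ p) (hab : ∀ a ∈ D.T, ∀ b ∈ D.T, a * b = b * a)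
    (hd : d = 3) : D.HasInvariantFlag := by
  classical
  subst hd
  have hk : K.k = 2 := le_antisymm (Nat.lt_succ_iff.1 K.k_lt) K.two_le
  set j := p - 1 with hj
  set P := tpow D.ρ j with hP
  let e₂ : Fin 3 → ZMod p := Pi.single 2 1
  set m : (Fin j → Fin 3) → ZMod p := pureT fun _ => e₂ with hm
  set δ : Fin 3 → ℤ := fun r => (r.val : ℤ) with hδ
  have hcol : ∀ g : G, D.ρ g *ᵥ e₂ = fun a => D.ρ g a 2 := fun g => Matrix.mulVec_single_one _ _
  have hpure : ∀ g : G, P g *ᵥ m = pureT fun _ a => D.ρ g a 2 := fun g => by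
    rw [hP, hm, tpow_pureT, hcol]
  have hlow : ∀ n : G, (∀ a : Fin 3, a.val < 2 → D.ρ n a 2 = 0) →
      ∀ q : Fin j → Fin 3, wt δ q < 2 * (j : ℤ) → (P n *ᵥ m) q = 0 := by
    intro n hn
    rw [hpure]
    refine (fil_pureT (r := fun _ => (2 : ℤ)) fun l i hi => hn i (by simp [hδ] at hi; omega)).mono
      (by simp; ring_nf; exact le_rfl)
  have hfix : ∀ t ∈ D.T, P t *ᵥ m = m := fun t ht => by
    rw [hpure, hm]
    congr 1
    funext l a
    have h := D.tri ht a 2 (by simp)
    rw [Matrix.sub_apply, sub_eq_zero] at h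
    rw [h, Matrix.one_apply]
    exact (Pi.single_apply 2 (1 : ZMod p) a).symm
  have hpos : ∀ q : Fin j → Fin 3, (0 : ℤ) ≤ wt δ q := fun q =>
    Finset.sum_nonneg fun l _ => by simp [hδ]
  have hge : ∀ {g : G} {s : ℕ}, 1 ≤ s → Ge s (D.ρ g - 1) → Raises (wt δ) (s : ℤ) (P g - 1) :=
    fun hs hgs => raises_tpow (by omega) (D.raises_rho hgs) j
  have hjp : (j : ℤ) = (p : ℤ) - 1 := by omega
  have hcol2 : ∀ {M : Matrix (Fin 3) (Fin 3) (ZMod p)} {e : ℕ}, BL e M → (e = 1 ∨ e = 2) →
      ∀ a : Fin 3, a.val < 2 → M a 2 = 0 := by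
    intro M e hM he a ha
    refine hM a 2 ?_
    rcases he with rfl | rfl <;> simp <;> omega
  obtain ⟨F, hF, hFn, hw⟩ := trT_split (P := P) (T := (D.T : Subgroup G)) (m := m) (δ := wt δ)
    (x := D.x) (z := K.z) (k := (K.k : ℤ)) (L := 2 * (j : ℤ) + 1) (e₀ := 0) (e₁ := 2 * (j : ℤ))
    (by omega) hfix D.x_mem K.z_mem (D.pow_p hdp D.x_mem) (D.pow_p hdp K.z_mem) (D.card_T hdp K hab)
    (fun t ht => K.decomp t ht (hab t ht _ D.x_mem)) (K.central _ D.x_mem).symm
    (hge le_rfl (D.tri D.x_mem)) (hge (by omega) K.ge_z)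
    (fun g q hq => absurd (hpos q) (by omega))
    (fun g _ ⟨r, hr, hr1, hgr⟩ => by
      obtain ⟨c, n, rfl, hcr, hn⟩ := D.exists_factor hab hr hgr
      refine hlow _ fun a ha => ?_
      rw [map_mul, Matrix.mul_apply]
      refine Finset.sum_eq_zero fun l _ => ?_
      by_cases hl : l.val < 2
      · rw [hcol2 (D.normalizer_shape hdp K hn hab).1 (Or.inl rfl) l hl, mul_zero]
      · rw [show l = 2 from Fin.ext (by simp; omega),
          hcol2 (D.centralizer_shape hdp K hab hr hr1 hcr) (Or.inr hk) a ha, zero_mul])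
    (by rw [hk]; simp only [← hj]; push_cast; omega) (by simp only [← hj]; omega) D.T.not_dvd_index
  set w := trT P (D.T : Subgroup G) m with hwdef
  have hwfil : Fil (wt δ) (2 * (j : ℤ)) w := by
    have h : w = (w - ∑ n ∈ F, P n *ᵥ m) + ∑ n ∈ F, P n *ᵥ m := (sub_add_cancel _ _).symm
    rw [h]
    exact (hw.mono (by omega)).add (Fil.sum fun n hn =>
      hlow n (hcol2 (D.normalizer_shape hdp K (hFn n hn) hab).1 (Or.inl rfl)))
  let q₀ : Fin j → Fin 3 := fun _ => 2
  have hmax : ∀ q : Fin j → Fin 3, q ≠ q₀ → w q = 0 := by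
    intro q hq
    refine hwfil q ?_
    obtain ⟨l, hl⟩ := Function.ne_iff.1 hq
    have h1 : δ (q l) < 2 := by
      have : (q l).val ≠ 2 := fun e => hl (Fin.ext e)
      have := (q l).2
      simp [hδ]; omega
    calc wt δ q < ∑ _l : Fin j, (2 : ℤ) :=
          Finset.sum_lt_sum (fun i _ => by have := (q i).2; simp [hδ]; omega) ⟨l, Finset.mem_univ l, h1⟩
      _ = 2 * (j : ℤ) := by simp; ring
  have hval : w q₀ ≠ 0 := by
    have h := hw q₀ (by simp [wt, hδ, q₀]; omega)
    rw [Pi.sub_apply, sub_eq_zero, Finset.sum_apply] at h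
    rw [h]
    have e : ∀ n ∈ F, (P n *ᵥ m) q₀ = 1 := fun n hn => by
      rw [hpure, pureT]
      obtain ⟨h1, h2, μ, hμ, hdg⟩ := D.normalizer_shape hdp K (hFn n hn) hab
      obtain ⟨ha, hb⟩ := hdg 2 0 rfl
      simp only [q₀, Finset.prod_const, Finset.card_univ, Fintype.card_fin, hj]
      exact ZMod.pow_card_sub_one_eq_one (ha ▸ mul_ne_zero (pow_ne_zero _ hμ)
        (left_ne_zero_of_mul_eq_one hb))
    rw [Finset.sum_congr rfl e, Finset.sum_const, nsmul_eq_mul, mul_one]
    exact fun h0 => hF ((ZMod.natCast_eq_zero_iff _ _).1 h0)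
  refine ⟨2, by omega, by omega, fun g a c ha hc => ?_⟩
  obtain rfl : c = 2 := Fin.ext (by have := c.2; simp; omega)
  have hinv := trT_invariant hfix g
  have key : ∀ q : Fin j → Fin 3, (∏ l, D.ρ g (q l) 2) * w q₀ = w q := by
    intro q
    conv_rhs => rw [hwdef, ← hinv, ← hwdef]
    rw [Matrix.mulVec, dotProduct, Finset.sum_eq_single q₀]
    · rw [hP, tpow_apply]
    · intro q' _ hq'
      rw [hmax q' hq', mul_zero]
    · exact fun h => absurd (Finset.mem_univ _) h
  have h22 : D.ρ g 2 2 ≠ 0 := fun h0 => by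
    have h := key q₀
    simp only [q₀, h0, Finset.prod_const, Finset.card_univ, Fintype.card_fin, zero_pow (show j ≠ 0 by omega),
      zero_mul] at h
    exact hval h.symm
  by_contra hne
  let l₀ : Fin j := ⟨0, by omega⟩
  have h := key (Function.update q₀ l₀ a)
  rw [hmax (Function.update q₀ l₀ a) (fun e => by
    have h' := congrFun e l₀
    rw [Function.update_self] at h'
    change a = (2 : Fin 3) at h'
    rw [h'] at ha
    simp at ha)] at h
  rw [mul_eq_zero, or_iff_left hval, Finset.prod_eq_zero_iff] at h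
  obtain ⟨l, -, hl⟩ := h
  rw [Function.update_apply] at hl
  split_ifs at hl
  · exact hne hl
  · exact h22 hl

end Datum

end Cfsg.Agent.RegularSE
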