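import Cfsg.Agent.Lib.RegularSE.Level
import Mathlib.Tactic.Module
import Mathlib.Tactic.FieldSimp

/-!
The torus spanned by two quadratic operators `A`, `B` with `A B A = l A` and `B A B = l B`.
-/

set_option autoImplicit false
set_option linter.unusedSectionVars false

namespace Cfsg.Agent.RegularSE

section alg

variable {F : Type*} [Field F] {R : Type*} [Ring R] [Algebra F R]

/-- The torus element of the pair. -/
def tor (A B : R) (l w : F) : R := 1 + ((w - 1) / l) • (A * B) + ((w⁻¹ - 1) / l) • (B * A)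

/-- The Weyl element of the pair. -/
def wey (A B : R) (l t : F) : R := (1 + t • A) * (1 + (-(t * l)⁻¹) • B) * (1 + t • A)

variable {A B : R} {l : F}

theorem tor_mul (hA : A * A = 0) (hB : B * B = 0) (hABA : A * B * A = l • A) (hl : l ≠ 0)
    {v w : F} : tor A B l v * tor A B l w = tor A B l (v * w) := by
  rw [mul_assoc] at hABA
  have hA' : ∀ X : R, A * (A * X) = 0 := fun X => by rw [← mul_assoc, hA, zero_mul]
  have hB' : ∀ X : R, B * (B * X) = 0 := fun X => by rw [← mul_assoc, hB, zero_mul]
  have h' : ∀ X : R, A * (B * (A * X)) = l • (A * X) := fun X => by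
    rw [← mul_assoc B, ← mul_assoc A, hABA, smul_mul_assoc]
  simp only [tor, mul_add, add_mul, mul_one, one_mul, smul_mul_assoc, mul_smul_comm, smul_smul,
    mul_assoc, hA, hB, hA', hB', h', hABA, mul_zero, smul_zero, smul_add, add_zero, zero_add,
    mul_inv]
  match_scalars <;> field_simp <;> ring

theorem tor_one : tor A B l 1 = 1 := by simp [tor]

theorem tor_pow (hA : A * A = 0) (hB : B * B = 0) (hABA : A * B * A = l • A) (hl : l ≠ 0) (w : F) :
    ∀ n : ℕ, tor A B l w ^ n = tor A B l (w ^ n)
  | 0 => by rw [pow_zero, pow_zero, tor_one]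
  | n + 1 => by rw [pow_succ, pow_succ, tor_pow hA hB hABA hl w n, tor_mul hA hB hABA hl]

theorem tor_mul_left (hA : A * A = 0) (hABA : A * B * A = l • A) (hl : l ≠ 0) (w : F) :
    tor A B l w * A = w • A := by
  simp only [tor, add_mul, one_mul, smul_mul_assoc, hABA, mul_assoc B, hA, mul_zero, smul_zero,
    add_zero, smul_smul]
  match_scalars
  field_simp
  ring

theorem mul_tor (hA : A * A = 0) (hABA : A * B * A = l • A) (hl : l ≠ 0) (w : F) :
    A * tor A B l w = w⁻¹ • A := by
  simp only [tor, mul_add, mul_one, mul_smul_comm, ← mul_assoc, hABA, hA, zero_mul, smul_zero,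
    add_zero, smul_smul]
  match_scalars
  field_simp
  ring

theorem wey_mul (hA : A * A = 0) (hB : B * B = 0) (hABA : A * B * A = l • A)
    (hBAB : B * A * B = l • B) (hl : l ≠ 0) {t : F} (ht : t ≠ 0) :
    wey A B l t * wey A B l (-1) = tor A B l t := by
  rw [mul_assoc] at hABA hBAB
  have hA' : ∀ X : R, A * (A * X) = 0 := fun X => by rw [← mul_assoc, hA, zero_mul]
  have hB' : ∀ X : R, B * (B * X) = 0 := fun X => by rw [← mul_assoc, hB, zero_mul]
  have h' : ∀ X : R, A * (B * (A * X)) = l • (A * X) := fun X => by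
    rw [← mul_assoc B, ← mul_assoc A, hABA, smul_mul_assoc]
  have h'' : ∀ X : R, B * (A * (B * X)) = l • (B * X) := fun X => by
    rw [← mul_assoc A, ← mul_assoc B, hBAB, smul_mul_assoc]
  simp only [wey, tor, mul_add, add_mul, mul_one, one_mul, smul_mul_assoc, mul_smul_comm, smul_smul,
    mul_assoc, hA, hB, hA', hB', h', h'', hABA, hBAB, mul_zero, smul_zero, smul_add, add_zero, zero_add]
  match_scalars <;> field_simp <;> ring

theorem wey_inv (hA : A * A = 0) (hB : B * B = 0) (hABA : A * B * A = l • A)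
    (hBAB : B * A * B = l • B) (hl : l ≠ 0) :
    wey A B l 1 * wey A B l (-1) = 1 := by
  rw [wey_mul hA hB hABA hBAB hl one_ne_zero, tor_one]

/-- The Weyl element exchanges the two eigenspaces and fixes the third. -/
theorem mid_wey_mid (hA : A * A = 0) (hB : B * B = 0) (hABA : A * B * A = l • A)
    (hBAB : B * A * B = l • B) (hl : l ≠ 0) (t : F) :
    (l⁻¹ • (B * A)) * wey A B l t * (1 - l⁻¹ • (A * B) - l⁻¹ • (B * A)) = 0 := by
  rw [mul_assoc] at hABA hBAB
  have hA' : ∀ X : R, A * (A * X) = 0 := fun X => by rw [← mul_assoc, hA, zero_mul]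
  have hB' : ∀ X : R, B * (B * X) = 0 := fun X => by rw [← mul_assoc, hB, zero_mul]
  have h' : ∀ X : R, A * (B * (A * X)) = l • (A * X) := fun X => by
    rw [← mul_assoc B, ← mul_assoc A, hABA, smul_mul_assoc]
  have h'' : ∀ X : R, B * (A * (B * X)) = l • (B * X) := fun X => by
    rw [← mul_assoc A, ← mul_assoc B, hBAB, smul_mul_assoc]
  rcases eq_or_ne t 0 with rfl | ht <;>
  · simp only [wey, mul_sub, sub_mul, mul_add, add_mul, mul_one, one_mul, smul_mul_assoc,
      mul_smul_comm, smul_smul, mul_assoc, hA, hB, hA', hB', h', h'', hABA, hBAB, mul_zero, smul_zero,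
      smul_add, smul_sub, add_zero, zero_add, sub_zero, zero_smul, zero_sub]
    match_scalars <;> field_simp <;> ring

/-- Commuting with `A` and the torus element gives commuting with `B`. -/
theorem commute_of_tor (hA : A * A = 0) (hB : B * B = 0) (hABA : A * B * A = l • A)
    (hBAB : B * A * B = l • B) (hl : l ≠ 0) {w : F} (hw : w ≠ 0) (hw1 : w ≠ 1) (hw2 : w * w ≠ 1)
    {T : R} (hTA : T * A = A * T) (hTt : T * tor A B l w = tor A B l w * T) : T * B = B * T := by
  have hw1' : w⁻¹ ≠ 1 := fun h => hw1 (inv_eq_one.1 h)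
  have hTt2 : T * tor A B l (w * w) = tor A B l (w * w) * T := by
    rw [← tor_mul hA hB hABA hl, ← mul_assoc, hTt, mul_assoc, hTt, mul_assoc]
  have e1 : T * (((w - 1) / l) • (A * B) + ((w⁻¹ - 1) / l) • (B * A)) =
      (((w - 1) / l) • (A * B) + ((w⁻¹ - 1) / l) • (B * A)) * T := by
    have h := hTt
    simp only [tor, add_assoc] at h
    rwa [mul_add T 1, add_mul 1, mul_one, one_mul, add_right_inj] at h
  have e2 : T * (((w * w - 1) / l) • (A * B) + (((w * w)⁻¹ - 1) / l) • (B * A)) =
      (((w * w - 1) / l) • (A * B) + (((w * w)⁻¹ - 1) / l) • (B * A)) * T := by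
    have h := hTt2
    simp only [tor, add_assoc] at h
    rwa [mul_add T 1, add_mul 1, mul_one, one_mul, add_right_inj] at h
  simp only [mul_add, add_mul, mul_smul_comm, smul_mul_assoc] at e1 e2
  set a : F := (w - 1) / l with ha
  set b : F := (w⁻¹ - 1) / l with hb
  set a' : F := (w * w - 1) / l with ha'
  set b' : F := ((w * w)⁻¹ - 1) / l with hb'
  have hdet : a * b' - b * a' ≠ 0 := by
    have e : a * b' - b * a' = (w - 1) * (w⁻¹ - 1) / (l * l) * (w⁻¹ - w) := by
      rw [ha, hb, ha', hb']
      field_simp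
      ring
    rw [e]
    refine mul_ne_zero (div_ne_zero (mul_ne_zero (sub_ne_zero.2 hw1) (sub_ne_zero.2 hw1'))
      (mul_ne_zero hl hl)) (sub_ne_zero.2 fun h => hw2 ?_)
    conv_lhs => arg 1; rw [← h]
    rw [inv_mul_cancel₀ hw]
  have hP : T * (A * B) = A * B * T := by
    have h : (a * b' - b * a') • (T * (A * B) - A * B * T) = 0 := by
      have h1 := congrArg (fun u => b' • u) (sub_eq_zero.2 e1)
      have h2 := congrArg (fun u => b • u) (sub_eq_zero.2 e2)
      simp only [smul_zero] at h1 h2
      rw [← sub_zero (0 : R)]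
      nth_rw 1 [← h1]
      nth_rw 1 [← h2]
      module
    exact sub_eq_zero.1 ((smul_eq_zero.1 h).resolve_left hdet)
  have hX : A * (T * B - B * T) = 0 := by
    rw [mul_sub, ← mul_assoc, ← hTA, mul_assoc, hP, ← mul_assoc, sub_self]
  have hQ : T * (B * A) = B * A * T := by
    have h : (b * a' - a * b') • (T * (B * A) - B * A * T) = 0 := by
      have h1 := congrArg (fun u => a' • u) (sub_eq_zero.2 e1)
      have h2 := congrArg (fun u => a • u) (sub_eq_zero.2 e2)
      simp only [smul_zero] at h1 h2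
      rw [← sub_zero (0 : R)]
      nth_rw 1 [← h1]
      nth_rw 1 [← h2]
      module
    refine sub_eq_zero.1 ((smul_eq_zero.1 h).resolve_left fun h0 => hdet ?_)
    linear_combination -h0
  have h := congrArg (fun u => B * u) hX
  simp only [mul_zero] at h
  rw [mul_sub, mul_sub, ← mul_assoc, ← mul_assoc, ← mul_assoc, ← mul_assoc, hBAB, ← hQ, mul_assoc T,
    hBAB, mul_smul_comm, smul_mul_assoc, ← smul_sub, smul_eq_zero] at h
  exact sub_eq_zero.1 (h.resolve_left hl)

end alg

open Matrix

variable {F : Type*} [Field F] {d k : ℕ} {A B : Matrix (Fin d) (Fin d) F} {γ l : F}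

/-- The scalar of the torus element on a level. -/
def torScalar (k : ℕ) (w : F) (a : Fin d) : F :=
  if lv k a = 0 then w⁻¹ else if lv k a = 1 then 1 else w

/-- The torus element is lower triangular by levels, scalar on each level. -/
theorem tor_apply (hk : d ≤ 2 * k) (hγ : γ ≠ 0) (hA : Ge k A)
    (hlead : ∀ r c : Fin d, r.val = c.val + k → A r c = γ) (hABA : A * B * A = l • A) (hl : l ≠ 0)
    (w : F) (a b : Fin d) (hab : lv k a ≤ lv k b) :
    tor A B l w a b = if a = b then torScalar k w a else 0 := by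
  have hrow : ∀ i j : Fin d, i.val < k → (A * B) i j = 0 := fun i j hi => by
    rw [Matrix.mul_apply]
    exact Finset.sum_eq_zero fun x _ => by rw [hA i x (by omega), zero_mul]
  have hcol : ∀ i j : Fin d, d ≤ j.val + k → (B * A) i j = 0 := fun i j hj => by
    rw [Matrix.mul_apply]
    exact Finset.sum_eq_zero fun x _ => by rw [hA x j (by omega), mul_zero]
  have hP : ∀ i j : Fin d, k ≤ j.val → (A * B) i j = if i = j then l else 0 := fun i j hj => by
    have h := right_zero hγ hA hlead (M := A * B - l • 1) (a := i)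
      (fun c => by rw [sub_mul, hABA, smul_mul_assoc, one_mul, sub_self]; rfl) j hj
    rw [Matrix.sub_apply, Matrix.smul_apply, sub_eq_zero, Matrix.one_apply, smul_eq_mul, mul_ite, mul_one,
      mul_zero] at h
    exact h
  have hQ : ∀ i j : Fin d, i.val + k < d → (B * A) i j = if i = j then l else 0 := fun i j hi => by
    have h := left_zero hγ hA hlead (M := B * A - l • 1) (b := j)
      (fun c => by rw [mul_sub, ← mul_assoc, hABA, mul_smul_comm, mul_one, sub_self]; rfl) i hi
    rw [Matrix.sub_apply, Matrix.smul_apply, sub_eq_zero, Matrix.one_apply, smul_eq_mul, mul_ite, mul_one,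
      mul_zero] at h
    exact h
  rw [tor, Matrix.add_apply, Matrix.add_apply, Matrix.smul_apply, Matrix.smul_apply, Matrix.one_apply,
    smul_eq_mul, smul_eq_mul, torScalar]
  rcases lv_cases hk a with ⟨ha, ha1, ha2⟩ | ⟨ha, ha1, ha2⟩ | ⟨ha, ha1, ha2⟩
  · rw [hrow a b ha2, hQ a b ha1, if_pos ha]
    split_ifs <;> field_simp <;> ring
  · have hb : d ≤ b.val + k := by
      rcases lv_cases hk b with ⟨hb, -⟩ | ⟨-, hb, -⟩ | ⟨-, hb, -⟩ <;> omega
    rw [hrow a b ha2, hcol a b hb, if_neg (show ¬ lv k a = 0 by omega), if_pos ha]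
    simp
  · have hb : k ≤ b.val := by
      rcases lv_cases hk b with ⟨hb, -⟩ | ⟨hb, -⟩ | ⟨-, -, hb⟩ <;> omega
    rw [hP a b hb, hcol a b (by omega), if_neg (show ¬ lv k a = 0 by omega),
      if_neg (show ¬ lv k a = 1 by omega)]
    split_ifs <;> field_simp <;> ring

theorem raises_tor (hk : d ≤ 2 * k) (hγ : γ ≠ 0) (hA : Ge k A)
    (hlead : ∀ r c : Fin d, r.val = c.val + k → A r c = γ) (hABA : A * B * A = l • A) (hl : l ≠ 0)
    (w : F) : Raises (lv k) 0 (tor A B l w) := fun a b hab => by
  rw [tor_apply hk hγ hA hlead hABA hl w a b (by omega), if_neg (fun e => by subst e; omega)]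

/-- The torus element is central modulo operators raising the level. -/
theorem raises_tor_comm (hk : d ≤ 2 * k) (hγ : γ ≠ 0) (hA : Ge k A)
    (hlead : ∀ r c : Fin d, r.val = c.val + k → A r c = γ) (hABA : A * B * A = l • A) (hl : l ≠ 0)
    (w : F) {T : Matrix (Fin d) (Fin d) F} (hT : Raises (lv k) 0 T) :
    Raises (lv k) 1 (tor A B l w * T - T * tor A B l w) := by
  intro a b hab
  have ta := tor_apply hk hγ hA hlead hABA hl w
  have e1 : (tor A B l w * T) a b = torScalar k w a * T a b := by
    rw [Matrix.mul_apply, Finset.sum_eq_single a]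
    · rw [ta a a le_rfl, if_pos rfl]
    · intro i _ hi
      by_cases h : lv k a ≤ lv k i
      · rw [ta a i h, if_neg (Ne.symm hi), zero_mul]
      · rw [hT i b (by omega), mul_zero]
    · exact fun h => absurd (Finset.mem_univ _) h
  have e2 : (T * tor A B l w) a b = T a b * torScalar k w b := by
    rw [Matrix.mul_apply, Finset.sum_eq_single b]
    · rw [ta b b le_rfl, if_pos rfl]
    · intro i _ hi
      by_cases h : lv k i ≤ lv k b
      · rw [ta i b h, if_neg hi, mul_zero]
      · rw [hT a i (by omega), zero_mul]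
    · exact fun h => absurd (Finset.mem_univ _) h
  rw [Matrix.sub_apply, e1, e2]
  by_cases h : lv k a = lv k b
  · rw [torScalar, torScalar, h]; ring
  · rw [hT a b (by omega), mul_zero, zero_mul, sub_self]

end Cfsg.Agent.RegularSE
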