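import Cfsg.Agent.Lib.RegularSE.Pair
import Cfsg.Agent.Lib.RegularSE.Torus
import Cfsg.Agent.Lib.RegularSE.Abelian
import Mathlib.LinearAlgebra.Matrix.ToLin

/-!
No datum has a central element acting quadratically, apart from dimension three with abelian Sylow
subgroup.
-/

set_option autoImplicit false
set_option linter.unusedSectionVars false

namespace Cfsg.Agent.RegularSE

open Matrix
open scoped Pointwise

namespace Datum

variable {p : ℕ} [hp : Fact p.Prime] {d : ℕ} {G : Type*} [Group G] [Finite G] (D : Datum p d G)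
  (K : D.Kit) (hdp : d ≤ p) (hk : d ≤ 2 * K.k)

include hdp hk

theorem z_sq : (D.ρ K.z - 1) * (D.ρ K.z - 1) = 0 := (K.ge_z.mul K.ge_z).eq_zero (by omega)

/-- A conjugate of `z` outside `H` generates with `z` a subgroup that is not a `p`-group. -/
theorem not_pGroup_pair {g : G} (hg : g ∉ D.H) :
    ¬ IsPGroup p (Subgroup.closure ({K.z, g * K.z * g⁻¹} : Set G)) := by
  intro hpg
  obtain ⟨P, hP⟩ := hpg.exists_le_sylow
  have hzP : K.z ∈ P := hP (Subgroup.subset_closure (Set.mem_insert _ _))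
  have hwP : g * K.z * g⁻¹ ∈ P := hP (Subgroup.subset_closure (Set.mem_insert_of_mem _ rfl))
  have hexp : ∀ y ∈ P, y ^ p = 1 := by
    intro y hy
    obtain ⟨h, hh⟩ := MulAction.exists_smul_eq G P D.T
    have h1 : h * y * h⁻¹ ∈ D.T := by
      show h * y * h⁻¹ ∈ (D.T : Subgroup G)
      rw [← hh, Sylow.coe_subgroup_smul]
      exact Subgroup.mem_pointwise_smul_iff_inv_smul_mem.2 (by simpa [mul_assoc, ← map_inv] using (show y ∈ (P : Subgroup G) from hy))
    have h2 := D.pow_p hdp h1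
    rwa [conj_pow, mul_inv_eq_one, mul_eq_left] at h2
  haveI : Nontrivial (P : Subgroup G) :=
    ⟨⟨⟨K.z, hzP⟩, 1, fun h => D.z_ne K (congrArg Subtype.val h)⟩⟩
  haveI := P.2.center_nontrivial
  obtain ⟨⟨y, hy⟩, hy1⟩ := exists_ne (1 : Subgroup.center (P : Subgroup G))
  have hyc : ∀ q ∈ (P : Subgroup G), q * (y : G) = (y : G) * q := fun q hq =>
    congrArg Subtype.val (Subgroup.mem_center_iff.1 hy ⟨q, hq⟩)
  have hy1' : (y : G) ≠ 1 := fun h => hy1 (Subtype.ext (Subtype.ext h))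
  have hyH : (y : G) ∈ D.H := D.centralizer_le (D.T_le K.z_mem) (D.pow_p hdp K.z_mem) (D.z_ne K)
    (hyc _ hzP).symm
  have hwH : g * K.z * g⁻¹ ∈ D.H := D.centralizer_le hyH (hexp _ y.2) hy1' (hyc _ hwP)
  exact hg (D.mem_H K.z (D.T_le K.z_mem) (D.pow_p hdp K.z_mem) (D.z_ne K) g hwH)

/-- An element of the centralizer acting like `z` is a power of `z`. -/
theorem unip_two_le (h5 : 5 ≤ p) : D.unip K hk 2 (by omega) ≤ Subgroup.zpowers K.z := by
  intro t₀ ht₀
  by_contra ht0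
  set U := D.unip K hk 2 (by omega) with hU
  have hUT : U ≤ (D.T : Subgroup G) := D.unip_le K hdp hk h5 2 (by omega)
  let f : G → G := fun t => D.x * t * D.x⁻¹ * t⁻¹
  have hxz : D.x * K.z = K.z * D.x := K.z_comm.symm
  have hxr : Raises (lv K.k) 0 (D.ρ D.x) ∧ Raises (lv K.k) 0 (D.ρ D.x⁻¹) :=
    ⟨D.raises_of_comm K hk hxz, D.raises_of_comm K hk (show Commute D.x K.z from hxz).inv_left⟩
  have hfU : ∀ t ∈ U, f t ∈ U := fun t ht => by
    refine mul_mem ⟨?_, ?_⟩ (inv_mem ht)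
    · exact ((show Commute D.x K.z from hxz).mul_left ht.1).mul_left
        (show Commute D.x K.z from hxz).inv_left
    · have e : D.ρ (D.x * t * D.x⁻¹) - 1 = D.ρ D.x * (D.ρ t - 1) * D.ρ D.x⁻¹ := by
        rw [mul_sub, sub_mul, mul_one, ← map_mul, ← map_mul, ← map_mul, mul_inv_cancel, map_one]
      rw [e]
      exact ((hxr.1.mul ht.2).mul hxr.2).mono (by omega)
  have hGe : ∀ t ∈ U, ∀ s : ℕ, Ge s (D.ρ t - 1) → Ge (s + 1) (D.ρ (f t) - 1) := by
    intro t ht s hs
    have htT := hUT ht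
    have e : D.ρ (f t) - 1 = (shift (ZMod p) d 1 * (D.ρ t - 1) - (D.ρ t - 1) * shift (ZMod p) d 1) *
        (D.ρ D.x⁻¹ * D.ρ t⁻¹) := by
      have e1 : shift (ZMod p) d 1 * (D.ρ t - 1) - (D.ρ t - 1) * shift (ZMod p) d 1 =
          D.ρ (D.x * t) - D.ρ (t * D.x) := by
        rw [map_mul, map_mul, D.rho_x]
        noncomm_ring
      rw [e1, sub_mul, ← map_mul D.ρ D.x⁻¹ t⁻¹, ← map_mul, ← map_mul,
        show t * D.x * (D.x⁻¹ * t⁻¹) = 1 by group,
        show D.x * t * (D.x⁻¹ * t⁻¹) = f t by simp [f, mul_assoc], map_one]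
    rw [e]
    have h1 : Ge (s + 1) (shift (ZMod p) d 1 * (D.ρ t - 1) - (D.ρ t - 1) * shift (ZMod p) d 1) :=
      (((ge_shift 1).mul hs).mono (by omega)).sub ((hs.mul (ge_shift 1)).mono (by omega))
    exact (h1.mul ((D.ge_zero_T (inv_mem D.x_mem)).mul (D.ge_zero_T (inv_mem htT)))).mono (by omega)
  let seq : ℕ → G := fun n => f^[n] t₀
  have hseq : ∀ n, seq (n + 1) = f (seq n) := fun n => Function.iterate_succ_apply' f n t₀
  have hseqU : ∀ n, seq n ∈ U := by
    intro n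
    induction n with
    | zero => exact ht₀
    | succ n ih => rw [hseq]; exact hfU _ ih
  have hend : seq d = 1 := by
    have h : ∀ n, Ge n (D.ρ (seq n) - 1) := by
      intro n
      induction n with
      | zero => exact (D.tri (hUT (hseqU 0))).mono (by omega)
      | succ n ih => rw [hseq]; exact hGe _ (hseqU n) n ih
    exact D.inj (by rw [map_one, ← sub_eq_zero]; exact (h d).eq_zero le_rfl)
  have hex : ∃ n, seq n ∈ Subgroup.zpowers K.z := ⟨d, hend.symm ▸ one_mem _⟩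
  classical
  have hfirst : seq (Nat.find hex) ∈ Subgroup.zpowers K.z := Nat.find_spec hex
  obtain ⟨n, hn⟩ : ∃ n, Nat.find hex = n + 1 := by
    refine ⟨Nat.find hex - 1, (Nat.succ_pred_eq_of_pos (Nat.pos_of_ne_zero fun h => ?_)).symm⟩
    rw [h] at hfirst
    exact ht0 hfirst
  have hnot : seq n ∉ Subgroup.zpowers K.z := Nat.find_min hex (by omega)
  rw [hn, hseq] at hfirst
  set t := seq n with ht
  have htU : t ∈ U := hseqU n
  obtain ⟨c, hc⟩ := (IsOfFinOrder.mem_powers_iff_mem_zpowers (isOfFinOrder_of_finite K.z)).2 hfirst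
  have hc' : K.z ^ c = D.x * t * D.x⁻¹ * t⁻¹ := hc
  have hzero : ∀ a b : Fin d, lv K.k a < lv K.k b + 2 → (D.ρ t - 1) a b = 0 := htU.2
  by_cases hc0 : (c : ZMod p) = 0
  · -- commuting with `x`
    obtain ⟨c', rfl⟩ := (ZMod.natCast_eq_zero_iff _ _).1 hc0
    rw [pow_mul, D.pow_p hdp K.z_mem, one_pow, eq_comm, mul_inv_eq_one, mul_inv_eq_iff_eq_mul] at hc'
    obtain ⟨a, b, hab⟩ := K.decomp t (hUT htU) hc'.symm
    have hd : 2 ≤ d := D.two_le_dim hdp
    have hne : (⟨1, by omega⟩ : Fin d) ≠ ⟨0, by omega⟩ := by simp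
    have h1 : D.ρ t ⟨1, by omega⟩ ⟨0, by omega⟩ = 0 := by
      have h := hzero ⟨1, by omega⟩ ⟨0, by omega⟩ (by
        rcases lv_cases hk (⟨1, by omega⟩ : Fin d) with ⟨e, -, -⟩ | ⟨e, -, -⟩ | ⟨-, -, e'⟩
        · have := lv_nonneg (k := K.k) (⟨0, by omega⟩ : Fin d); omega
        · have := lv_nonneg (k := K.k) (⟨0, by omega⟩ : Fin d); omega
        · exact absurd e' (by simp; have := K.two_le; omega))
      rwa [Matrix.sub_apply, Matrix.one_apply_ne hne, sub_zero] at h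
    have hz1 : D.ρ K.z ⟨1, by omega⟩ ⟨0, by omega⟩ = 0 := by
      have h := K.ge_z (⟨1, by omega⟩ : Fin d) ⟨0, by omega⟩ (by simp; have := K.two_le; omega)
      rwa [Matrix.sub_apply, Matrix.one_apply_ne hne, sub_zero] at h
    rw [hab, D.first_add hdp (pow_mem D.x_mem a) (pow_mem K.z_mem b) _ _ rfl,
      D.first_pow hdp D.x_mem _ _ rfl, D.first_pow hdp K.z_mem _ _ rfl, hz1, mul_zero, add_zero,
      D.rho_x, Matrix.add_apply, Matrix.one_apply_ne hne, zero_add, shift_apply, if_pos (by simp),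
      mul_one, ZMod.natCast_eq_zero_iff] at h1
    obtain ⟨a', rfl⟩ := h1
    rw [pow_mul, D.pow_p hdp D.x_mem, one_pow, one_mul] at hab
    exact hnot (hab ▸ pow_mem (Subgroup.mem_zpowers _) _)
  · -- the trace
    set E := D.ρ t - 1 with hE
    set N := shift (ZMod p) d 1 with hN
    set Z := D.ρ K.z - 1 with hZ
    have hZ2 : Z * Z = 0 := D.z_sq K hdp hk
    have hZE : Z * E = 0 := raises_two_mul (raises_two_self hk K.ge_z) htU.2
    have hZge : Ge K.k Z := K.ge_z
    have hZlead : ∀ r c : Fin d, r.val = c.val + K.k → Z r c = K.γ := D.lead_sub_one K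
    have hpow : ∀ m : ℕ, D.ρ (K.z ^ m) = 1 + (m : ZMod p) • Z := by
      intro m
      induction m with
      | zero => rw [pow_zero, map_one, Nat.cast_zero, zero_smul, add_zero]
      | succ m ih =>
        rw [pow_succ, map_mul, ih, show D.ρ K.z = 1 + Z from (add_sub_cancel _ _).symm, mul_add, mul_one,
          add_mul, one_mul, smul_mul_assoc, hZ2, smul_zero, add_zero, Nat.cast_succ, add_smul, one_smul,
          add_assoc]
    have hrel : N * E - E * N = (c : ZMod p) • (Z + Z * N) := by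
      have h1 : K.z ^ c * t * D.x = D.x * t := by rw [hc']; group
      have h2 := congrArg D.ρ h1
      rw [map_mul, map_mul, map_mul, hpow, D.rho_x, show D.ρ t = 1 + E from (add_sub_cancel _ _).symm,
        ← hN] at h2
      simp only [mul_add, add_mul, mul_one, one_mul, smul_mul_assoc, hZE, smul_zero, add_zero,
        zero_mul] at h2
      rw [smul_add, sub_eq_iff_eq_add]
      have h3 : N * E = (1 + N + (E + N * E)) - 1 - N - E := by abel
      rw [h3, ← h2]
      abel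
    set k' := d - K.k with hk'
    have hk'0 : 0 < k' := by have := K.k_lt; omega
    have hk'p : k' < p := by have := K.two_le; omega
    let e : ℕ → ZMod p := fun j =>
      if h : j + K.k ≤ d ∧ j < d then E ⟨j + K.k - 1, by have := K.two_le; omega⟩ ⟨j, h.2⟩ else 0
    have hestep : ∀ j < k', e j - e (j + 1) = (c : ZMod p) * K.γ := by
      intro j hj
      have hj1 : j + K.k < d := by omega
      have hk2 := K.two_le
      have h := congrFun (congrFun hrel ⟨j + K.k, hj1⟩) ⟨j, by omega⟩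
      rw [Matrix.sub_apply, hN, shift_one_mul, mul_shift_one, dif_neg (by simp; omega),
        dif_pos (by simp; omega), Matrix.smul_apply, Matrix.add_apply,
        hZlead _ _ (by simp), (hZge.mul (ge_shift 1)) _ _ (by simp), add_zero,
        smul_eq_mul] at h
      simp only [e]
      rw [dif_pos ⟨by omega, by omega⟩, dif_pos ⟨by omega, by omega⟩, ← h]
      congr 1
      congr 1
      exact Fin.ext (by simp)
    have hend0 : e 0 = 0 := by
      simp only [e]
      split_ifs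
      · refine hzero _ _ ?_
        have := lv_nonneg (k := K.k) (⟨0, by omega⟩ : Fin d)
        rcases lv_cases hk (⟨0 + K.k - 1, by omega⟩ : Fin d) with ⟨h, -, -⟩ | ⟨h, -, -⟩ | ⟨-, -, h⟩
        · omega
        · omega
        · simp at h; have := K.two_le; omega
      · rfl
    have hendk : e k' = 0 := by
      simp only [e]
      split_ifs with h
      · refine hzero _ _ ?_
        have := lv_le_two (k := K.k) (⟨k' + K.k - 1, by omega⟩ : Fin d)
        rcases lv_cases hk (⟨k', h.2⟩ : Fin d) with ⟨-, h', -⟩ | ⟨h', -, -⟩ | ⟨h', -, -⟩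
        · simp at h'; omega
        · omega
        · omega
      · rfl
    have hsum := Finset.sum_range_sub' e k'
    rw [hend0, hendk, sub_zero, Finset.sum_congr rfl fun j hj => hestep j (Finset.mem_range.1 hj),
      Finset.sum_const, Finset.card_range, nsmul_eq_mul] at hsum
    rcases mul_eq_zero.1 hsum with h | h
    · rw [ZMod.natCast_eq_zero_iff] at h
      exact absurd (Nat.le_of_dvd hk'0 h) (by omega)
    · exact mul_ne_zero hc0 K.γ_ne h

/-- Only powers of a conjugate of `z` act like it. -/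
theorem eq_pow_of_pure (h5 : 5 ≤ p) (g u : G)
    (hr : ∀ v, ∃ v', (D.ρ u - 1) *ᵥ v = (D.ρ (g * K.z * g⁻¹) - 1) *ᵥ v')
    (hker : ∀ v, (D.ρ (g * K.z * g⁻¹) - 1) *ᵥ v = 0 → (D.ρ u - 1) *ᵥ v = 0) :
    u ∈ Subgroup.zpowers (g * K.z * g⁻¹) := by
  set u' := g⁻¹ * u * g with hu'
  have e1 : D.ρ u' - 1 = D.ρ g⁻¹ * (D.ρ u - 1) * D.ρ g := by
    rw [mul_sub, sub_mul, mul_one, ← map_mul, ← map_mul, ← map_mul, inv_mul_cancel, map_one]
  have e2 : D.ρ (g * K.z * g⁻¹) - 1 = D.ρ g * (D.ρ K.z - 1) * D.ρ g⁻¹ := by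
    rw [mul_sub, sub_mul, mul_one, ← map_mul, ← map_mul, ← map_mul, mul_inv_cancel, map_one]
  set E := D.ρ u' - 1 with hE
  set Z := D.ρ K.z - 1 with hZ
  have hr' : ∀ v, ∃ v', E *ᵥ v = Z *ᵥ v' := fun v => by
    obtain ⟨v', hv'⟩ := hr (D.ρ g *ᵥ v)
    refine ⟨D.ρ g⁻¹ *ᵥ v', ?_⟩
    rw [e1, ← Matrix.mulVec_mulVec, ← Matrix.mulVec_mulVec, hv', e2]
    simp only [Matrix.mulVec_mulVec]
    rw [← mul_assoc, ← mul_assoc, D.rho_inv_mul, one_mul]
  have hker' : ∀ v, Z *ᵥ v = 0 → E *ᵥ v = 0 := fun v hv => by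
    have h := hker (D.ρ g *ᵥ v) (by
      rw [e2, ← Matrix.mulVec_mulVec, Matrix.mulVec_mulVec _ (D.ρ g⁻¹), D.rho_inv_mul, Matrix.one_mulVec,
        ← Matrix.mulVec_mulVec, hv, Matrix.mulVec_zero])
    rw [e1, ← Matrix.mulVec_mulVec, ← Matrix.mulVec_mulVec, h, Matrix.mulVec_zero]
  have hrow : ∀ a b : Fin d, a.val < K.k → E a b = 0 := fun a b ha => by
    obtain ⟨v', hv'⟩ := hr' (Pi.single b 1)
    have h := congrFun hv' a
    rw [Matrix.mulVec_single_one, Matrix.mulVec, dotProduct, Finset.sum_eq_zero fun i _ => by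
      rw [show Z a i = 0 from K.ge_z a i (by omega), zero_mul]] at h
    exact h
  have hcol : ∀ a b : Fin d, d ≤ b.val + K.k → E a b = 0 := fun a b hb => by
    have h := congrFun (hker' (Pi.single b 1) (by
      rw [Matrix.mulVec_single_one]
      exact funext fun i => K.ge_z i b (by omega))) a
    rwa [Matrix.mulVec_single_one] at h
  have hR : Raises (lv K.k) 2 E := fun a b hab => by
    rcases lv_cases hk a with ⟨ha, _, ha'⟩ | ⟨ha, _, ha'⟩ | ⟨ha, _, _⟩
    · exact hrow a b ha'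
    · exact hrow a b ha'
    · rcases lv_cases hk b with ⟨hb, _, _⟩ | ⟨hb, hb', _⟩ | ⟨hb, hb', _⟩
      · omega
      · exact hcol a b hb'
      · exact hcol a b hb'
  have hcomm : u' * K.z = K.z * u' := D.inj (by
    have h1 : E * Z = 0 := raises_two_mul hR (raises_two_self hk K.ge_z)
    have h2 : Z * E = 0 := raises_two_mul (raises_two_self hk K.ge_z) hR
    rw [map_mul D.ρ u' K.z, map_mul D.ρ K.z u', show D.ρ u' = 1 + E from (add_sub_cancel _ _).symm,
      show D.ρ K.z = 1 + Z from (add_sub_cancel _ _).symm, mul_add, add_mul, add_mul, mul_add (1 + Z), add_mul,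
      add_mul, h1, h2]
    simp only [mul_one, one_mul]
    abel)
  obtain ⟨i, hi⟩ := Subgroup.mem_zpowers_iff.1 (D.unip_two_le K hdp hk h5
    (show u' ∈ D.unip K hk 2 (by omega) from ⟨hcomm, hR⟩))
  refine ⟨i, ?_⟩
  show (g * K.z * g⁻¹) ^ i = u
  rw [conj_zpow, hi, hu']
  group

/-- The pair relations. -/
theorem exists_scalar (h5 : 5 ≤ p) {g : G} (hg : g ∉ D.H) :
    ∃ l : ZMod p, l ≠ 0 ∧
      (D.ρ K.z - 1) * (D.ρ (g * K.z * g⁻¹) - 1) * (D.ρ K.z - 1) = l • (D.ρ K.z - 1) ∧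
      (D.ρ (g * K.z * g⁻¹) - 1) * (D.ρ K.z - 1) * (D.ρ (g * K.z * g⁻¹) - 1) =
        l • (D.ρ (g * K.z * g⁻¹) - 1) := by
  set w := g * K.z * g⁻¹ with hw
  set S := Subgroup.closure ({K.z, w} : Set G) with hS
  let τ : Matrix (Fin d) (Fin d) (ZMod p) ≃ₐ[ZMod p] ((Fin d → ZMod p) →ₗ[ZMod p] (Fin d → ZMod p)) :=
    Matrix.toLinAlgEquiv'
  let ρ' : S →* Module.End (ZMod p) (Fin d → ZMod p) := (τ.toMonoidHom.comp D.ρ).comp S.subtype
  have hρ' : ∀ (s : S), ρ' s = τ (D.ρ s) := fun s => rfl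
  have hτ : ∀ (s : S), ρ' s - 1 = τ (D.ρ s - 1) := fun s => by rw [map_sub, map_one, hρ']
  have hτv : ∀ (M : Matrix (Fin d) (Fin d) (ZMod p)) (v : Fin d → ZMod p), τ M v = M *ᵥ v := fun M v => by
    simp [τ]
  let a : S := ⟨K.z, Subgroup.subset_closure (Set.mem_insert _ _)⟩
  let b : S := ⟨w, Subgroup.subset_closure (Set.mem_insert_of_mem _ rfl)⟩
  have hw2 : (D.ρ w - 1) * (D.ρ w - 1) = 0 := by
    have e2 : D.ρ w - 1 = D.ρ g * (D.ρ K.z - 1) * D.ρ g⁻¹ := by
      rw [hw, mul_sub, sub_mul, mul_one, ← map_mul, ← map_mul, ← map_mul, mul_inv_cancel, map_one]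
    rw [e2, show D.ρ g * (D.ρ K.z - 1) * D.ρ g⁻¹ * (D.ρ g * (D.ρ K.z - 1) * D.ρ g⁻¹) =
      D.ρ g * ((D.ρ K.z - 1) * (D.ρ g⁻¹ * D.ρ g) * (D.ρ K.z - 1)) * D.ρ g⁻¹ by noncomm_ring,
      D.rho_inv_mul, mul_one, D.z_sq K hdp hk, mul_zero, zero_mul]
  have hpure : ∀ (s : S) (g₀ : G), (s : G) = g₀ * K.z * g₀⁻¹ → Pure ρ' s := by
    intro s g₀ hs u hu hu'
    have h := D.eq_pow_of_pure K hdp hk h5 g₀ u (fun v => by
      obtain ⟨v', hv'⟩ := hu (LinearMap.mem_range_self (ρ' u - 1) v)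
      refine ⟨v', ?_⟩
      rw [hτ, hτ, hτv, hτv, hs] at hv'
      exact hv'.symm) (fun v hv => by
      have h := hu' (show v ∈ LinearMap.ker (ρ' s - 1) by
        rw [LinearMap.mem_ker, hτ, hτv, hs]; exact hv)
      rwa [LinearMap.mem_ker, hτ, hτv] at h)
    obtain ⟨i, hi⟩ := Subgroup.mem_zpowers_iff.1 h
    exact ⟨i, Subtype.ext (by
      show ((s ^ i : S) : G) = (u : G)
      rw [SubgroupClass.coe_zpow, hs]; exact hi)⟩
  haveI : Finite S := Subtype.finite
  obtain ⟨l, hl, h1, h2⟩ := pair_scalar (ρ := ρ') h5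
    (fun x y h => Subtype.ext (D.inj (τ.injective h))) (a := a) (b := b)
    (Subtype.ext (by simpa [a] using D.pow_p hdp K.z_mem))
    (Subtype.ext (by simp [b, hw, conj_pow, D.pow_p hdp K.z_mem]))
    (by rw [sq, hτ, ← map_mul, D.z_sq K hdp hk, map_zero])
    (by rw [sq, hτ, ← map_mul, hw2, map_zero])
    (by
      have e : ({a, b} : Set S) = ((↑) : S → G) ⁻¹' ({K.z, w} : Set G) := by
        ext y; simp [a, b, Subtype.ext_iff]
      rw [e]
      exact Subgroup.closure_closure_coe_preimage)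
    (D.not_pGroup_pair K hdp hk hg) (hpure a 1 (by simp [a])) (hpure b g rfl)
  refine ⟨l, hl, τ.injective ?_, τ.injective ?_⟩
  · rw [map_smul, map_mul, map_mul, ← hτ a, ← hτ b]; exact h1
  · rw [map_smul, map_mul, map_mul, ← hτ a, ← hτ b]; exact h2

/-- The torus contradiction for `4 ≤ d`. -/
theorem false_core (h5 : 5 ≤ p) {g : G} (hg : g ∉ D.H) {l : ZMod p} (hl : l ≠ 0)
    (hABA : (D.ρ K.z - 1) * (D.ρ (g * K.z * g⁻¹) - 1) * (D.ρ K.z - 1) = l • (D.ρ K.z - 1))
    (hBAB : (D.ρ (g * K.z * g⁻¹) - 1) * (D.ρ K.z - 1) * (D.ρ (g * K.z * g⁻¹) - 1) =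
      l • (D.ρ (g * K.z * g⁻¹) - 1))
    (hB2 : (D.ρ (g * K.z * g⁻¹) - 1) * (D.ρ (g * K.z * g⁻¹) - 1) = 0)
    (wy : ZMod p → G) (hwy : ∀ t, D.ρ (wy t) = wey (D.ρ K.z - 1) (D.ρ (g * K.z * g⁻¹) - 1) l t)
    (hd : 4 ≤ d) : False := by
  set A := D.ρ K.z - 1 with hA
  set B := D.ρ (g * K.z * g⁻¹) - 1 with hB
  have hA2 : A * A = 0 := D.z_sq K hdp hk
  have hlead := D.lead_sub_one K
  have h20 : (2 : ZMod p) ≠ 0 := fun h => by
    have := Nat.le_of_dvd (by omega) ((ZMod.natCast_eq_zero_iff 2 p).1 (by exact_mod_cast h))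
    omega
  have h21 : (2 : ZMod p) ≠ 1 := fun h => one_ne_zero (by linear_combination h : (1 : ZMod p) = 0)
  have h22 : (2 : ZMod p) * 2 ≠ 1 := fun h => by
    have h3 : ((3 : ℕ) : ZMod p) = 0 := by push_cast; linear_combination h
    have := Nat.le_of_dvd (by omega) ((ZMod.natCast_eq_zero_iff _ _).1 h3)
    omega
  set δ := wy 2 * wy (-1) with hδ
  have hρδ : D.ρ δ = tor A B l 2 := by
    rw [hδ, map_mul, hwy, hwy, wey_mul hA2 hB2 hABA hBAB hl h20]
  have hρpow : ∀ n : ℕ, D.ρ (δ ^ n) = tor A B l (2 ^ n) := fun n => by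
    rw [map_pow, hρδ, tor_pow hA2 hB2 hABA hl]
  have hδp : δ ^ (p - 1) = 1 := D.inj (by
    rw [hρpow, ZMod.pow_card_sub_one_eq_one h20, tor_one, map_one])
  have htA : ∀ t ∈ D.T, D.ρ t * A = A * D.ρ t := fun t ht => by
    rw [hA, mul_sub, sub_mul, mul_one, one_mul, ← map_mul, ← map_mul, K.central t ht]
  -- the torus normalizes `T`
  have hconj : ∀ n : ℕ, ∀ t ∈ D.T, δ ^ n * t * (δ ^ n)⁻¹ ∈ D.T := by
    intro n t ht
    set u := δ ^ n with hu
    have hinv : D.ρ u⁻¹ = tor A B l ((2 : ZMod p) ^ n)⁻¹ := by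
      refine left_inv_eq_right_inv (D.rho_inv_mul u) ?_
      rw [hρpow, tor_mul hA2 hB2 hABA hl, mul_inv_cancel₀ (pow_ne_zero _ h20), tor_one]
    have hTC : t * K.z = K.z * t := (K.central t ht).symm
    have hcomm : u * t * u⁻¹ * t⁻¹ * K.z = K.z * (u * t * u⁻¹ * t⁻¹) := by
      refine D.inj ?_
      set W : ZMod p := (2 : ZMod p) ^ n with hW
      have hW0 : W ≠ 0 := pow_ne_zero _ h20
      have hcA : D.ρ (u * t * u⁻¹ * t⁻¹) * A = A * D.ρ (u * t * u⁻¹ * t⁻¹) := by
        rw [map_mul, map_mul, map_mul, hρpow, hinv, ← hW]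
        have h1 : tor A B l W * D.ρ t * tor A B l W⁻¹ * A = D.ρ t * A := by
          rw [mul_assoc _ (tor A B l W⁻¹) A, tor_mul_left hA2 hABA hl, mul_smul_comm, mul_assoc _ (D.ρ t) A,
            htA t ht, ← mul_assoc, tor_mul_left hA2 hABA hl, smul_mul_assoc, smul_smul,
            inv_mul_cancel₀ hW0, one_smul]
        have h2 : A * (tor A B l W * D.ρ t * tor A B l W⁻¹) = D.ρ t * A := by
          rw [← mul_assoc, ← mul_assoc, mul_tor hA2 hABA hl, smul_mul_assoc, smul_mul_assoc, ← htA t ht,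
            mul_assoc (D.ρ t), mul_tor hA2 hABA hl, mul_smul_comm, smul_smul, inv_inv, inv_mul_cancel₀ hW0,
            one_smul]
        rw [mul_assoc _ (D.ρ t⁻¹) A, htA _ (inv_mem ht), ← mul_assoc, h1, ← h2, mul_assoc A]
      rwa [map_mul _ _ K.z, map_mul _ K.z, show D.ρ K.z = 1 + A from (add_sub_cancel _ _).symm, mul_add,
        add_mul, mul_one, one_mul, add_right_inj]
    have hr : ∀ v : G, v * K.z = K.z * v → Raises (lv K.k) 0 (D.ρ v) := fun v => D.raises_of_comm K hk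
    have hy : u * t * u⁻¹ * t⁻¹ ∈ D.unip K hk 1 le_rfl := by
      refine ⟨hcomm, ?_⟩
      have e : D.ρ (u * t * u⁻¹ * t⁻¹) - 1 =
          (D.ρ u * D.ρ t - D.ρ t * D.ρ u) * (D.ρ u⁻¹ * D.ρ t⁻¹) := by
        rw [sub_mul, ← map_mul, ← map_mul, ← map_mul, ← map_mul, ← map_mul,
          show t * u * (u⁻¹ * t⁻¹) = 1 by group, map_one,
          show u * t * (u⁻¹ * t⁻¹) = u * t * u⁻¹ * t⁻¹ by group]
      rw [e, hρpow, hinv]
      exact ((raises_tor_comm hk K.γ_ne K.ge_z hlead hABA hl _ (hr t hTC)).mul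
        ((raises_tor hk K.γ_ne K.ge_z hlead hABA hl _).mul
          (hr _ (show Commute t K.z from hTC).inv_left))).mono (by omega)
    have h := mul_mem (D.unip_le K hdp hk h5 1 le_rfl hy) ht
    rwa [inv_mul_cancel_right] at h
  -- an internal coordinate
  obtain ⟨r, c, hrc, hlv⟩ : ∃ r c : Fin d, r.val = c.val + 1 ∧ lv K.k r = lv K.k c := by
    by_cases hk1 : K.k + 2 ≤ d
    · refine ⟨⟨1, by omega⟩, ⟨0, by omega⟩, rfl, ?_⟩
      have h1 : ∀ a : Fin d, a.val ≤ 1 → lv K.k a = 0 := fun a ha => by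
        have := K.two_le
        unfold lv
        rw [if_neg (by omega), if_neg (by omega), add_zero]
      rw [h1 _ (by simp), h1 _ (by simp)]
    · refine ⟨⟨2, by omega⟩, ⟨1, by omega⟩, rfl, ?_⟩
      have h1 : ∀ a : Fin d, a.val = 1 ∨ a.val = 2 → lv K.k a = 1 := fun a ha => by
        unfold lv
        rw [if_pos (by omega), if_neg (by omega), add_zero]
      rw [h1 _ (by simp), h1 _ (by simp)]
  have hkey : ∀ n : ℕ, ∀ t ∈ D.T, D.ρ (δ ^ n * t * (δ ^ n)⁻¹) r c = D.ρ t r c := by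
    intro n t ht
    set t' := δ ^ n * t * (δ ^ n)⁻¹ with ht'
    have h : D.ρ t' * tor A B l (2 ^ n) = tor A B l (2 ^ n) * D.ρ t := by
      rw [← hρpow, ← map_mul, ← map_mul, ht']
      congr 1
      group
    have ta := tor_apply hk K.γ_ne K.ge_z hlead hABA hl ((2 : ZMod p) ^ n)
    have h0 := D.ge_zero_T (hconj n t ht)
    have h0' := D.ge_zero_T ht
    have h1 := congrFun (congrFun h r) c
    rw [Matrix.mul_apply, Matrix.mul_apply, Finset.sum_eq_single c, Finset.sum_eq_single r] at h1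
    · rw [ta c c le_rfl, if_pos rfl, ta r r le_rfl, if_pos rfl,
        show torScalar K.k ((2 : ZMod p) ^ n) r = torScalar K.k ((2 : ZMod p) ^ n) c by
          rw [torScalar, torScalar, hlv], mul_comm] at h1
      refine mul_left_cancel₀ ?_ h1
      have h2n : (2 : ZMod p) ^ n ≠ 0 := pow_ne_zero _ h20
      rw [torScalar]
      split_ifs
      exacts [inv_ne_zero h2n, one_ne_zero, h2n]
    · intro i _ hi
      by_cases h' : lv K.k r ≤ lv K.k i
      · rw [ta r i h', if_neg (Ne.symm hi), zero_mul]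
      · rw [h0' i c (by
          by_contra hle
          have := lv_le_of_le (k := K.k) (show c.val ≤ i.val by omega)
          omega), mul_zero]
    · exact fun h => absurd (Finset.mem_univ _) h
    · intro i _ hi
      by_cases h' : lv K.k i ≤ lv K.k c
      · rw [ta i c h', if_neg hi, mul_zero]
      · rw [h0 r i (by
          by_contra hle
          have := lv_le_of_le (k := K.k) (show i.val ≤ r.val by omega)
          omega), zero_mul]
    · exact fun h => absurd (Finset.mem_univ _) h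
  -- a fixed point
  let N : Subgroup G :=
    { carrier := {t | t ∈ D.T ∧ D.ρ t r c = 0}
      one_mem' := ⟨one_mem _, by rw [map_one, Matrix.one_apply_ne (fun e => by subst e; omega)]⟩
      mul_mem' := fun {a b} ha hb => ⟨mul_mem ha.1 hb.1, by
        rw [D.first_add hdp ha.1 hb.1 r c hrc, ha.2, hb.2, add_zero]⟩
      inv_mem' := fun {a} ha => ⟨inv_mem ha.1, by
        have h := D.first_add hdp (inv_mem ha.1) ha.1 r c hrc
        rwa [inv_mul_cancel, map_one, Matrix.one_apply_ne (fun e => by subst e; omega), ha.2, add_zero,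
          eq_comm] at h⟩ }
  set S : Subgroup G := Subgroup.zpowers δ with hS
  have hSpow : ∀ a ∈ S, ∃ n : ℕ, a = δ ^ n := fun a ha => by
    obtain ⟨n, hn⟩ := (IsOfFinOrder.mem_powers_iff_mem_zpowers (isOfFinOrder_of_finite δ)).2 ha
    exact ⟨n, hn.symm⟩
  have hnorm : ∀ {X : Subgroup G}, (∀ a ∈ S, ∀ t ∈ X, a * t * a⁻¹ ∈ X) →
      S ≤ Subgroup.normalizer (X : Set G) := fun {X} h a ha => Subgroup.mem_normalizer_iff.2 fun t =>
    ⟨h a ha t, fun ht => by simpa [mul_assoc] using h a⁻¹ (inv_mem ha) _ ht⟩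
  have hST : ∀ a ∈ S, ∀ t ∈ (D.T : Subgroup G), a * t * a⁻¹ ∈ (D.T : Subgroup G) := fun a ha t ht => by
    obtain ⟨n, rfl⟩ := hSpow a ha
    exact hconj n t ht
  have hNT : (D.T : Subgroup G) ≤ Subgroup.normalizer (N : Set G) := fun a ha => by
    have h1 : ∀ a ∈ D.T, ∀ t ∈ N, a * t * a⁻¹ ∈ N := fun a ha t ht =>
      ⟨mul_mem (mul_mem ha ht.1) (inv_mem ha), by
        rw [D.first_add hdp (mul_mem ha ht.1) (inv_mem ha) r c hrc, D.first_add hdp ha ht.1 r c hrc, ht.2,
          add_zero, ← D.first_add hdp ha (inv_mem ha) r c hrc, mul_inv_cancel, map_one,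
          Matrix.one_apply_ne (fun e => by subst e; omega)]⟩
    exact Subgroup.mem_normalizer_iff.2 fun t =>
      ⟨h1 a ha t, fun ht => by simpa [mul_assoc] using h1 a⁻¹ (inv_mem ha) _ ht⟩
  obtain ⟨m, hm⟩ := (D.T).2.exists_card_eq
  have hcop : (Nat.card S).Coprime (Nat.card (D.T : Subgroup G)) := by
    rw [hm]
    refine Nat.Coprime.pow_right m (Nat.Coprime.coprime_dvd_left (k := p - 1) ?_ ?_)
    · rw [Nat.card_zpowers]; exact orderOf_dvd_of_pow_eq_one hδp
    · refine ((hp.out.coprime_iff_not_dvd.2 fun h => ?_)).symm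
      have := Nat.le_of_dvd (by omega) h
      omega
  have hxrc : D.ρ D.x r c = 1 := by
    rw [D.rho_x, Matrix.add_apply, Matrix.one_apply_ne (fun e => by subst e; omega), zero_add, shift_apply,
      if_pos hrc]
  obtain ⟨t, ⟨htT, htS⟩, htN⟩ := CoprimeAct.exists_mem_centralizer (A := S) (K := (D.T : Subgroup G))
    (N := N) (hnorm hST) hcop
    (Or.inl (Group.isSolvable_of_comm fun a b => mul_comm' a b)) (fun t ht => ht.1) hNT
    (hnorm fun a ha t ht => ⟨hST a ha t ht.1, by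
      obtain ⟨n, rfl⟩ := hSpow a ha
      rw [hkey n t ht.1]; exact ht.2⟩)
    D.x_mem (fun a ha => by
      obtain ⟨n, rfl⟩ := hSpow a ha
      refine ⟨mul_mem (hconj n _ D.x_mem) (inv_mem D.x_mem), ?_⟩
      rw [D.first_add hdp (hconj n _ D.x_mem) (inv_mem D.x_mem) r c hrc, hkey n _ D.x_mem,
        ← D.first_add hdp D.x_mem (inv_mem D.x_mem) r c hrc, mul_inv_cancel, map_one,
        Matrix.one_apply_ne (fun e => by subst e; omega)])
  have ht1 : t ≠ 1 := by
    rintro rfl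
    have h := htN.2
    rw [mul_one] at h
    have h' := D.first_add hdp (inv_mem D.x_mem) D.x_mem r c hrc
    rw [inv_mul_cancel, map_one, Matrix.one_apply_ne (fun e => by subst e; omega), h, hxrc, zero_add] at h'
    exact zero_ne_one h'
  have htB : D.ρ t * B = B * D.ρ t := commute_of_tor hA2 hB2 hABA hBAB hl h20 h21 h22 (htA t htT) (by
    rw [← hρδ, ← map_mul, ← map_mul, Subgroup.mem_centralizer_iff.1 htS δ (Subgroup.mem_zpowers δ)])
  have htw : g * K.z * g⁻¹ * t = t * (g * K.z * g⁻¹) := D.inj (by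
    rw [map_mul _ _ t, map_mul _ t, show D.ρ (g * K.z * g⁻¹) = 1 + B from (add_sub_cancel _ _).symm,
      add_mul, mul_add, one_mul, mul_one, htB])
  have hwH := D.centralizer_le (D.T_le htT) (D.pow_p hdp htT) ht1 htw
  exact hg (D.mem_H K.z (D.T_le K.z_mem) (D.pow_p hdp K.z_mem) (D.z_ne K) g hwH)

/-- Dimension three with nonabelian Sylow subgroup. -/
theorem false_three (h5 : 5 ≤ p) {g : G} (hg : g ∉ D.H) {l : ZMod p} (hl : l ≠ 0)
    (hABA : (D.ρ K.z - 1) * (D.ρ (g * K.z * g⁻¹) - 1) * (D.ρ K.z - 1) = l • (D.ρ K.z - 1))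
    (hBAB : (D.ρ (g * K.z * g⁻¹) - 1) * (D.ρ K.z - 1) * (D.ρ (g * K.z * g⁻¹) - 1) =
      l • (D.ρ (g * K.z * g⁻¹) - 1))
    (hB2 : (D.ρ (g * K.z * g⁻¹) - 1) * (D.ρ (g * K.z * g⁻¹) - 1) = 0)
    (hwp : (g * K.z * g⁻¹) ^ p = 1)
    (wy : ZMod p → G) (hwy : ∀ t, D.ρ (wy t) = wey (D.ρ K.z - 1) (D.ρ (g * K.z * g⁻¹) - 1) l t)
    (hwy' : ∀ t, wy t = K.z ^ t.val * (g * K.z * g⁻¹) ^ (-(t * l)⁻¹).val * K.z ^ t.val)
    (hd : d ≤ 3) {a b : G} (ha : a ∈ D.T) (hb : b ∈ D.T) (hab : a * b ≠ b * a) : False := by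
  classical
  have hk2 := K.two_le
  have hkd := K.k_lt
  obtain rfl : d = 3 := by omega
  have hk3 : K.k = 2 := by omega
  set A := D.ρ K.z - 1 with hA
  set w := g * K.z * g⁻¹ with hw
  set B := D.ρ w - 1 with hB
  have hA2 : A * A = 0 := D.z_sq K hdp hk
  -- `T` is the full unitriangular group
  let φ : ↥(D.T : Subgroup G) → ZMod p × ZMod p × ZMod p := fun t =>
    (D.ρ (t : G) 1 0, D.ρ (t : G) 2 1, D.ρ (t : G) 2 0)
  have hφ : Function.Injective φ := fun s t h => by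
    simp only [φ, Prod.mk.injEq] at h
    refine Subtype.ext (D.inj ?_)
    ext i j
    have h1 := D.tri s.2 i j
    have h2 := D.tri t.2 i j
    simp only [Matrix.sub_apply] at h1 h2
    fin_cases i <;> fin_cases j <;> first
      | exact h.1
      | exact h.2.1
      | exact h.2.2
      | exact (sub_eq_zero.1 (h1 (by simp))).trans (sub_eq_zero.1 (h2 (by simp))).symm
  obtain ⟨m, hm⟩ := (D.T).2.exists_card_eq
  have hm3 : 3 ≤ m := by
    by_contra hm3
    interval_cases m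
    · rw [pow_zero, Subgroup.card_eq_one] at hm
      have ha' : a ∈ (D.T : Subgroup G) := ha
      rw [hm, Subgroup.mem_bot] at ha'
      exact hab (by rw [ha']; group)
    · haveI : IsCyclic (D.T : Subgroup G) := isCyclic_of_prime_card (hm.trans (pow_one p))
      exact hab (congrArg Subtype.val (IsCyclic.commGroup.mul_comm (⟨a, ha⟩ : (D.T : Subgroup G)) ⟨b, hb⟩))
    · exact hab (congrArg Subtype.val
        ((IsPGroup.commGroupOfCardEqPrimeSq hm).mul_comm (⟨a, ha⟩ : (D.T : Subgroup G)) ⟨b, hb⟩))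
  have hsurj : Function.Surjective φ := by
    haveI : Fintype (D.T : Subgroup G) := Fintype.ofFinite _
    refine ((Fintype.bijective_iff_injective_and_card φ).2 ⟨hφ, le_antisymm
      (Fintype.card_le_of_injective φ hφ) ?_⟩).2
    rw [Fintype.card_prod, Fintype.card_prod, ZMod.card, ← Nat.card_eq_fintype_card, hm]
    calc p * (p * p) = p ^ 3 := by ring
      _ ≤ p ^ m := Nat.pow_le_pow_right hp.out.pos hm3
  set P0 := (1 : Matrix (Fin 3) (Fin 3) (ZMod p)) - l⁻¹ • (A * B) - l⁻¹ • (B * A) with hP0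
  set Q := l⁻¹ • (B * A) with hQ
  set M : Matrix (Fin 3) (Fin 3) (ZMod p) := Matrix.single 1 0 1 with hM
  set X := P0 * M * Q with hX
  have hQP0 : Q * P0 = 0 := by
    rw [hP0, hQ]
    simp only [mul_sub, mul_one, mul_smul_comm, smul_mul_assoc]
    rw [show B * A * (A * B) = B * (A * A) * B by noncomm_ring, hA2, mul_zero, zero_mul, smul_zero,
      smul_zero, sub_zero, show B * A * (B * A) = B * (A * B * A) by noncomm_ring, hABA, mul_smul_comm,
      smul_smul, smul_smul, mul_assoc, inv_mul_cancel₀ hl, mul_one, sub_self]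
  have hrow : ∀ i j : Fin 3, i.val < 2 → (A * B) i j = 0 := fun i j hi => by
    rw [Matrix.mul_apply]
    exact Finset.sum_eq_zero fun x _ => by rw [hA, K.ge_z i x (by omega), zero_mul]
  have hcol : ∀ i j : Fin 3, 1 ≤ j.val → (B * A) i j = 0 := fun i j hj => by
    rw [Matrix.mul_apply]
    exact Finset.sum_eq_zero fun x _ => by rw [hA, K.ge_z x j (by omega), mul_zero]
  have h00 : Q 0 0 = 1 := by
    have h := left_zero K.γ_ne K.ge_z (D.lead_sub_one K) (M := B * A - l • 1) (b := (0 : Fin 3))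
      (fun c => by rw [← hA, mul_sub, ← mul_assoc, hABA, mul_smul_comm, mul_one, sub_self]; rfl) 0
      (by simp; omega)
    rw [Matrix.sub_apply, Matrix.smul_apply, sub_eq_zero, Matrix.one_apply_eq, smul_eq_mul, mul_one] at h
    rw [hQ, Matrix.smul_apply, h, smul_eq_mul, inv_mul_cancel₀ hl]
  have hXap : ∀ i j : Fin 3, X i j = P0 i 1 * Q 0 j := fun i j => by
    rw [hX, Matrix.mul_apply, Finset.sum_eq_single (0 : Fin 3)]
    · rw [hM, Matrix.mul_single_apply_same, mul_one]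
    · intro x _ hx
      rw [hM, Matrix.mul_single_apply_of_ne (c := (1 : ZMod p)) 1 0 i x hx P0, zero_mul]
    · exact fun h => absurd (Finset.mem_univ _) h
  have hP01 : ∀ i : Fin 3, i.val < 2 → P0 i 1 = (1 : Matrix (Fin 3) (Fin 3) (ZMod p)) i 1 := fun i hi => by
    rw [hP0, Matrix.sub_apply, Matrix.sub_apply, Matrix.smul_apply, hrow _ _ hi, hQ, Matrix.smul_apply,
      hcol _ _ (by simp)]
    simp
  have hX0 : ∀ i j : Fin 3, i.val < j.val + 1 → X i j = 0 := fun i j hij => by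
    rw [hXap]
    by_cases hj : 1 ≤ j.val
    · rw [hQ, Matrix.smul_apply, hcol _ _ hj, smul_zero, mul_zero]
    · obtain rfl : i = 0 := Fin.ext (by simp; omega)
      rw [hP01 _ (by simp), Matrix.one_apply_ne (by simp), zero_mul]
  have hX10 : X 1 0 = 1 := by
    rw [hXap, h00, mul_one, hP01 _ (by simp), Matrix.one_apply_eq]
  obtain ⟨t, ht⟩ := hsurj (X 1 0, X 2 1, X 2 0)
  have hρt : D.ρ (t : G) = 1 + X := by
    simp only [φ, Prod.mk.injEq] at ht
    ext i j
    rw [Matrix.add_apply]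
    have h2 := D.tri t.2 i j
    simp only [Matrix.sub_apply] at h2
    fin_cases i <;> fin_cases j <;> first
      | exact ht.1.trans (zero_add _).symm
      | exact ht.2.1.trans (zero_add _).symm
      | exact ht.2.2.trans (zero_add _).symm
      | exact (sub_eq_zero.1 (h2 (by simp))).trans (by rw [hX0 _ _ (by simp), add_zero])
  have ht1 : (t : G) ≠ 1 := fun h => by
    rw [h, map_one] at hρt
    have h' := congrFun (congrFun hρt 1) 0
    rw [Matrix.add_apply, hX10, Matrix.one_apply_ne (by simp), zero_add] at h'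
    exact zero_ne_one h'
  set n := wy 1 with hn
  have hρn : D.ρ n = wey A B l 1 := hwy 1
  have hρn' : D.ρ n⁻¹ = wey A B l (-1) :=
    left_inv_eq_right_inv (D.rho_inv_mul n) (hρn ▸ wey_inv hA2 hB2 hABA hBAB hl)
  have hmid : ∀ s : ZMod p, Q * wey A B l s * P0 = 0 := mid_wey_mid hA2 hB2 hABA hBAB hl
  have hXnX : ∀ s : ZMod p, X * wey A B l s * X = 0 := fun s => by
    rw [hX, show P0 * M * Q * wey A B l s * (P0 * M * Q) =
      P0 * M * (Q * wey A B l s * P0) * M * Q by noncomm_ring, hmid, mul_zero, zero_mul, zero_mul]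
  have hρu : D.ρ (n * t * n⁻¹) = 1 + wey A B l 1 * X * wey A B l (-1) := by
    rw [map_mul, map_mul, hρt, hρn, hρn', mul_add, mul_one, add_mul, wey_inv hA2 hB2 hABA hBAB hl]
  have hu : n * t * n⁻¹ * t = t * (n * t * n⁻¹) := D.inj (by
    rw [map_mul _ _ (t : G), map_mul _ (t : G), hρu, hρt]
    have e1 : wey A B l 1 * X * wey A B l (-1) * X = 0 := by
      rw [mul_assoc (wey A B l 1) X, mul_assoc (wey A B l 1), hXnX, mul_zero]
    have e2 : X * (wey A B l 1 * X * wey A B l (-1)) = 0 := by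
      rw [← mul_assoc, ← mul_assoc, hXnX, zero_mul]
    simp only [mul_add, add_mul, mul_one, one_mul, e1, e2]
    abel)
  have htT : (t : G) ∈ D.T := t.2
  have huH := D.centralizer_le (D.T_le htT) (D.pow_p hdp htT) ht1 hu
  have hnH : n ∈ D.H := D.mem_H t (D.T_le htT) (D.pow_p hdp htT) ht1 n huH
  have hzH : K.z ∈ D.H := D.T_le K.z_mem
  set e := (-((1 : ZMod p) * l)⁻¹).val with he
  have hwe : w ^ e ∈ D.H := by
    have h := mul_mem (mul_mem (inv_mem (pow_mem hzH (1 : ZMod p).val)) hnH)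
      (inv_mem (pow_mem hzH (1 : ZMod p).val))
    rwa [hn, hwy', ← he, show (K.z ^ (1 : ZMod p).val)⁻¹ * (K.z ^ (1 : ZMod p).val * w ^ e *
      K.z ^ (1 : ZMod p).val) * (K.z ^ (1 : ZMod p).val)⁻¹ = w ^ e by group] at h
  have hep : ¬ p ∣ e := fun h => by
    have h' := (ZMod.natCast_eq_zero_iff e p).2 h
    rw [he, ZMod.natCast_zmod_val, neg_eq_zero, inv_eq_zero, one_mul] at h'
    exact hl h'
  obtain ⟨j, hj⟩ := exists_pow_eq_self_of_coprime (x := w) (n := e)
    (((hp.out.coprime_iff_not_dvd.2 hep).symm).coprime_dvd_right (orderOf_dvd_of_pow_eq_one hwp))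
  have hwH : w ∈ D.H := hj ▸ pow_mem hwe j
  exact hg (D.mem_H K.z hzH (D.pow_p hdp K.z_mem) (D.z_ne K) g hwH)

/-- No datum with `d ≤ 2 k`, except possibly in dimension three with abelian Sylow subgroup. -/
theorem false_of_two_k (h5 : 5 ≤ p)
    (hd : 4 ≤ d ∨ ∃ a ∈ D.T, ∃ b ∈ D.T, a * b ≠ b * a) : False := by
  obtain ⟨g, hg⟩ : ∃ g, g ∉ D.H := by
    by_contra h
    push Not at h
    exact D.H_ne (eq_top_iff.2 fun g _ => h g)
  obtain ⟨l, hl, hABA, hBAB⟩ := D.exists_scalar K hdp hk h5 hg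
  set w := g * K.z * g⁻¹ with hw
  set A := D.ρ K.z - 1 with hA
  set B := D.ρ w - 1 with hB
  have hA2 : A * A = 0 := D.z_sq K hdp hk
  have hB2 : B * B = 0 := by
    have e2 : B = D.ρ g * A * D.ρ g⁻¹ := by
      rw [hB, hA, hw, mul_sub, sub_mul, mul_one, ← map_mul, ← map_mul, ← map_mul, mul_inv_cancel, map_one]
    rw [e2, show D.ρ g * A * D.ρ g⁻¹ * (D.ρ g * A * D.ρ g⁻¹) =
      D.ρ g * (A * (D.ρ g⁻¹ * D.ρ g) * A) * D.ρ g⁻¹ by noncomm_ring,
      D.rho_inv_mul, mul_one, hA2, mul_zero, zero_mul]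
  have hzne := D.z_ne K
  have hwH : w ∉ D.H := fun h => hg (D.mem_H K.z (D.T_le K.z_mem) (D.pow_p hdp K.z_mem) hzne g h)
  have hlead := D.lead_sub_one K
  have hwp : w ^ p = 1 := by rw [hw, conj_pow, D.pow_p hdp K.z_mem]; group
  have hpowB : ∀ (u : G) (U : Matrix (Fin d) (Fin d) (ZMod p)), D.ρ u - 1 = U → U * U = 0 →
      ∀ t : ZMod p, D.ρ (u ^ t.val) = 1 + t • U := by
    intro u U hU hU2 t
    have h : ∀ m : ℕ, D.ρ (u ^ m) = 1 + (m : ZMod p) • U := by
      intro m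
      induction m with
      | zero => rw [pow_zero, map_one, Nat.cast_zero, zero_smul, add_zero]
      | succ m ih =>
        rw [pow_succ, map_mul, ih, show D.ρ u = 1 + U by rw [← hU, add_sub_cancel], mul_add, mul_one,
          add_mul, one_mul, smul_mul_assoc, hU2, smul_zero, add_zero, Nat.cast_succ, add_smul, one_smul,
          add_assoc]
    rw [h, ZMod.natCast_zmod_val]
  let wy : ZMod p → G := fun t => K.z ^ t.val * w ^ (-(t * l)⁻¹).val * K.z ^ t.val
  have hwy : ∀ t, D.ρ (wy t) = wey A B l t := fun t => by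
    simp only [wy, map_mul, hpowB K.z A rfl hA2, hpowB w B rfl hB2, wey]
  by_cases hd' : 4 ≤ d
  · exact D.false_core K hdp hk h5 hg hl hABA hBAB hB2 wy hwy hd'
  · obtain ⟨a₁, ha₁, b₁, hb₁, hab₁⟩ := hd.resolve_left hd'
    exact D.false_three K hdp hk h5 hg hl hABA hBAB hB2 hwp wy hwy (fun t => rfl) (by omega) ha₁ hb₁ hab₁

end Datum

end Cfsg.Agent.RegularSE
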