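import Cfsg.Agent.Lib.RegularSE.Abelian
import Cfsg.Agent.Lib.RegularSE.Degree
import Cfsg.Agent.Lib.RegularSE.Quadratic
import Mathlib.GroupTheory.QuotientGroup.Basic

/-!
There is no linear group of degree at most `p` with a strongly embedded subgroup and a regular
unipotent element with small centralizer in the Sylow `p`-subgroup.
-/

set_option autoImplicit false
set_option linter.unusedSectionVars false

namespace Cfsg.Agent.RegularSE

open Matrix

universe u

variable {p : ℕ} [hp : Fact p.Prime]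

namespace Datum

variable {d : ℕ} {G : Type u} [Group G] [Finite G] (D : Datum p d G)

/-- The cases with an abelian Sylow subgroup and an invariant flag subspace. -/
theorem abelian_and_flag (h5 : 5 ≤ p) (hdp : d ≤ p) :
    (∀ a ∈ D.T, ∀ b ∈ D.T, a * b = b * a) ∧ D.HasInvariantFlag := by
  obtain ⟨K⟩ := D.exists_kit hdp
  have hk2 := K.two_le
  have hkd := K.k_lt
  have hab : ∀ a ∈ D.T, ∀ b ∈ D.T, a * b = b * a := by
    by_contra h
    have hlt := D.lt_two_k K hdp h
    push Not at h
    exact D.false_of_two_k K hdp hlt.le h5 (Or.inr h)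
  refine ⟨hab, ?_⟩
  by_cases h1 : 2 * K.k < d
  · exact D.hasInvariantFlag_of_small hdp K h5 hab h1
  by_cases h2 : d = 3
  · exact D.hasInvariantFlag_of_three hdp K h5 hab h2
  exact (D.false_of_two_k K hdp (by omega) h5 (Or.inl (by omega))).elim

/-- Transport to a representation whose kernel has order prime to `p`. -/
theorem exists_quotient (hdp : d ≤ p) (hab : ∀ a ∈ D.T, ∀ b ∈ D.T, a * b = b * a) {d' : ℕ}
    (ρ' : G →* Matrix (Fin d') (Fin d') (ZMod p)) (hx : ρ' D.x = 1 + shift (ZMod p) d' 1)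
    (hker : ¬ p ∣ Nat.card ρ'.ker) : Nonempty (Datum p d' (G ⧸ ρ'.ker)) := by
  classical
  set N := ρ'.ker with hN
  set π := QuotientGroup.mk' N with hπ
  have hπs : Function.Surjective π := QuotientGroup.mk'_surjective N
  have hNH : N ≤ D.H := D.normal_coprime_le hdp hker
  have hmap : ∀ y : G, π y ∈ D.H.map π → y ∈ D.H := by
    intro y hy
    obtain ⟨h, hh, he⟩ := hy
    have h1 : h⁻¹ * y ∈ N := by
      rw [← QuotientGroup.eq_one_iff, QuotientGroup.mk_mul, QuotientGroup.mk_inv, inv_mul_eq_one]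
      exact he
    simpa using mul_mem hh (hNH h1)
  have hinj : ∀ s ∈ D.T, ∀ t ∈ D.T, π s = π t → s = t := by
    intro s hs t ht he
    have h1 : s⁻¹ * t ∈ N := by
      rw [← QuotientGroup.eq_one_iff, QuotientGroup.mk_mul, QuotientGroup.mk_inv, inv_mul_eq_one]
      exact he
    by_contra hne
    have hord : orderOf (s⁻¹ * t) = p :=
      orderOf_eq_prime (D.pow_p hdp (mul_mem (inv_mem hs) ht)) fun h => hne (inv_mul_eq_one.1 h)
    exact hker (hord ▸ Subgroup.orderOf_dvd_natCard _ h1)
  let ρq : G ⧸ N →* Matrix (Fin d') (Fin d') (ZMod p) := QuotientGroup.lift N ρ' le_rfl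
  have hρq : Function.Injective ρq := by
    intro q q'
    induction q using QuotientGroup.induction_on with | H a => ?_
    induction q' using QuotientGroup.induction_on with | H b => ?_
    intro h
    change ρ' a = ρ' b at h
    rw [QuotientGroup.eq]
    show ρ' (a⁻¹ * b) = 1
    rw [map_mul, ← h, ← map_mul, inv_mul_cancel, map_one]
  refine ⟨{ ρ := ρq, inj := hρq,
            H := D.H.map π, T := D.T.mapSurjective hπs, x := π D.x, H_ne := ?_, T_le := ?_,
            mem_H := ?_, x_mem := ?_, rho_x := ?_, card_cent := ?_ }⟩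
  · intro h
    exact D.H_ne (eq_top_iff.2 fun y _ => hmap y (h ▸ Subgroup.mem_top _))
  · rw [Sylow.coe_mapSurjective]
    exact Subgroup.map_mono D.T_le
  · intro t ht htp ht1 g hg
    obtain ⟨h, hh, rfl⟩ := ht
    obtain ⟨g, rfl⟩ := hπs g
    refine ⟨g, ?_, rfl⟩
    have hhp : h ^ p ∈ N := by
      rw [← QuotientGroup.eq_one_iff]
      exact (map_pow π h p).trans htp
    set c := Nat.card N with hc
    have h1 : (h ^ c) ^ p = 1 := by
      rw [← pow_mul, mul_comm, pow_mul]
      exact congrArg Subtype.val (pow_card_eq_one' (G := N) (x := ⟨h ^ p, hhp⟩))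
    have h2 : h ^ c ≠ 1 := fun h2 => ht1 (by
      have h3 : π h ^ c = 1 := by rw [← map_pow, h2, map_one]
      exact orderOf_eq_one_iff.1 (Nat.eq_one_of_dvd_coprimes (hp.out.coprime_iff_not_dvd.2 hker)
        (orderOf_dvd_of_pow_eq_one htp) (orderOf_dvd_of_pow_eq_one h3)))
    refine D.mem_H (h ^ c) (pow_mem hh c) h1 h2 g ?_
    rw [← conj_pow]
    refine pow_mem (hmap _ ?_) c
    rwa [map_mul, map_mul, map_inv]
  · show π D.x ∈ ((D.T.mapSurjective hπs : Sylow p (G ⧸ N)) : Subgroup (G ⧸ N))
    rw [Sylow.coe_mapSurjective]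
    exact Subgroup.mem_map_of_mem π D.x_mem
  · exact hx
  · rw [Sylow.coe_mapSurjective]
    have h1 : ((D.T : Subgroup G).map π ⊓ Subgroup.centralizer {π D.x} : Subgroup (G ⧸ N)) =
        (D.T : Subgroup G).map π := by
      refine inf_eq_left.2 ?_
      rintro _ ⟨t, ht, rfl⟩
      rw [Subgroup.mem_centralizer_singleton_iff, ← map_mul, ← map_mul, hab t ht _ D.x_mem]
    rw [h1]
    have h2 : ((D.T : Subgroup G) ⊓ Subgroup.centralizer {D.x} : Subgroup G) = (D.T : Subgroup G) :=
      inf_eq_left.2 fun t ht => Subgroup.mem_centralizer_singleton_iff.2 (hab t ht _ D.x_mem)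
    rw [← D.card_cent, h2]
    refine (Nat.card_eq_of_bijective (f := fun t : (D.T : Subgroup G) =>
      (⟨π t, Subgroup.mem_map_of_mem π t.2⟩ : (D.T : Subgroup G).map π)) ⟨?_, ?_⟩).symm
    · intro s t h
      exact Subtype.ext (hinj s s.2 t t.2 (congrArg Subtype.val h))
    · rintro ⟨_, t, ht, rfl⟩
      exact ⟨⟨t, ht⟩, rfl⟩

/-- The diagonal block of an invariant flag is a representation. -/
theorem exists_block {r : ℕ} (hflag : ∀ (g : G) (a c : Fin d), a.val < r → r ≤ c.val → D.ρ g a c = 0)
    {e : ℕ} (f : Fin e → Fin d) (hf : Function.Injective f) (o : ℕ) (hfo : ∀ i, (f i).val = o + i.val)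
    (hcl : ∀ (i : Fin e) (l : Fin d), l ∉ Set.range f →
      ((∀ j : Fin e, (f i).val < r ∧ r ≤ l.val) ∨ ∀ j : Fin e, l.val < r ∧ r ≤ (f j).val)) :
    ∃ ρ' : G →* Matrix (Fin e) (Fin e) (ZMod p), ρ' D.x = 1 + shift (ZMod p) e 1 ∧
      ∀ g i j, ρ' g i j = D.ρ g (f i) (f j) := by
  refine ⟨{ toFun := fun g => (D.ρ g).submatrix f f, map_one' := ?_, map_mul' := fun g h => ?_ }, ?_,
    fun g i j => rfl⟩
  · rw [map_one, Matrix.submatrix_one _ hf]
  · ext i j
    rw [map_mul, Matrix.submatrix_apply, Matrix.mul_apply, Matrix.mul_apply]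
    refine (Fintype.sum_of_injective f hf _ _ (fun l hl => ?_) fun _ => rfl).symm
    rcases hcl i l hl with h' | h'
    · rw [hflag g (f i) l (h' j).1 (h' j).2, zero_mul]
    · rw [hflag h l (f j) (h' j).1 (h' j).2, mul_zero]
  · ext i j
    show D.ρ D.x (f i) (f j) = _
    rw [D.rho_x, Matrix.add_apply, Matrix.add_apply, shift_apply, shift_apply, hfo, hfo]
    congr 1
    · simp [Matrix.one_apply, hf.eq_iff]
    · by_cases h : i.val = j.val + 1
      · rw [if_pos h, if_pos (by omega)]
      · rw [if_neg h, if_neg (by omega)]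

end Datum

/-- No datum exists. -/
theorem not_datum (h5 : 5 ≤ p) :
    ∀ d : ℕ, d ≤ p → ∀ (G : Type u) [Group G] [Finite G], Datum p d G → False := by
  intro d
  induction d using Nat.strong_induction_on with
  | _ d ih =>
    intro hdp G _ _ D
    obtain ⟨hab, r, hr0, hrd, hflag⟩ := D.abelian_and_flag h5 hdp
    obtain ⟨ρ₁, hx₁, hρ₁⟩ := D.exists_block hflag (e := r) (Fin.castLE hrd.le) (Fin.castLE_injective _) 0
      (fun i => (Nat.zero_add _).symm) (fun i l hl => Or.inl fun _ => ⟨i.2, by
        by_contra h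
        exact hl ⟨⟨l.val, not_le.1 h⟩, rfl⟩⟩)
    obtain ⟨ρ₂, hx₂, hρ₂⟩ := D.exists_block hflag (e := d - r) (fun i => ⟨r + i.val, by omega⟩)
      (fun i j h => Fin.ext (by have := congrArg Fin.val h; simp at this; exact this)) r (fun i => rfl)
      (fun i l hl => Or.inr fun j => ⟨by
        by_contra h
        exact hl ⟨⟨l.val - r, by omega⟩, Fin.ext (by simp; omega)⟩, by simp⟩)
    by_cases h1 : p ∣ Nat.card ρ₁.ker
    · by_cases h2 : p ∣ Nat.card ρ₂.ker
      · -- both kernels contain elements of order `p`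
        have hbot : ρ₁.ker ⊓ ρ₂.ker = ⊥ := by
          refine D.normal_pGroup_eq_bot hdp fun g => ⟨1, Subtype.ext (D.inj ?_)⟩
          have hg1 : ρ₁ g = 1 := g.2.1
          have hg2 : ρ₂ g = 1 := g.2.2
          have hsq : (D.ρ (g : G) - 1) * (D.ρ (g : G) - 1) = 0 := by
            have hz : ∀ a c : Fin d, (a.val < r ∨ r ≤ c.val) → (D.ρ (g : G) - 1) a c = 0 := by
              intro a c hac
              by_cases ha : a.val < r
              · by_cases hc : r ≤ c.val
                · rw [Matrix.sub_apply, hflag _ a c ha hc,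
                    Matrix.one_apply_ne (fun e => by subst e; omega), sub_zero]
                · have h := congrFun (congrFun hg1 ⟨a.val, ha⟩) ⟨c.val, not_le.1 hc⟩
                  rw [hρ₁] at h
                  rw [Matrix.sub_apply, sub_eq_zero]
                  refine Eq.trans ?_ (h.trans ?_)
                  · rfl
                  · simp [Matrix.one_apply, Fin.ext_iff]
              · have hc : r ≤ c.val := hac.resolve_left ha
                have h := congrFun (congrFun hg2 ⟨a.val - r, by omega⟩) ⟨c.val - r, by omega⟩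
                rw [hρ₂] at h
                rw [Matrix.sub_apply, sub_eq_zero]
                refine Eq.trans ?_ (h.trans ?_)
                · exact congr_arg₂ (D.ρ (g : G)) (Fin.ext (by simp; omega)) (Fin.ext (by simp; omega))
                · simp [Matrix.one_apply, Fin.ext_iff]
                  congr 1
                  exact propext ⟨fun h => by omega, fun h => by omega⟩
            ext a c
            rw [Matrix.mul_apply]
            refine Finset.sum_eq_zero fun l _ => ?_
            by_cases hl : r ≤ l.val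
            · rw [hz a l (Or.inr hl), zero_mul]
            · rw [hz l c (Or.inl (not_le.1 hl)), mul_zero]
          haveI : Nonempty (Fin d) := ⟨⟨0, by omega⟩⟩
          haveI : CharP (Matrix (Fin d) (Fin d) (ZMod p)) p := Matrix.charP p
          have hpow : (D.ρ (g : G) - 1) ^ p = 0 :=
            pow_eq_zero_of_le (by omega : 2 ≤ p) (by rw [sq]; exact hsq)
          rw [sub_pow_char_of_commute _ (Commute.one_right _), one_pow, sub_eq_zero] at hpow
          rw [pow_one, SubmonoidClass.coe_pow, Subgroup.coe_one, map_pow, map_one, hpow]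
        have hget : ∀ (N : Subgroup G) [N.Normal], p ∣ Nat.card N →
            ∃ t ∈ N, t ∈ D.T ∧ t ^ p = 1 ∧ t ≠ 1 := by
          intro N _ hN
          obtain ⟨u, huT, huN, hu1, -⟩ := exists_central_mem hN D.T
          exact ⟨u, huN, huT, D.pow_p hdp huT, hu1⟩
        obtain ⟨t₁, ht₁, ht₁T, ht₁p, ht₁1⟩ := hget _ h1
        obtain ⟨t₂, ht₂, ht₂T, ht₂p, ht₂1⟩ := hget _ h2
        have hcomm : ∀ a ∈ ρ₁.ker, a * t₂ = t₂ * a := fun a ha => by
          have e1 : a * t₂ * a⁻¹ * t₂⁻¹ ∈ ρ₁.ker := by
            rw [mul_assoc, mul_assoc]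
            exact Subgroup.mul_mem _ ha (by
              simpa [mul_assoc] using
                (inferInstance : ρ₁.ker.Normal).conj_mem _ (Subgroup.inv_mem _ ha) t₂)
          have e2 : a * t₂ * a⁻¹ * t₂⁻¹ ∈ ρ₂.ker :=
            Subgroup.mul_mem _ ((inferInstance : ρ₂.ker.Normal).conj_mem t₂ ht₂ a) (Subgroup.inv_mem _ ht₂)
          have hmem : a * t₂ * a⁻¹ * t₂⁻¹ ∈ ρ₁.ker ⊓ ρ₂.ker := ⟨e1, e2⟩
          rw [hbot, Subgroup.mem_bot, mul_inv_eq_one, mul_inv_eq_iff_eq_mul] at hmem
          exact hmem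
        exact D.not_le_of_normal hdp
          (fun a ha => D.centralizer_le (D.T_le ht₂T) ht₂p ht₂1 (hcomm a ha)) ht₁ ht₁p ht₁1
      · obtain ⟨D'⟩ := D.exists_quotient hdp hab ρ₂ hx₂ h2
        exact ih (d - r) (by omega) (by omega) _ D'
    · obtain ⟨D'⟩ := D.exists_quotient hdp hab ρ₁ hx₁ h1
      exact ih r hrd (by omega) _ D'

end Cfsg.Agent.RegularSE
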