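import Cfsg.Agent.Lib.RegularSE.Tensor
import Mathlib.GroupTheory.Sylow
import Mathlib.GroupTheory.GroupAction.Quotient
import Mathlib.GroupTheory.PGroup

/-!
The trace of an element fixed by an abelian Sylow subgroup of order `p ^ 2`, split by orbits.
-/

set_option autoImplicit false
set_option linter.unusedSectionVars false

namespace Cfsg.Agent.RegularSE

open Matrix
open scoped Classical

variable {p : ℕ} [hp : Fact p.Prime] {G : Type*} [Group G] [Finite G]
  {κ : Type*} [Fintype κ] [DecidableEq κ]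

variable (P : G →* Matrix κ κ (ZMod p)) (T : Subgroup G) (m : κ → ZMod p)

/-- The value at a coset. -/
noncomputable def cosetVal (q : G ⧸ T) : κ → ZMod p := P q.out *ᵥ m

/-- The trace from `T` to `G`. -/
noncomputable def trT : κ → ZMod p :=
  ∑ q ∈ @Finset.univ (G ⧸ T) (Fintype.ofFinite _), cosetVal P T m q

variable {P T m}

theorem cosetVal_mk (hm : ∀ t ∈ T, P t *ᵥ m = m) (g : G) : cosetVal P T m (g : G ⧸ T) = P g *ᵥ m := by
  obtain ⟨t, ht⟩ := QuotientGroup.mk_out_eq_mul T g
  rw [cosetVal, ht, map_mul, ← Matrix.mulVec_mulVec, hm _ t.2]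

theorem smul_cosetVal (hm : ∀ t ∈ T, P t *ᵥ m = m) (g : G) (q : G ⧸ T) :
    P g *ᵥ cosetVal P T m q = cosetVal P T m (g • q) := by
  induction q using QuotientGroup.induction_on with
  | H a =>
    rw [cosetVal_mk hm, MulAction.Quotient.smul_mk, cosetVal_mk hm, Matrix.mulVec_mulVec, ← map_mul]
    rfl

theorem trT_invariant (hm : ∀ t ∈ T, P t *ᵥ m = m) (g : G) : P g *ᵥ trT P T m = trT P T m := by
  letI : Fintype (G ⧸ T) := Fintype.ofFinite _
  unfold trT
  rw [Matrix.mulVec_sum]
  simp only [smul_cosetVal hm]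
  exact Fintype.sum_equiv (MulAction.toPerm g) _ _ fun q => rfl

theorem fixed_iff (q : G ⧸ T) :
    (∀ t ∈ T, t • q = q) ↔ ∀ t ∈ T, q.out⁻¹ * t * q.out ∈ T := by
  constructor
  · intro h t ht
    have h1 := h t ht
    rw [← QuotientGroup.out_eq' q, MulAction.Quotient.smul_mk, QuotientGroup.eq] at h1
    have := inv_mem h1
    simpa [mul_assoc] using this
  · intro h t ht
    rw [← QuotientGroup.out_eq' q, MulAction.Quotient.smul_mk, QuotientGroup.eq]
    have := inv_mem (h t ht)
    simpa [mul_assoc] using this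

theorem smul_mem_normalizer {q : G ⧸ T} (h : ∀ t ∈ T, t • q = q) :
    q.out ∈ Subgroup.normalizer (T : Set G) := by
  have h1 := (fixed_iff q).1 h
  have h2 : T.map (MulAut.conj q.out⁻¹).toMonoidHom = T :=
    Subgroup.eq_of_le_of_card_ge (by rintro _ ⟨t, ht, rfl⟩; simpa using h1 t ht)
      (Subgroup.card_map_of_injective (MulAut.conj q.out⁻¹).injective).ge
  rw [Subgroup.mem_normalizer_iff]
  intro y
  constructor
  · intro hy
    obtain ⟨t, ht, he⟩ : y ∈ T.map (MulAut.conj q.out⁻¹).toMonoidHom := h2.symm ▸ hy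
    rw [← he]
    simpa [mul_assoc] using ht
  · intro hy
    simpa [mul_assoc] using h1 _ hy

theorem norm_fil {δ : κ → ℤ} {u : G} {s e : ℤ} (hu : Raises δ s (P u - 1)) {v : κ → ZMod p}
    (hv : Fil δ e v) : Fil δ (e + (p - 1 : ℕ) * s) (∑ a ∈ Finset.range p, P (u ^ a) *ᵥ v) := by
  have h : ∑ a ∈ Finset.range p, P (u ^ a) *ᵥ v = (P u - 1) ^ (p - 1) *ᵥ v := by
    rw [← sum_pow_eq, Matrix.sum_mulVec]
    simp only [map_pow]
  rw [h]
  exact (hu.pow (p - 1)).fil hv

variable {δ : κ → ℤ} {x z : G} {k : ℤ} {L e₀ e₁ : ℤ}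

/-- The part of the trace coming from the moved cosets. -/
theorem moved_fil (hk : 1 ≤ k) (hm : ∀ t ∈ T, P t *ᵥ m = m) (hxT : x ∈ T) (hzT : z ∈ T)
    (hxp : x ^ p = 1) (hzp : z ^ p = 1) (hcard : Nat.card T = p ^ 2)
    (hgen : ∀ t ∈ T, ∃ a b : ℕ, t = x ^ a * z ^ b) (hxz : x * z = z * x)
    (hx : Raises δ 1 (P x - 1)) (hz : Raises δ k (P z - 1))
    (h₀ : ∀ g : G, Fil δ e₀ (P g *ᵥ m))
    (h₁ : ∀ g : G, g ∉ Subgroup.normalizer (T : Set G) → (∃ r ∈ T, r ≠ 1 ∧ g⁻¹ * r * g ∈ T) →
      Fil δ e₁ (P g *ᵥ m))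
    (hL₀ : L ≤ e₀ + (p - 1 : ℕ) * (1 + k)) (hL₁ : L ≤ e₁ + (p - 1 : ℕ))
    (s : Finset (G ⧸ T)) (hinv : ∀ t ∈ T, ∀ q ∈ s, t • q ∈ s)
    (hmov : ∀ q ∈ s, ¬ ∀ t ∈ T, t • q = q) : Fil δ L (∑ q ∈ s, cosetVal P T m q) := by
  induction hn : s.card using Nat.strong_induction_on generalizing s with
  | _ n ih =>
    rcases s.eq_empty_or_nonempty with rfl | ⟨q, hq⟩
    · exact fun c _ => by simp
    haveI : Fintype T := Fintype.ofFinite T
    let O : Finset (G ⧸ T) := Finset.univ.image fun t : T => (t : G) • q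
    have hOs : O ⊆ s := fun y hy => by
      obtain ⟨t, -, rfl⟩ := Finset.mem_image.1 hy
      exact hinv t t.2 q hq
    have hqO : q ∈ O := Finset.mem_image.2 ⟨1, Finset.mem_univ _, by simp⟩
    rw [← Finset.sum_sdiff hOs]
    refine Fil.add (ih (s \ O).card ?_ (s \ O) ?_ ?_ rfl) ?_
    · rw [← hn]
      exact Finset.card_lt_card (Finset.sdiff_ssubset hOs ⟨q, hqO⟩)
    · intro t ht y hy
      rw [Finset.mem_sdiff] at hy ⊢
      refine ⟨hinv t ht y hy.1, fun hyO => hy.2 ?_⟩
      obtain ⟨t', -, he⟩ := Finset.mem_image.1 hyO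
      refine Finset.mem_image.2 ⟨⟨t⁻¹ * t', mul_mem (inv_mem ht) t'.2⟩, Finset.mem_univ _, ?_⟩
      show (t⁻¹ * (t' : G)) • q = y
      rw [mul_smul, he, inv_smul_smul]
    · exact fun y hy => hmov y (Finset.mem_sdiff.1 hy).1
    have hp0 := hp.out.pos
    by_cases hstab : ∀ t ∈ T, t • q = q → t = 1
    · -- regular orbit
      have hO : O = (Finset.range p ×ˢ Finset.range p).image fun ab => (x ^ ab.1 * z ^ ab.2) • q := by
        ext y
        simp only [O, Finset.mem_image, Finset.mem_univ, true_and, Finset.mem_product, Finset.mem_range]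
        constructor
        · rintro ⟨t, rfl⟩
          obtain ⟨a, b, hab⟩ := hgen t t.2
          refine ⟨(a % p, b % p), ⟨Nat.mod_lt _ hp0, Nat.mod_lt _ hp0⟩, ?_⟩
          rw [hab, ← pow_eq_pow_mod a hxp, ← pow_eq_pow_mod b hzp]
        · rintro ⟨ab, -, rfl⟩
          exact ⟨⟨_, mul_mem (pow_mem hxT _) (pow_mem hzT _)⟩, rfl⟩
      have hinj : Set.InjOn (fun ab : ℕ × ℕ => (x ^ ab.1 * z ^ ab.2) • q)
          (Finset.range p ×ˢ Finset.range p : Finset (ℕ × ℕ)) := by
        refine Finset.card_image_iff.1 ?_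
        rw [← hO]
        simp only [O]
        rw [Finset.card_image_of_injective, Finset.card_univ, ← Nat.card_eq_fintype_card, hcard,
          Finset.card_product, Finset.card_range, sq]
        intro t t' he
        have h := hstab ((t' : G)⁻¹ * t) (mul_mem (inv_mem t'.2) t.2) (by
          rw [mul_smul, show (t : G) • q = (t' : G) • q from he, inv_smul_smul])
        exact Subtype.ext (inv_mul_eq_one.1 h).symm
      rw [hO, Finset.sum_image hinj, Finset.sum_product]
      have hsum : ∀ a, (∑ b ∈ Finset.range p, cosetVal P T m ((x ^ a * z ^ b) • q)) =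
          P (x ^ a) *ᵥ ∑ b ∈ Finset.range p, P (z ^ b) *ᵥ cosetVal P T m q := fun a => by
        rw [Matrix.mulVec_sum]
        exact Finset.sum_congr rfl fun b _ => by
          rw [smul_cosetVal hm, smul_cosetVal hm, ← mul_smul]
      simp only [hsum]
      refine (norm_fil hx (norm_fil hz (h₀ q.out))).mono ?_
      calc L ≤ e₀ + (p - 1 : ℕ) * (1 + k) := hL₀
        _ = _ := by ring
    · push Not at hstab
      obtain ⟨r, hrT, hrq, hr1⟩ := hstab
      obtain ⟨u, huT, hup, huq, hus⟩ : ∃ u ∈ T, u ^ p = 1 ∧ u • q ≠ q ∧ Raises δ 1 (P u - 1) := by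
        by_cases hxq : x • q = q
        · refine ⟨z, hzT, hzp, fun hzq => hmov q hq fun t ht => ?_, fun a b hab => hz a b (by omega)⟩
          obtain ⟨a, b, rfl⟩ := hgen t ht
          rw [mul_smul]
          have h1 : ∀ (w : G), w • q = q → ∀ n : ℕ, w ^ n • q = q := by
            intro w hw n
            induction n with
            | zero => rw [pow_zero, one_smul]
            | succ n ihn => rw [pow_succ, mul_smul, hw, ihn]
          rw [h1 z hzq, h1 x hxq]
        · exact ⟨x, hxT, hxp, hxq, hx⟩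
      have hg : q.out ∉ Subgroup.normalizer (T : Set G) := fun h => hmov q hq <| (fixed_iff q).2
        fun t ht => by simpa [mul_assoc] using (Subgroup.mem_normalizer_iff.1 (inv_mem h) t).1 ht
      have hv : Fil δ e₁ (cosetVal P T m q) := h₁ _ hg ⟨r, hrT, hr1, by
        rw [← QuotientGroup.out_eq' q, MulAction.Quotient.smul_mk, QuotientGroup.eq] at hrq
        simpa [mul_assoc] using inv_mem hrq⟩
      -- the orbit has at most `p` points, and the powers of `u` give `p` of them
      have hinj : Set.InjOn (fun a : ℕ => u ^ a • q) (Finset.range p : Finset ℕ) := by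
        have key : ∀ n : ℕ, u ^ n • q = q → p ∣ n := by
          intro n hn'
          by_contra hpn
          obtain ⟨j, hj⟩ := exists_pow_eq_self_of_coprime (x := u) (n := n)
            ((((hp.out.coprime_iff_not_dvd.2 hpn).symm)).coprime_dvd_right (orderOf_dvd_of_pow_eq_one hup))
          refine huq ?_
          rw [← hj]
          clear hj
          induction j with
          | zero => rw [pow_zero, one_smul]
          | succ j ihj => rw [pow_succ, mul_smul, hn', ihj]
        intro a ha b hb he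
        simp only [Finset.coe_range, Set.mem_Iio] at ha hb
        have aux : ∀ c e : ℕ, c ≤ e → e < p → u ^ c • q = u ^ e • q → c = e := by
          intro c e hce hep he'
          have h1 : u ^ c • (u ^ (e - c) • q) = u ^ c • q := by
            rw [← mul_smul, ← pow_add, Nat.add_sub_cancel' hce]; exact he'.symm
          have h2 := key _ (MulAction.injective (u ^ c) h1)
          have := Nat.eq_zero_of_dvd_of_lt h2 (by omega)
          omega
        rcases le_total a b with hab | hab
        · exact aux a b hab hb he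
        · exact (aux b a hab ha he.symm).symm
      have hO : O = (Finset.range p).image fun a => u ^ a • q := by
        refine (Finset.eq_of_subset_of_card_le (fun y hy => ?_) ?_).symm
        · obtain ⟨a, -, rfl⟩ := Finset.mem_image.1 hy
          exact Finset.mem_image.2 ⟨⟨_, pow_mem huT a⟩, Finset.mem_univ _, rfl⟩
        rw [Finset.card_image_of_injOn hinj, Finset.card_range]
        have h1 : O.card = Nat.card (MulAction.orbit T q) := by
          rw [Nat.card_coe_set_eq, ← Set.ncard_coe_finset]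
          congr 1
          ext y
          simp only [O, Finset.coe_image, Finset.coe_univ, Set.image_univ, Set.mem_range]
          exact Iff.rfl
        have h2 : Nat.card (MulAction.orbit T q) * Nat.card (MulAction.stabilizer T q) = p ^ 2 := by
          rw [← hcard, ← Subgroup.index_mul_card (MulAction.stabilizer T q)]
          congr 1
          exact (MulAction.index_stabilizer T q).symm
        have h3 : Nat.card (MulAction.stabilizer T q) ∣ p ^ 2 := Dvd.intro_left _ h2
        obtain ⟨i, hi2, hi⟩ := (Nat.dvd_prime_pow hp.out).1 h3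
        have hi0 : i ≠ 0 := by
          rintro rfl
          rw [pow_zero, Subgroup.card_eq_one] at hi
          have h4 : (⟨r, hrT⟩ : T) ∈ MulAction.stabilizer T q := hrq
          rw [hi, Subgroup.mem_bot] at h4
          exact hr1 (congrArg Subtype.val h4)
        have h5 : p ≤ Nat.card (MulAction.stabilizer T q) := hi ▸ Nat.le_self_pow hi0 p
        rw [h1]
        refine Nat.le_of_mul_le_mul_right ?_ hp0
        calc Nat.card (MulAction.orbit T q) * p
            ≤ Nat.card (MulAction.orbit T q) * Nat.card (MulAction.stabilizer T q) :=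
              Nat.mul_le_mul_left _ h5
          _ = p * p := by rw [h2, sq]
      rw [hO, Finset.sum_image hinj]
      have hsum : (∑ a ∈ Finset.range p, cosetVal P T m (u ^ a • q)) =
          ∑ a ∈ Finset.range p, P (u ^ a) *ᵥ cosetVal P T m q :=
        Finset.sum_congr rfl fun a _ => (smul_cosetVal hm _ _).symm
      rw [hsum]
      exact (norm_fil hus hv).mono (by rw [mul_one]; exact hL₁)

/-- The trace is congruent to the sum over the fixed cosets, whose number is prime to `p`. -/
theorem trT_split (hk : 1 ≤ k) (hm : ∀ t ∈ T, P t *ᵥ m = m) (hxT : x ∈ T) (hzT : z ∈ T)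
    (hxp : x ^ p = 1) (hzp : z ^ p = 1) (hcard : Nat.card T = p ^ 2)
    (hgen : ∀ t ∈ T, ∃ a b : ℕ, t = x ^ a * z ^ b) (hxz : x * z = z * x)
    (hx : Raises δ 1 (P x - 1)) (hz : Raises δ k (P z - 1))
    (h₀ : ∀ g : G, Fil δ e₀ (P g *ᵥ m))
    (h₁ : ∀ g : G, g ∉ Subgroup.normalizer (T : Set G) → (∃ r ∈ T, r ≠ 1 ∧ g⁻¹ * r * g ∈ T) →
      Fil δ e₁ (P g *ᵥ m))
    (hL₀ : L ≤ e₀ + (p - 1 : ℕ) * (1 + k)) (hL₁ : L ≤ e₁ + (p - 1 : ℕ))
    (hdvd : ¬ p ∣ T.index) :
    ∃ F : Finset G, ¬ p ∣ F.card ∧ (∀ n ∈ F, n ∈ Subgroup.normalizer (T : Set G)) ∧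
      Fil δ L (trT P T m - ∑ n ∈ F, P n *ᵥ m) := by
  letI : Fintype (G ⧸ T) := Fintype.ofFinite _
  haveI : Finite T := inferInstance
  set fx : Finset (G ⧸ T) := Finset.univ.filter fun q => ∀ t ∈ T, t • q = q with hfx
  have hTp : IsPGroup p T := IsPGroup.of_card hcard
  refine ⟨fx.image Quotient.out, ?_, ?_, ?_⟩
  · rw [Finset.card_image_of_injective _ Quotient.out_injective]
    intro h
    have h1 := hTp.card_modEq_card_fixedPoints (G ⧸ T)
    have h2 : Nat.card (MulAction.fixedPoints T (G ⧸ T)) = fx.card := by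
      rw [Nat.card_coe_set_eq, ← Set.ncard_coe_finset]
      congr 1
      ext q
      simp only [hfx, MulAction.mem_fixedPoints, Finset.coe_filter, Finset.mem_univ, true_and,
        Set.mem_setOf_eq, Subtype.forall]
      exact Iff.rfl
    rw [h2] at h1
    exact hdvd ((Nat.ModEq.dvd_iff h1 dvd_rfl).2 h)
  · intro n hn
    obtain ⟨q, hq, rfl⟩ := Finset.mem_image.1 hn
    exact smul_mem_normalizer (Finset.mem_filter.1 hq).2
  · rw [Finset.sum_image fun a _ b _ h => Quotient.out_injective h]
    have e : trT P T m - ∑ q ∈ fx, P q.out *ᵥ m = ∑ q ∈ Finset.univ \ fx, cosetVal P T m q := by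
      rw [sub_eq_iff_eq_add]
      exact (Finset.sum_sdiff (Finset.subset_univ fx)).symm
    show Fil δ L (trT P T m - ∑ q ∈ fx, P (Quotient.out q) *ᵥ m)
    erw [e]
    refine moved_fil hk hm hxT hzT hxp hzp hcard hgen hxz hx hz h₀ h₁ hL₀ hL₁ _ ?_ ?_
    · intro t ht q hq
      simp only [hfx, Finset.mem_sdiff, Finset.mem_univ, Finset.mem_filter, true_and] at hq ⊢
      refine fun h => hq fun t' ht' => MulAction.injective t ?_
      have e1 : t * t' = t' * t := by
        obtain ⟨a, b, rfl⟩ := hgen t ht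
        obtain ⟨a', b', rfl⟩ := hgen t' ht'
        have hc : ∀ i j : ℕ, Commute (x ^ i) (z ^ j) := fun i j => Commute.pow_pow hxz i j
        exact (((Commute.pow_pow_self x a a').mul_right (hc a b')).mul_left
          (((hc a' b).symm).mul_right (Commute.pow_pow_self z b b'))).eq
      show t • t' • q = t • q
      rw [← mul_smul, e1, mul_smul]
      exact h t' ht'
    · intro q hq
      simpa [hfx] using hq

end Cfsg.Agent.RegularSE
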