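import Cfsg.Agent.Lib.RegularSE.Kit
import Cfsg.Agent.Lib.RegularSE.Orbit

/-!
Block triangular matrices, the conjugation representation, and conjugation inside centralizers.
-/

set_option autoImplicit false
set_option linter.unusedSectionVars false

namespace Cfsg.Agent.RegularSE

open Matrix
open scoped Pointwise

variable {R : Type*} [CommRing R] {d : ℕ}

/-- Lower triangular by blocks of size `e`. -/
def BL (e : ℕ) (M : Matrix (Fin d) (Fin d) R) : Prop :=
  ∀ r c : Fin d, r.val / e < c.val / e → M r c = 0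

/-- Strictly lower triangular by blocks of size `e`. -/
def BU (e : ℕ) (M : Matrix (Fin d) (Fin d) R) : Prop :=
  ∀ r c : Fin d, r.val / e ≤ c.val / e → M r c = 0

theorem BL.mul_BU_mul {e : ℕ} {A B C : Matrix (Fin d) (Fin d) R} (hA : BL e A) (hB : BU e B) (hC : BL e C) :
    BU e (A * B * C) := fun r c h => by
  rw [Matrix.mul_apply]
  refine Finset.sum_eq_zero fun l _ => ?_
  by_cases hl : l.val / e < c.val / e
  · rw [hC l c hl, mul_zero]
  · rw [Matrix.mul_apply, Finset.sum_eq_zero fun i _ => ?_, zero_mul]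
    by_cases hi : r.val / e < i.val / e
    · rw [hA r i hi, zero_mul]
    · rw [hB i l (by omega), mul_zero]

theorem bu_of_ge {e s : ℕ} (he : 0 < e) (hs : e ≤ s) {M : Matrix (Fin d) (Fin d) R} (hM : Ge s M) : BU e M :=
  fun r c h => hM r c (by
    have h1 := Nat.div_add_mod r.val e
    have h2 := Nat.div_add_mod c.val e
    have h3 := Nat.mod_lt r.val he
    have h4 : e * (r.val / e) ≤ e * (c.val / e) := Nat.mul_le_mul_left e h
    omega)

theorem ge_of_bu {e : ℕ} {M : Matrix (Fin d) (Fin d) R} (hM : BU e M) : Ge 1 M := fun r c h =>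
  hM r c (Nat.div_le_div_right (by omega))

theorem bl_of_ge {e : ℕ} {M : Matrix (Fin d) (Fin d) R} (hM : BL 1 M) : BL e M := fun r c h =>
  hM r c (by
    simp only [Nat.div_one]
    by_contra hcr
    exact absurd (Nat.div_le_div_right (c := e) (not_lt.1 hcr)) (not_le.2 h))

/-- A matrix intertwining an operator of exact degree `e` with one of degree `≥ e` is block lower
triangular. -/
theorem bl_of_intertwine [IsDomain R] {e : ℕ} {C M M' : Matrix (Fin d) (Fin d) R} {γ : R} (hγ : γ ≠ 0)
    (hM : Ge e M) (hlead : ∀ r c : Fin d, r.val = c.val + e → M r c = γ) (hM' : Ge e M')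
    (h : C * M = M' * C) : BL e C := by
  rcases Nat.eq_zero_or_pos e with rfl | he
  · intro r c h; simp at h
  -- powers
  have hpow : ∀ l : ℕ, C * M ^ l = M' ^ l * C := by
    intro l
    induction l with
    | zero => simp
    | succ l ih => rw [pow_succ', pow_succ', ← mul_assoc, h, mul_assoc, ih, mul_assoc]
  have hleadpow : ∀ (l : ℕ) (r c : Fin d), r.val = c.val + l * e → (M ^ l) r c = γ ^ l := by
    intro l
    induction l with
    | zero => intro r c hrc; rw [pow_zero, pow_zero, show r = c from Fin.ext (by simpa using hrc), Matrix.one_apply_eq]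
    | succ l ih =>
      intro r c hrc
      rw [Nat.succ_mul] at hrc
      rw [pow_succ, Ge.mul_apply_lead (hM.pow l) hM (l := ⟨c.val + e, by omega⟩) rfl (by omega),
        ih r _ (by simp; omega), hlead _ c rfl, pow_succ]
  intro r b hrb
  set l := r.val / e + 1 with hl
  have hrl : r.val < l * e := by
    have h1 := Nat.div_add_mod r.val e
    have h3 := Nat.mod_lt r.val he
    rw [hl, Nat.succ_mul, Nat.mul_comm]
    omega
  suffices key : ∀ n : ℕ, ∀ b : Fin d, d ≤ b.val + n → l * e ≤ b.val → C r b = 0 from key d b (by omega) (by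
    calc l * e ≤ b.val / e * e := Nat.mul_le_mul_right e (by omega)
      _ ≤ b.val := Nat.div_mul_le_self _ _)
  intro n
  induction n with
  | zero => intro b hb; omega
  | succ n ih =>
    intro b hb hlb
    let c : Fin d := ⟨b.val - l * e, by omega⟩
    have h0 : (M' ^ l * C) r c = 0 := by
      rw [Matrix.mul_apply]
      exact Finset.sum_eq_zero fun i _ => by rw [(hM'.pow l) r i (by omega), zero_mul]
    rw [← hpow l, Matrix.mul_apply, Finset.sum_eq_single b] at h0
    · rw [hleadpow l b c (by simp [c]; omega)] at h0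
      exact (mul_eq_zero.1 h0).resolve_right (pow_ne_zero _ hγ)
    · intro i _ hi
      rcases lt_or_gt_of_ne (fun e' => hi (Fin.ext e') : i.val ≠ b.val) with h1 | h1
      · rw [(hM.pow l) i c (by simp [c]; omega), mul_zero]
      · rw [ih i (by omega) (by omega), zero_mul]
    · exact fun h => absurd (Finset.mem_univ _) h

section conj

variable {G : Type*} [Group G]

/-- Conjugation on matrices, in coordinates. -/
def conjRep (ρ : G →* Matrix (Fin d) (Fin d) R) : G →* Matrix (Fin d × Fin d) (Fin d × Fin d) R where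
  toFun g := Matrix.kroneckerMap (· * ·) (ρ g) (ρ g⁻¹)ᵀ
  map_one' := by
    rw [inv_one, map_one, Matrix.transpose_one]
    exact Matrix.one_kronecker_one
  map_mul' g h := by
    rw [_root_.mul_inv_rev, map_mul, map_mul, Matrix.transpose_mul]
    exact Matrix.mul_kronecker_mul _ _ _ _

theorem conjRep_apply (ρ : G →* Matrix (Fin d) (Fin d) R) (g : G) (r c r' c' : Fin d) :
    conjRep ρ g (r, c) (r', c') = ρ g r r' * ρ g⁻¹ c' c := rfl

/-- A matrix as a vector. -/
def flat (M : Matrix (Fin d) (Fin d) R) : Fin d × Fin d → R := fun rc => M rc.1 rc.2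

theorem conjRep_flat (ρ : G →* Matrix (Fin d) (Fin d) R) (g : G) (M : Matrix (Fin d) (Fin d) R) :
    conjRep ρ g *ᵥ flat M = flat (ρ g * M * ρ g⁻¹) := by
  ext ⟨r, c⟩
  simp only [Matrix.mulVec, dotProduct, Fintype.sum_prod_type, conjRep_apply, flat, Matrix.mul_apply,
    Finset.sum_mul]
  rw [Finset.sum_comm]
  exact Finset.sum_congr rfl fun i _ => Finset.sum_congr rfl fun l _ => by ring

/-- `row - column`. -/
def degPair (rc : Fin d × Fin d) : ℤ := (rc.1.val : ℤ) - rc.2.val

theorem raises_conjRep {ρ : G →* Matrix (Fin d) (Fin d) R} {g : G} {s : ℕ} (hs : 1 ≤ s)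
    (h : Ge s (ρ g - 1)) (h' : Ge s (ρ g⁻¹ - 1)) : Raises degPair (s : ℤ) (conjRep ρ g - 1) := by
  rintro ⟨r, c⟩ ⟨r', c'⟩ hlt
  simp only [degPair] at hlt
  have e1 : ∀ {M : Matrix (Fin d) (Fin d) R}, Ge s (M - 1) → ∀ a b : Fin d, a.val < b.val + s →
      M a b = if a = b then 1 else 0 := by
    intro M hM a b hab
    have := hM a b hab
    rw [Matrix.sub_apply, sub_eq_zero] at this
    rw [this, Matrix.one_apply]
  rw [Matrix.sub_apply, conjRep_apply]
  by_cases hr : r.val < r'.val + s
  · by_cases hc : c'.val < c.val + s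
    · rw [e1 h r r' hr, e1 h' c' c hc, Matrix.one_apply]
      by_cases h1 : r = r'
      · by_cases h2 : c' = c
        · subst h1 h2; simp
        · have : ¬ (r, c) = (r', c') := fun e => h2 (congrArg Prod.snd e).symm
          rw [if_neg h2, mul_zero, if_neg this, sub_zero]
      · have : ¬ (r, c) = (r', c') := fun e => h1 (congrArg Prod.fst e)
        rw [if_neg h1, zero_mul, if_neg this, sub_zero]
    · rw [e1 h r r' hr]
      have h1 : r ≠ r' := fun e => by subst e; omega
      rw [if_neg h1, zero_mul, Matrix.one_apply_ne (fun e => h1 (congrArg Prod.fst e)), sub_zero]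
  · have h2 : c' ≠ c := fun e => by subst e; omega
    rw [e1 h' c' c (by omega), if_neg h2, mul_zero,
      Matrix.one_apply_ne (fun e => h2 (congrArg Prod.snd e).symm), sub_zero]

/-- A product of vectors of weight at least `r l`. -/
theorem fil_pureT {ι : Type*} [Fintype ι] {j : ℕ} {δ : ι → ℤ} {v : Fin j → ι → R} {r : Fin j → ℤ}
    (h : ∀ l i, δ i < r l → v l i = 0) : Fil (wt δ) (∑ l, r l) (pureT v) := fun q hq => by
  obtain ⟨l, -, hl⟩ := Finset.exists_lt_of_sum_lt (show ∑ l, δ (q l) < ∑ l, r l from hq)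
  exact Finset.prod_eq_zero (Finset.mem_univ l) (h l (q l) hl)

end conj

theorem exists_split (lo hi : ℕ) : ∀ (j S : ℕ), j * lo ≤ S → S ≤ j * hi →
    ∃ f : Fin j → ℕ, (∑ l, f l) = S ∧ ∀ l, lo ≤ f l ∧ f l ≤ hi
  | 0, S, _, h => ⟨fun l => l.elim0, by simp at h; simp [h], fun l => l.elim0⟩
  | j + 1, S, h1, h2 => by
    rw [Nat.succ_mul] at h1 h2
    have hlh : lo ≤ hi := by
      by_contra hc
      have := Nat.mul_le_mul_left j (Nat.le_of_lt (not_le.1 hc))
      omega
    set v := max lo (S - j * hi) with hv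
    have hjl : j * lo ≤ j * hi := Nat.mul_le_mul_left j hlh
    obtain ⟨f, hf, hf'⟩ := exists_split lo hi j (S - v) (by omega) (by omega)
    refine ⟨Fin.cons v f, ?_, fun l => ?_⟩
    · rw [Fin.sum_cons, hf]; omega
    · cases l using Fin.cases with
      | zero => rw [Fin.cons_zero]; omega
      | succ i => rw [Fin.cons_succ]; exact hf' i

namespace Datum

variable {p : ℕ} [hp : Fact p.Prime] {G : Type*} [Group G] [Finite G] (D : Datum p d G)

/-- In an abelian Sylow subgroup, a fused element is fused by its centralizer. -/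
theorem exists_factor (hab : ∀ a ∈ D.T, ∀ b ∈ D.T, a * b = b * a) {g r : G} (hr : r ∈ D.T)
    (hgr : g⁻¹ * r * g ∈ D.T) :
    ∃ c n : G, g = c * n ∧ c * r = r * c ∧ n ∈ Subgroup.normalizer ((D.T : Subgroup G) : Set G) := by
  set C : Subgroup G := Subgroup.centralizer {r} with hC
  have hTC : (D.T : Subgroup G) ≤ C := fun t ht => Subgroup.mem_centralizer_singleton_iff.2 (hab t ht r hr)
  have hgTC : ((g • D.T : Sylow p G) : Subgroup G) ≤ C := by
    intro t ht
    rw [Sylow.coe_subgroup_smul, Subgroup.mem_pointwise_smul_iff_inv_smul_mem] at ht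
    have ht' : g⁻¹ * t * g ∈ (D.T : Subgroup G) := by simpa [← map_inv] using ht
    have h1 := congrArg (fun u => g * u * g⁻¹) (hab _ ht' _ hgr)
    exact Subgroup.mem_centralizer_singleton_iff.2 (by simpa [mul_assoc] using h1)
  obtain ⟨c, hc⟩ := MulAction.exists_smul_eq C (D.T.subtype hTC) ((g • D.T).subtype hgTC)
  have hc' : (c : G) • D.T = g • D.T := Sylow.subtype_injective (P := (c : G) • D.T) (Q := g • D.T)
    (hP := by rw [Sylow.coe_subgroup_smul]; exact Subgroup.conj_smul_le_of_le hTC c) (hQ := hgTC)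
    (by rw [← hc, Sylow.smul_subtype]; rfl)
  refine ⟨c, (c : G)⁻¹ * g, by rw [mul_inv_cancel_left],
    Subgroup.mem_centralizer_singleton_iff.1 c.2, ?_⟩
  refine Sylow.smul_eq_iff_mem_normalizer.1 ?_
  rw [mul_smul, ← hc', inv_smul_smul]

end Datum

end Cfsg.Agent.RegularSE
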