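import Cfsg.Agent.Lib.RegularSE.Shift
import Cfsg.Agent.Lib.Solvable.Coprime
import Mathlib.GroupTheory.Sylow
import Mathlib.GroupTheory.PGroup
import Mathlib.Algebra.Field.ZMod
import Mathlib.Algebra.CharP.Algebra
import Mathlib.LinearAlgebra.Matrix.CharP

/-!
Linear groups with a strongly embedded subgroup whose Sylow `p`-subgroup contains a regular
unipotent element with centralizer of order `p ^ 2`: first properties.
-/

set_option autoImplicit false
set_option linter.unusedSectionVars false

namespace Cfsg.Agent.RegularSE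

open Matrix

variable {p : ℕ} [hp : Fact p.Prime] {d : ℕ} {G : Type*} [Group G] [Finite G]

/-- The hypotheses. -/
structure Datum (p d : ℕ) (G : Type*) [Group G] where
  /-- The representation. -/
  ρ : G →* Matrix (Fin d) (Fin d) (ZMod p)
  inj : Function.Injective ρ
  /-- The strongly embedded subgroup. -/
  H : Subgroup G
  /-- The Sylow subgroup. -/
  T : Sylow p G
  /-- The regular element. -/
  x : G
  H_ne : H ≠ ⊤
  T_le : (T : Subgroup G) ≤ H
  mem_H : ∀ t ∈ H, t ^ p = 1 → t ≠ 1 → ∀ g : G, g * t * g⁻¹ ∈ H → g ∈ H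
  x_mem : x ∈ T
  rho_x : ρ x = 1 + shift (ZMod p) d 1
  card_cent : Nat.card ((T : Subgroup G) ⊓ Subgroup.centralizer {x} : Subgroup G) = p ^ 2

namespace Datum

variable (D : Datum p d G)

/-- `p`-elements are unitriangular. -/
theorem tri {t : G} (ht : t ∈ D.T) : Ge 1 (D.ρ t - 1) := by
  classical
  suffices key : ∀ r : ℕ, ∀ s ∈ (D.T : Subgroup G), ∀ a c : Fin d, a.val < r → a.val ≤ c.val →
      (D.ρ s - 1) a c = 0 from fun a c hac => key (a.val + 1) t ht a c (by omega) (by omega)
  intro r
  induction r with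
  | zero => intro s _ a c ha; omega
  | succ r ih =>
    intro s hs a c ha hac
    rcases Nat.lt_or_ge a.val r with har | har
    · exact ih s hs a c har hac
    have hrd : r < d := by omega
    -- the row vectors supported on the columns `≥ r`
    let W := {v : Fin d → ZMod p // ∀ b : Fin d, b.val < r → v b = 0}
    let pr : (Fin d → ZMod p) → W := fun v => ⟨fun b => if b.val < r then 0 else v b,
      fun b hb => if_pos hb⟩
    have hpr : ∀ (v : Fin d → ZMod p) (b : Fin d), (pr v).1 b = if b.val < r then 0 else v b :=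
      fun v b => rfl
    letI : SMul (D.T : Subgroup G) W := ⟨fun g v => pr (v.1 ᵥ* D.ρ (g : G)⁻¹)⟩
    have hsmul : ∀ (g : (D.T : Subgroup G)) (v : W), g • v = pr (v.1 ᵥ* D.ρ (g : G)⁻¹) := fun g v => rfl
    letI : MulAction (D.T : Subgroup G) W :=
      { one_smul := fun v => by
          refine Subtype.ext (funext fun b => ?_)
          rw [hsmul, hpr, Subgroup.coe_one, inv_one, map_one, Matrix.vecMul_one]
          split_ifs with h
          · exact (v.2 b h).symm
          · rfl
        mul_smul := fun g h v => by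
          refine Subtype.ext (funext fun b => ?_)
          rw [hsmul, hsmul, hsmul, hpr, hpr]
          split_ifs with hb
          · rfl
          rw [Subgroup.coe_mul, _root_.mul_inv_rev, map_mul, ← Matrix.vecMul_vecMul]
          simp only [Matrix.vecMul, dotProduct]
          refine Finset.sum_congr rfl fun l _ => ?_
          rw [hpr]
          split_ifs with hl
          · have h0 := ih _ (inv_mem g.2) l b hl (by omega)
            rw [Matrix.sub_apply, Matrix.one_apply_ne (fun e => by subst e; omega), sub_zero] at h0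
            rw [h0, mul_zero, mul_zero]
          · rfl }
    have hcard : p ∣ Nat.card W := by
      haveI : Finite W := Subtype.finite
      let e : W := pr (Pi.single (⟨r, hrd⟩ : Fin d) 1)
      have he : e.1 ⟨r, hrd⟩ = 1 := by rw [hpr, if_neg (by simp), Pi.single_eq_same]
      let A : AddSubgroup (Fin d → ZMod p) :=
        { carrier := {v | ∀ b : Fin d, b.val < r → v b = 0}
          zero_mem' := fun b _ => rfl
          add_mem' := fun {u v} hu hv b hb => by rw [Pi.add_apply, hu b hb, hv b hb, add_zero]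
          neg_mem' := fun {u} hu b hb => by rw [Pi.neg_apply, hu b hb, neg_zero] }
      have hA : Nat.card W = Nat.card A := rfl
      rw [hA]
      have h1 : addOrderOf (⟨e.1, e.2⟩ : A) = p :=
        addOrderOf_eq_prime (Subtype.ext (funext fun b => by
          show p • e.1 b = 0
          rw [nsmul_eq_mul, ZMod.natCast_self, zero_mul])) fun h => by
          have := congrFun (congrArg Subtype.val h) ⟨r, hrd⟩
          exact one_ne_zero (he ▸ this)
      exact h1.symm.dvd.trans (addOrderOf_dvd_natCard _)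
    have h0 : (⟨0, fun _ _ => rfl⟩ : W) ∈ MulAction.fixedPoints (D.T : Subgroup G) W := fun g => by
      refine Subtype.ext (funext fun b => ?_)
      rw [hsmul, hpr, Matrix.zero_vecMul]
      split_ifs <;> rfl
    haveI : Finite W := Subtype.finite
    obtain ⟨v, hv, hv0⟩ := (D.T).2.exists_fixed_point_of_prime_dvd_card_of_fixed_point W hcard h0
    -- the fixed vector is supported on `r`
    have hvx : ∀ b : Fin d, r < b.val → v.1 b = 0 := by
      intro b hb
      have h := congrFun (congrArg Subtype.val (hv ⟨D.x⁻¹, inv_mem D.x_mem⟩)) ⟨b.val - 1, by omega⟩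
      rw [hsmul, hpr, if_neg (show ¬ (b.val - 1 < r) by omega)] at h
      rw [show ((⟨D.x⁻¹, inv_mem D.x_mem⟩ : (D.T : Subgroup G)) : G)⁻¹ = D.x from inv_inv _, D.rho_x,
        Matrix.vecMul_add, Matrix.vecMul_one, Pi.add_apply, add_eq_left] at h
      refine Eq.trans ?_ h
      rw [Matrix.vecMul, dotProduct, Finset.sum_eq_single b]
      · rw [shift_apply, if_pos (show b.val = b.val - 1 + 1 by omega), mul_one]
      · intro l _ hl
        rw [shift_apply, if_neg (fun e => hl (Fin.ext (by simp at e; omega))), mul_zero]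
      · exact fun h => absurd (Finset.mem_univ _) h
    have hvr : v.1 ⟨r, hrd⟩ ≠ 0 := fun h => hv0 (Subtype.ext (funext fun b => by
      rcases lt_trichotomy b.val r with h1 | h1 | h1
      · exact (v.2 b h1).symm
      · rw [show b = ⟨r, hrd⟩ from Fin.ext h1]
        exact h.symm
      · exact (hvx b h1).symm))
    have h := congrFun (congrArg Subtype.val (hv ⟨s⁻¹, inv_mem hs⟩)) c
    rw [hsmul, hpr, if_neg (show ¬ c.val < r by omega),
      show ((⟨s⁻¹, inv_mem hs⟩ : (D.T : Subgroup G)) : G)⁻¹ = s from inv_inv _, Matrix.vecMul,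
      dotProduct, Finset.sum_eq_single a] at h
    · have ha' : a = ⟨r, hrd⟩ := Fin.ext (by simp; omega)
      rw [Matrix.sub_apply]
      by_cases hc : a = c
      · subst hc
        rw [Matrix.one_apply_eq, sub_eq_zero]
        rw [ha'] at h ⊢
        exact mul_left_cancel₀ hvr (h.trans (mul_one _).symm)
      · rw [Matrix.one_apply_ne hc, sub_zero]
        rw [hvx c (by have : a.val ≠ c.val := fun e => hc (Fin.ext e); omega), mul_eq_zero] at h
        exact h.resolve_left (ha' ▸ hvr)
    · intro l _ hl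
      rcases lt_trichotomy l.val r with h1 | h1 | h1
      · rw [v.2 l h1, zero_mul]
      · exact absurd (Fin.ext (by omega)) hl
      · rw [hvx l h1, zero_mul]
    · exact fun h => absurd (Finset.mem_univ _) h

variable (hdp : d ≤ p)
include D hdp

/-- `p`-elements of `T` have order dividing `p`. -/
theorem pow_p {t : G} (ht : t ∈ D.T) : t ^ p = 1 := by
  refine D.inj ?_
  rw [map_pow, map_one]
  have h : (D.ρ t - 1) ^ p = 0 := ((D.tri ht).pow p).eq_zero (by omega)
  rcases Nat.eq_zero_or_pos d with rfl | hd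
  · exact Matrix.ext fun r => r.elim0
  haveI : Nonempty (Fin d) := ⟨⟨0, hd⟩⟩
  haveI : CharP (Matrix (Fin d) (Fin d) (ZMod p)) p := Matrix.charP p
  rw [sub_pow_char_of_commute _ (Commute.one_right _), one_pow, sub_eq_zero] at h
  exact h

theorem not_le_of_normal {N : Subgroup G} [N.Normal] (hN : N ≤ D.H) {t : G} (ht : t ∈ N)
    (htp : t ^ p = 1) (ht1 : t ≠ 1) : False :=
  D.H_ne (eq_top_iff.2 fun g _ => D.mem_H t (hN ht) htp ht1 g
    (hN (Subgroup.Normal.conj_mem inferInstance t ht g)))

/-- There is no nontrivial normal `p`-subgroup. -/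
theorem normal_pGroup_eq_bot {N : Subgroup G} [N.Normal] (hN : IsPGroup p N) : N = ⊥ := by
  rw [Subgroup.eq_bot_iff_forall]
  intro t ht
  by_contra ht1
  obtain ⟨P, hP⟩ := hN.exists_le_sylow
  obtain ⟨g, hg⟩ := MulAction.exists_smul_eq G P D.T
  have hle : N ≤ (D.T : Subgroup G) := by
    intro y hy
    rw [← hg, Sylow.coe_subgroup_smul]
    exact Subgroup.mem_pointwise_smul_iff_inv_smul_mem.2
      (hP (by simpa [← map_inv] using Subgroup.Normal.conj_mem inferInstance y hy g⁻¹))
  exact D.not_le_of_normal hdp (hle.trans D.T_le) ht (D.pow_p hdp (hle ht)) ht1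

omit hdp in
theorem centralizer_le {t g : G} (ht : t ∈ D.H) (htp : t ^ p = 1) (ht1 : t ≠ 1) (hg : g * t = t * g) :
    g ∈ D.H :=
  D.mem_H t ht htp ht1 g (by rwa [hg, mul_inv_cancel_right])

/-- `ρ t` commutes with the shift when `t` commutes with `x`. -/
theorem rho_commute {t : G} (ht : t * D.x = D.x * t) :
    D.ρ t * shift (ZMod p) d 1 = shift (ZMod p) d 1 * D.ρ t := by
  have h := congrArg D.ρ ht
  rwa [map_mul, map_mul, D.rho_x, mul_add, add_mul, mul_one, one_mul, add_right_inj] at h

theorem commute_of_commute {s t : G} (hs : s * D.x = D.x * s) (ht : t * D.x = D.x * t) :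
    s * t = t * s :=
  D.inj (by rw [map_mul, map_mul, commutant_commute (D.rho_commute hdp hs) (D.rho_commute hdp ht)])

/-- A normal subgroup of order prime to `p` lies in `H`. -/
theorem normal_coprime_le {N : Subgroup G} [N.Normal] (hN : ¬ p ∣ Nat.card N) : N ≤ D.H := by
  set A : Subgroup G := (D.T : Subgroup G) ⊓ Subgroup.centralizer {D.x} with hA
  haveI : IsMulCommutative A := ⟨⟨fun a b => Subtype.ext (D.commute_of_commute hdp
    (Subgroup.mem_centralizer_singleton_iff.1 a.2.2) (Subgroup.mem_centralizer_singleton_iff.1 b.2.2))⟩⟩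
  have hcyc : ¬ IsCyclic A := by
    intro h
    obtain ⟨a, ha⟩ := IsCyclic.exists_ofOrder_eq_natCard (α := A)
    have h1 : orderOf a ∣ p := orderOf_dvd_of_pow_eq_one (Subtype.ext (by
      rw [SubmonoidClass.coe_pow, Subgroup.coe_one]; exact D.pow_p hdp a.2.1))
    rw [ha, D.card_cent] at h1
    have := Nat.le_of_dvd hp.out.pos h1
    have := hp.out.two_le
    nlinarith
  have hcop : (Nat.card A).Coprime (Nat.card N) := by
    rw [D.card_cent]
    exact (hp.out.coprime_iff_not_dvd.2 hN).pow_left 2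
  have h := CoprimeAct.generated_by_centralizers (A := A) (K := N) hcyc
    (fun a _ => by rw [Subgroup.normalizer_eq_top_iff.2 inferInstance]; trivial) hcop
  rw [← h]
  refine iSup₂_le fun a ha => fun g hg => ?_
  exact D.centralizer_le (D.T_le ha.1.1) (D.pow_p hdp ha.1.1) ha.2
    (Subgroup.mem_centralizer_singleton_iff.1 hg.2)

omit hdp

/-- The coefficient of `t` on the first subdiagonal, at the top. -/
theorem exists_central (hd : 2 ≤ d) :
    ∃ z : G, z ∈ D.T ∧ z * D.x = D.x * z ∧ z ≠ 1 ∧ Ge 2 (D.ρ z - 1) := by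
  classical
  set A : Subgroup G := (D.T : Subgroup G) ⊓ Subgroup.centralizer {D.x} with hA
  let c : A → ZMod p := fun t => D.ρ (t : G) ⟨1, by omega⟩ ⟨0, by omega⟩
  haveI : Fintype A := Fintype.ofFinite A
  obtain ⟨a, b, hab, he⟩ := Fintype.exists_ne_map_eq_of_card_lt c (by
    rw [ZMod.card, ← Nat.card_eq_fintype_card, D.card_cent]
    have := hp.out.two_le
    nlinarith)
  refine ⟨(a : G)⁻¹ * b, mul_mem (inv_mem a.2.1) b.2.1,
    Subgroup.mem_centralizer_singleton_iff.1 (mul_mem (inv_mem a.2.2) b.2.2), ?_, ?_⟩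
  · exact fun h => hab (Subtype.ext (by rwa [inv_mul_eq_one] at h))
  intro r q hrq
  have hz : (a : G)⁻¹ * b ∈ D.T := mul_mem (inv_mem a.2.1) b.2.1
  have hcm : D.ρ ((a : G)⁻¹ * b) * shift (ZMod p) d 1 = shift (ZMod p) d 1 * D.ρ ((a : G)⁻¹ * b) := by
    have h := congrArg D.ρ (Subgroup.mem_centralizer_singleton_iff.1 (mul_mem (inv_mem a.2.2) b.2.2))
    rwa [map_mul _ _ D.x, map_mul _ D.x, D.rho_x, mul_add, add_mul, mul_one, one_mul, add_right_inj] at h
  rcases Nat.lt_or_ge r.val (q.val + 1) with h1 | h1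
  · exact D.tri hz r q h1
  have hr : r.val = q.val + 1 := by omega
  rw [Matrix.sub_apply, Matrix.one_apply_ne (fun e => by subst e; omega), sub_zero,
    commutant_apply hcm, dif_pos (by omega)]
  have e : D.ρ ((a : G)⁻¹ * b) ⟨1, by omega⟩ ⟨0, by omega⟩ = 0 := by
    have h2 := D.tri (inv_mem a.2.1 : (a : G)⁻¹ ∈ D.T)
    have h3 := D.tri b.2.1
    have e2 : ∀ (M N : Matrix (Fin d) (Fin d) (ZMod p)), Ge 1 (M - 1) → Ge 1 (N - 1) →
        (M * N) ⟨1, by omega⟩ ⟨0, by omega⟩ =
          M ⟨1, by omega⟩ ⟨0, by omega⟩ + N ⟨1, by omega⟩ ⟨0, by omega⟩ := by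
      intro M N hM hN
      have h := (hM.mul hN) (⟨1, by omega⟩ : Fin d) ⟨0, by omega⟩ (by simp)
      have hne : (⟨1, by omega⟩ : Fin d) ≠ ⟨0, by omega⟩ := by simp
      rw [sub_mul, mul_sub, mul_sub, mul_one, one_mul, one_mul, Matrix.sub_apply, Matrix.sub_apply,
        Matrix.sub_apply, Matrix.one_apply_ne hne] at h
      linear_combination h
    rw [map_mul, e2 _ _ h2 h3]
    have h4 := e2 _ _ h2 (D.tri a.2.1)
    rw [← map_mul, inv_mul_cancel, map_one, Matrix.one_apply_ne (by simp : (⟨1, by omega⟩ : Fin d) ≠ ⟨0, by omega⟩)] at h4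
    change D.ρ (a : G) _ _ = D.ρ (b : G) _ _ at he
    rw [← he]
    exact h4.symm
  exact (congr_arg₂ (D.ρ ((a : G)⁻¹ * b)) (Fin.ext (by simp; omega)) rfl).trans e

/-- The leading degree of an element commuting with `x`. -/
theorem exists_degree {z : G} (hz : z * D.x = D.x * z) (hz1 : z ≠ 1) {s : ℕ} (hs : 1 ≤ s)
    (hzs : Ge s (D.ρ z - 1)) :
    ∃ k γ, s ≤ k ∧ k < d ∧ γ ≠ (0 : ZMod p) ∧ Ge k (D.ρ z - 1) ∧
      ∀ r c : Fin d, r.val = c.val + k → D.ρ z r c = γ := by
  classical
  have hex : ∃ k, ¬ Ge (k + 1) (D.ρ z - 1) := ⟨d, fun h => hz1 (D.inj (by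
    rw [map_one, ← sub_eq_zero]; exact h.eq_zero (by omega)))⟩
  set k := Nat.find hex with hk
  have hk1 : ¬ Ge (k + 1) (D.ρ z - 1) := Nat.find_spec hex
  have hsk : s ≤ k := by
    by_contra h
    exact hk1 (hzs.mono (by omega))
  have hGe : Ge k (D.ρ z - 1) := by
    have h : ¬ ¬ Ge (k - 1 + 1) (D.ρ z - 1) := Nat.find_min hex (by omega)
    rw [Nat.sub_add_cancel (by omega)] at h
    exact not_not.1 h
  have hcm : D.ρ z * shift (ZMod p) d 1 = shift (ZMod p) d 1 * D.ρ z := by
    have h := congrArg D.ρ hz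
    rwa [map_mul, map_mul, D.rho_x, mul_add, add_mul, mul_one, one_mul, add_right_inj] at h
  have hkd : k < d := by
    by_contra h
    exact hk1 fun r c hrc => hGe r c (by omega)
  refine ⟨k, D.ρ z ⟨k, hkd⟩ ⟨0, by omega⟩, hsk, hkd, fun h0 => hk1 fun r c hrc => ?_, hGe,
    fun r c hrc => ?_⟩
  · rcases Nat.lt_or_ge r.val (c.val + k) with h | h
    · exact hGe r c h
    rw [Matrix.sub_apply, Matrix.one_apply_ne (fun e => by subst e; omega), sub_zero,
      commutant_apply hcm, dif_pos (by omega)]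
    exact (congr_arg₂ (D.ρ z) (Fin.ext (by simp; omega)) rfl).trans h0
  · rw [commutant_apply hcm, dif_pos (by omega)]
    exact congr_arg₂ (D.ρ z) (Fin.ext (by simp; omega)) rfl

end Datum

end Cfsg.Agent.RegularSE
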