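import Cfsg.Agent.Lib.RegularSE.Basic
import Mathlib.Tactic.NoncommRing

/-!
The central element of degree at least two.
-/

set_option autoImplicit false
set_option linter.unusedSectionVars false

namespace Cfsg.Agent.RegularSE

open Matrix

variable {R : Type*} [CommRing R] {d : ℕ}

theorem mul_sub_one_eq (M N : Matrix (Fin d) (Fin d) R) :
    M * N - 1 = (M - 1) + (N - 1) + (M - 1) * (N - 1) := by noncomm_ring

theorem Ge.mul_sub_one {s : ℕ} {M N : Matrix (Fin d) (Fin d) R} (hM : Ge s (M - 1)) (hN : Ge s (N - 1)) :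
    Ge s (M * N - 1) := by
  rw [mul_sub_one_eq]
  exact (hM.add hN).add ((hM.mul hN).mono (by omega))

theorem Ge.pow_sub_one {s : ℕ} {M : Matrix (Fin d) (Fin d) R} (hM : Ge s (M - 1)) :
    ∀ n : ℕ, Ge s (M ^ n - 1)
  | 0 => by simpa using ge_zero_matrix s
  | n + 1 => by
    rw [pow_succ]
    exact (hM.pow_sub_one n).mul_sub_one hM

theorem Ge.pow_sub_linear {s : ℕ} {M : Matrix (Fin d) (Fin d) R} (hM : Ge s (M - 1)) :
    ∀ n : ℕ, Ge (s + s) (M ^ n - 1 - (n : R) • (M - 1))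
  | 0 => by simpa using ge_zero_matrix (s + s)
  | n + 1 => by
    have e : M ^ (n + 1) - 1 - ((n + 1 : ℕ) : R) • (M - 1) =
        (M ^ n - 1 - (n : R) • (M - 1)) + (M ^ n - 1) * (M - 1) := by
      rw [pow_succ, mul_sub_one_eq (M ^ n) M, Nat.cast_succ, add_smul, one_smul]
      abel
    rw [e]
    exact (hM.pow_sub_linear n).add ((hM.pow_sub_one n).mul hM)

namespace Datum

variable {p : ℕ} [hp : Fact p.Prime] {G : Type*} [Group G] [Finite G] (D : Datum p d G)

/-- The central element and its degree. -/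
structure Kit where
  /-- The element. -/
  z : G
  /-- The degree. -/
  k : ℕ
  /-- The leading coefficient. -/
  γ : ZMod p
  z_mem : z ∈ D.T
  z_comm : z * D.x = D.x * z
  two_le : 2 ≤ k
  k_lt : k < d
  γ_ne : γ ≠ 0
  ge_z : Ge k (D.ρ z - 1)
  lead : ∀ r c : Fin d, r.val = c.val + k → D.ρ z r c = γ
  central : ∀ t ∈ D.T, z * t = t * z
  decomp : ∀ t ∈ D.T, t * D.x = D.x * t → ∃ a b : ℕ, t = D.x ^ a * z ^ b

variable (hdp : d ≤ p)
include D hdp

theorem two_le_dim : 2 ≤ d := by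
  by_contra hd
  have h1 : ∀ t ∈ ((D.T : Subgroup G) ⊓ Subgroup.centralizer {D.x} : Subgroup G), t = 1 := fun t ht =>
    D.inj (by rw [map_one, ← sub_eq_zero]; exact (D.tri ht.1).eq_zero (by omega))
  have h := D.card_cent
  rw [(Subgroup.eq_bot_iff_forall _).2 h1, Subgroup.card_bot] at h
  have := hp.out.two_le
  nlinarith

theorem first_add {s t : G} (hs : s ∈ D.T) (ht : t ∈ D.T) (r c : Fin d) (hrc : r.val = c.val + 1) :
    D.ρ (s * t) r c = D.ρ s r c + D.ρ t r c := by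
  have hne : r ≠ c := fun e => by subst e; omega
  have h := ((D.tri hs).mul (D.tri ht)) r c (by omega)
  have e := mul_sub_one_eq (D.ρ s) (D.ρ t)
  have e' := congrFun (congrFun e r) c
  rw [Matrix.add_apply, Matrix.add_apply, h, add_zero, Matrix.sub_apply, Matrix.sub_apply,
    Matrix.sub_apply, Matrix.one_apply_ne hne, sub_zero, sub_zero, sub_zero] at e'
  rw [map_mul, e']

theorem first_pow {t : G} (ht : t ∈ D.T) (r c : Fin d) (hrc : r.val = c.val + 1) :
    ∀ n : ℕ, D.ρ (t ^ n) r c = n * D.ρ t r c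
  | 0 => by
    rw [pow_zero, map_one, Matrix.one_apply_ne (fun e => by subst e; omega), Nat.cast_zero, zero_mul]
  | n + 1 => by
    rw [pow_succ, D.first_add hdp (pow_mem ht n) ht r c hrc, first_pow ht r c hrc n, Nat.cast_succ,
      add_mul, one_mul]

theorem exists_kit : Nonempty D.Kit := by
  classical
  have hd := D.two_le_dim hdp
  obtain ⟨z₀, hz₀T, hz₀x, hz₀1, hz₀2⟩ := D.exists_central hd
  obtain ⟨k, γ, hk2, hkd, hγ, hge, hlead⟩ := D.exists_degree hz₀x hz₀1 (by omega) hz₀2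
  -- decomposition of the centralizer of `x`
  set A : Subgroup G := (D.T : Subgroup G) ⊓ Subgroup.centralizer {D.x} with hA
  have hxA : D.x ∈ A := ⟨D.x_mem, Subgroup.mem_centralizer_singleton_iff.2 rfl⟩
  have hzA : z₀ ∈ A := ⟨hz₀T, Subgroup.mem_centralizer_singleton_iff.2 hz₀x⟩
  have hxz : ∀ a b : ℕ, D.x ^ a * z₀ ^ b ∈ A := fun a b => mul_mem (pow_mem hxA a) (pow_mem hzA b)
  have hval : ∀ a b : ℕ, D.ρ (D.x ^ a * z₀ ^ b) ⟨1, hd⟩ ⟨0, by omega⟩ = a := by
    intro a b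
    have h1 : D.ρ z₀ ⟨1, hd⟩ ⟨0, by omega⟩ = 0 := by
      have h := hz₀2 ⟨1, hd⟩ ⟨0, by omega⟩ (by simp)
      rwa [Matrix.sub_apply, Matrix.one_apply_ne (by simp), sub_zero] at h
    rw [D.first_add hdp (pow_mem D.x_mem a) (pow_mem hz₀T b) _ _ rfl, D.first_pow hdp D.x_mem _ _ rfl,
      D.first_pow hdp hz₀T _ _ rfl, h1, mul_zero, add_zero, D.rho_x, Matrix.add_apply,
      Matrix.one_apply_ne (by simp), zero_add, shift_apply, if_pos (by simp), mul_one]
  have hord : orderOf z₀ = p := orderOf_eq_prime (D.pow_p hdp hz₀T) hz₀1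
  let f : Fin p × Fin p → A := fun ab => ⟨_, hxz ab.1.val ab.2.val⟩
  have hf : Function.Injective f := by
    rintro ⟨a, b⟩ ⟨a', b'⟩ he
    have he' : D.x ^ a.val * z₀ ^ b.val = D.x ^ a'.val * z₀ ^ b'.val := congrArg Subtype.val he
    have h1 := congrArg (fun g => D.ρ g (⟨1, hd⟩ : Fin d) ⟨0, by omega⟩) he'
    simp only [hval] at h1
    have ha : a = a' := Fin.ext (by
      have := congrArg ZMod.val h1
      rwa [ZMod.val_cast_of_lt a.2, ZMod.val_cast_of_lt a'.2] at this)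
    subst ha
    have h2 := mul_left_cancel he'
    have hb : b = b' := Fin.ext (by
      rw [pow_eq_pow_iff_modEq, hord, Nat.ModEq, Nat.mod_eq_of_lt b.2, Nat.mod_eq_of_lt b'.2] at h2
      exact h2)
    rw [hb]
  have hsurj : Function.Surjective f := by
    haveI : Fintype A := Fintype.ofFinite A
    refine ((Fintype.bijective_iff_injective_and_card f).2 ⟨hf, ?_⟩).2
    rw [Fintype.card_prod, Fintype.card_fin, ← Nat.card_eq_fintype_card, D.card_cent, sq]
  have hdec : ∀ t ∈ D.T, t * D.x = D.x * t → ∃ a b : ℕ, t = D.x ^ a * z₀ ^ b := by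
    intro t ht htx
    obtain ⟨ab, hab⟩ := hsurj ⟨t, ht, Subgroup.mem_centralizer_singleton_iff.2 htx⟩
    exact ⟨ab.1.val, ab.2.val, (congrArg Subtype.val hab).symm⟩
  -- centrality
  let K : Subgroup (D.T : Subgroup G) :=
    { carrier := {t | Ge 2 (D.ρ (t : G) - 1)}
      one_mem' := by
        show Ge 2 (D.ρ ((1 : (D.T : Subgroup G)) : G) - 1)
        rw [Subgroup.coe_one, map_one, sub_self]; exact ge_zero_matrix 2
      mul_mem' := fun {a b} ha hb => by
        show Ge 2 (D.ρ ((a : G) * b) - 1)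
        rw [map_mul]; exact Ge.mul_sub_one ha hb
      inv_mem' := fun {a} ha => by
        show Ge 2 (D.ρ ((a⁻¹ : (D.T : Subgroup G)) : G) - 1)
        have e : (a⁻¹ : (D.T : Subgroup G)) = a ^ (p - 1) := inv_eq_of_mul_eq_one_right (Subtype.ext (by
          rw [Subgroup.coe_mul, SubmonoidClass.coe_pow, ← pow_succ',
            Nat.sub_add_cancel hp.out.one_le, D.pow_p hdp a.2]; rfl))
        rw [e, SubmonoidClass.coe_pow, map_pow]
        exact Ge.pow_sub_one ha _ }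
  haveI hKn : K.Normal := ⟨fun a ha g => by
    show Ge 2 (D.ρ ((g : G) * a * (g : G)⁻¹) - 1)
    have e : D.ρ ((g : G) * a * (g : G)⁻¹) - 1 = D.ρ (g : G) * (D.ρ (a : G) - 1) * D.ρ (g : G)⁻¹ := by
      rw [mul_sub, sub_mul, mul_one, ← map_mul, ← map_mul, ← map_mul, mul_inv_cancel, map_one]
    rw [e]
    have h0 : ∀ u ∈ D.T, Ge 0 (D.ρ u) := fun u hu => by
      have := ((D.tri hu).mono (by omega : 0 ≤ 1)).add ge_one_zero
      rwa [sub_add_cancel] at this
    exact (((h0 _ g.2).mul ha).mul (h0 _ (inv_mem g.2))).mono (by omega)⟩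
  have hzK : (⟨z₀, hz₀T⟩ : (D.T : Subgroup G)) ∈ K := hz₀2
  haveI : Nontrivial K := ⟨⟨1, ⟨_, hzK⟩, fun h => hz₀1 (congrArg (fun u : K => ((u : (D.T : Subgroup G)) : G)) h).symm⟩⟩
  obtain ⟨u, huK, huC, hu1⟩ : ∃ u, u ∈ K ∧ u ∈ Subgroup.center (D.T : Subgroup G) ∧ u ≠ 1 := by
    have hfix : (1 : K) ∈ MulAction.fixedPoints (ConjAct (D.T : Subgroup G)) K := fun g => smul_one g
    have hPG : IsPGroup p (ConjAct (D.T : Subgroup G)) := (D.T).2.of_equiv ConjAct.toConjAct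
    have hdvd : p ∣ Nat.card K := by
      obtain ⟨n, hn, hn'⟩ := ((D.T).2.to_subgroup K).nontrivial_iff_card.1 inferInstance
      exact hn'.symm ▸ dvd_pow_self p hn.ne'
    obtain ⟨u, hu, hu1⟩ := hPG.exists_fixed_point_of_prime_dvd_card_of_fixed_point K hdvd hfix
    refine ⟨u, u.2, Subgroup.mem_center_iff.2 fun g => ?_, fun h => hu1 (Subtype.ext h).symm⟩
    have h := congrArg Subtype.val (hu (ConjAct.toConjAct g))
    rw [ConjAct.Subgroup.val_conj_smul, ConjAct.smul_def, ConjAct.ofConjAct_toConjAct,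
      mul_inv_eq_iff_eq_mul] at h
    exact h
  have huc : ∀ t ∈ D.T, (u : G) * t = t * u := fun t ht =>
    (congrArg Subtype.val (Subgroup.mem_center_iff.1 huC ⟨t, ht⟩)).symm
  obtain ⟨a, b, hab⟩ := hdec u u.2 (huc _ D.x_mem)
  have ha : (a : ZMod p) = 0 := by
    rw [← hval a b, ← hab]
    have h := huK (⟨1, hd⟩ : Fin d) ⟨0, by omega⟩ (by simp)
    rwa [Matrix.sub_apply, Matrix.one_apply_ne (by simp), sub_zero] at h
  rw [ZMod.natCast_eq_zero_iff] at ha
  obtain ⟨a', rfl⟩ := ha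
  rw [pow_mul, D.pow_p hdp D.x_mem, one_pow, one_mul] at hab
  have hbp : ¬ p ∣ b := by
    rintro ⟨b', rfl⟩
    rw [pow_mul, D.pow_p hdp hz₀T, one_pow] at hab
    exact hu1 (Subtype.ext hab)
  obtain ⟨j, hj⟩ := exists_pow_eq_self_of_coprime (x := z₀) (n := b)
    (hord ▸ (hp.out.coprime_iff_not_dvd.2 hbp).symm)
  refine ⟨⟨z₀, k, γ, hz₀T, hz₀x, hk2, hkd, hγ, hge, hlead, fun t ht => ?_, hdec⟩⟩
  rw [← hj, ← hab]
  exact (Commute.pow_left (huc t ht) j).eq

end Datum

end Cfsg.Agent.RegularSE
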