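import Cfsg.Agent.Lib.RegularSE.AbelianAux

/-!
The flag of a central element acting quadratically, and the elements unipotent on it.
-/

set_option autoImplicit false
set_option linter.unusedSectionVars false

namespace Cfsg.Agent.RegularSE

open Matrix

variable {R : Type*} [CommRing R] {d : ℕ} {k : ℕ} {A : Matrix (Fin d) (Fin d) R} {γ : R}

/-- The level of a coordinate: the top `d - k` coordinates, the middle, the bottom `d - k`. -/
def lv (k : ℕ) (a : Fin d) : ℤ :=
  (if d ≤ a.val + k then 1 else 0) + (if k ≤ a.val then 1 else 0)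

theorem lv_le_of_le {a b : Fin d} (h : a.val ≤ b.val) : lv k a ≤ lv k b := by
  unfold lv
  split_ifs <;> omega

theorem lv_nonneg (a : Fin d) : 0 ≤ lv k a := by
  unfold lv
  split_ifs <;> omega

theorem lv_le_two (a : Fin d) : lv k a ≤ 2 := by
  unfold lv
  split_ifs <;> omega

theorem lv_cases (hk : d ≤ 2 * k) (a : Fin d) :
    (lv k a = 0 ∧ a.val + k < d ∧ a.val < k) ∨ (lv k a = 1 ∧ d ≤ a.val + k ∧ a.val < k) ∨
      (lv k a = 2 ∧ d ≤ a.val + k ∧ k ≤ a.val) := by
  unfold lv
  split_ifs <;> omega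

theorem Raises.of_ge {M : Matrix (Fin d) (Fin d) R} (h : Ge 0 M) : Raises (lv k) 0 M := fun a b hab =>
  h a b (by
    by_contra hc
    have := lv_le_of_le (k := k) (show b.val ≤ a.val by omega)
    omega)

theorem raises_one_matrix : Raises (lv k) 0 (1 : Matrix (Fin d) (Fin d) R) := Raises.of_ge ge_one_zero

theorem Raises.mono {δ : Fin d → ℤ} {s t : ℤ} {M : Matrix (Fin d) (Fin d) R} (h : Raises δ t M)
    (hst : s ≤ t) : Raises δ s M := fun a b hab => h a b (by omega)

theorem Raises.add {δ : Fin d → ℤ} {s : ℤ} {M N : Matrix (Fin d) (Fin d) R} (h : Raises δ s M)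
    (h' : Raises δ s N) : Raises δ s (M + N) := fun a b hab => by
  rw [Matrix.add_apply, h a b hab, h' a b hab, add_zero]

theorem Raises.neg {δ : Fin d → ℤ} {s : ℤ} {M : Matrix (Fin d) (Fin d) R} (h : Raises δ s M) :
    Raises δ s (-M) := fun a b hab => by
  rw [Matrix.neg_apply, h a b hab, neg_zero]

theorem Raises.sub {δ : Fin d → ℤ} {s : ℤ} {M N : Matrix (Fin d) (Fin d) R} (h : Raises δ s M)
    (h' : Raises δ s N) : Raises δ s (M - N) := fun a b hab => by
  rw [Matrix.sub_apply, h a b hab, h' a b hab, sub_zero]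

theorem Raises.eq_zero {M : Matrix (Fin d) (Fin d) R} (h : Raises (lv k) 3 M) : M = 0 :=
  Matrix.ext fun a b => h a b (by have := lv_le_two (k := k) a; have := lv_nonneg (k := k) b; omega)

/-- Right cancellation of an operator of exact degree `k`. -/
theorem right_zero [IsDomain R] (hγ : γ ≠ 0) (hA : Ge k A)
    (hlead : ∀ r c : Fin d, r.val = c.val + k → A r c = γ) {M : Matrix (Fin d) (Fin d) R} {a : Fin d}
    (h : ∀ c, (M * A) a c = 0) : ∀ b : Fin d, k ≤ b.val → M a b = 0 := by
  suffices key : ∀ n : ℕ, ∀ b : Fin d, d ≤ b.val + n → k ≤ b.val → M a b = 0 from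
    fun b => key d b (by omega)
  intro n
  induction n with
  | zero => intro b hb; omega
  | succ n ih =>
    intro b hb hkb
    have h0 := h ⟨b.val - k, by omega⟩
    rw [Matrix.mul_apply, Finset.sum_eq_single b] at h0
    · rw [hlead b _ (by simp; omega)] at h0
      exact (mul_eq_zero.1 h0).resolve_right hγ
    · intro i _ hi
      rcases lt_or_gt_of_ne (fun e => hi (Fin.ext e) : i.val ≠ b.val) with h1 | h1
      · rw [hA i _ (by simp; omega), mul_zero]
      · rw [ih i (by omega) (by omega), zero_mul]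
    · exact fun h => absurd (Finset.mem_univ _) h

/-- Left cancellation of an operator of exact degree `k`. -/
theorem left_zero [IsDomain R] (hγ : γ ≠ 0) (hA : Ge k A)
    (hlead : ∀ r c : Fin d, r.val = c.val + k → A r c = γ) {M : Matrix (Fin d) (Fin d) R} {b : Fin d}
    (h : ∀ r, (A * M) r b = 0) : ∀ a : Fin d, a.val + k < d → M a b = 0 := by
  suffices key : ∀ n : ℕ, ∀ a : Fin d, a.val < n → a.val + k < d → M a b = 0 from
    fun a => key d a a.2
  intro n
  induction n with
  | zero => intro a ha; omega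
  | succ n ih =>
    intro a ha hak
    have h0 := h ⟨a.val + k, hak⟩
    rw [Matrix.mul_apply, Finset.sum_eq_single a] at h0
    · rw [hlead _ a rfl] at h0
      exact (mul_eq_zero.1 h0).resolve_left hγ
    · intro i _ hi
      rcases lt_or_gt_of_ne (fun e => hi (Fin.ext e) : i.val ≠ a.val) with h1 | h1
      · rw [ih i (by omega) (by omega), mul_zero]
      · rw [hA _ i (by simp; omega), zero_mul]
    · exact fun h => absurd (Finset.mem_univ _) h

/-- A matrix commuting with the operator preserves the flag. -/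
theorem raises_of_commute [IsDomain R] (hk : d ≤ 2 * k) (hγ : γ ≠ 0) (hA : Ge k A)
    (hlead : ∀ r c : Fin d, r.val = c.val + k → A r c = γ) {M : Matrix (Fin d) (Fin d) R}
    (h : M * A = A * M) : Raises (lv k) 0 M := by
  intro a b hab
  rcases lv_cases hk a with ⟨ha, ha1, ha2⟩ | ⟨ha, ha1, ha2⟩ | ⟨ha, ha1, ha2⟩
  · refine left_zero hγ hA hlead (fun r => ?_) a ha1
    have hb : d ≤ b.val + k := by
      rcases lv_cases hk b with ⟨hb, -⟩ | ⟨-, hb, -⟩ | ⟨-, hb, -⟩ <;> omega
    rw [← h, Matrix.mul_apply]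
    exact Finset.sum_eq_zero fun i _ => by rw [hA i b (by omega), mul_zero]
  · refine right_zero hγ hA hlead (fun c => ?_) b ?_
    · rw [h, Matrix.mul_apply]
      exact Finset.sum_eq_zero fun i _ => by rw [hA a i (by omega), zero_mul]
    · rcases lv_cases hk b with ⟨hb, -⟩ | ⟨hb, -⟩ | ⟨-, -, hb⟩ <;> omega
  · have := lv_le_two (k := k) b
    omega

/-- The operator itself raises the level by two. -/
theorem raises_two_self (hk : d ≤ 2 * k) (hA : Ge k A) : Raises (lv k) 2 A := fun a b hab => hA a b (by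
  rcases lv_cases hk a with ⟨ha, _, _⟩ | ⟨ha, _, _⟩ | ⟨ha, _, _⟩ <;>
    rcases lv_cases hk b with ⟨hb, _, _⟩ | ⟨hb, _, _⟩ | ⟨hb, _, _⟩ <;> omega)

/-- An operator raising the level by two commutes with the given one, both products being zero. -/
theorem raises_two_mul {M N : Matrix (Fin d) (Fin d) R} (hM : Raises (lv k) 2 M)
    (hN : Raises (lv k) 2 N) : M * N = 0 :=
  ((hM.mul hN).mono (by omega)).eq_zero

namespace Datum

variable {p : ℕ} [hp : Fact p.Prime] {G : Type*} [Group G] [Finite G] (D : Datum p d G) (K : D.Kit)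

theorem z_ne : K.z ≠ 1 := fun h => by
  have h1 := K.lead ⟨K.k, K.k_lt⟩ ⟨0, by have := K.k_lt; omega⟩ (by simp)
  rw [h, map_one, Matrix.one_apply_ne (by simp; have := K.two_le; omega)] at h1
  exact K.γ_ne h1.symm

theorem lead_sub_one (r c : Fin d) (h : r.val = c.val + K.k) : (D.ρ K.z - 1) r c = K.γ := by
  rw [Matrix.sub_apply, K.lead r c h,
    Matrix.one_apply_ne (fun e => by subst e; have := K.two_le; omega), sub_zero]

theorem ge_zero_T {t : G} (ht : t ∈ D.T) : Ge 0 (D.ρ t) := by
  have h := ((D.tri ht).mono (show 0 ≤ 1 by omega)).add ge_one_zero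
  rwa [sub_add_cancel] at h

variable (hdp : d ≤ p) (hk : d ≤ 2 * K.k)
include hk

theorem raises_of_comm {g : G} (hg : g * K.z = K.z * g) : Raises (lv K.k) 0 (D.ρ g) :=
  raises_of_commute hk K.γ_ne K.ge_z (D.lead_sub_one K)
    (by rw [mul_sub, sub_mul, mul_one, one_mul, ← map_mul, ← map_mul, hg])

/-- The elements of the centralizer of `z` that are unipotent of degree `s` on the flag. -/
def unip (s : ℤ) (hs : 1 ≤ s) : Subgroup G where
  carrier := {g | g * K.z = K.z * g ∧ Raises (lv K.k) s (D.ρ g - 1)}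
  one_mem' := ⟨by rw [one_mul, mul_one], by rw [map_one, sub_self]; exact fun a b _ => rfl⟩
  mul_mem' := fun {a b} ha hb => ⟨(show Commute a K.z from ha.1).mul_left hb.1, by
    rw [map_mul, mul_sub_one_eq]
    exact (ha.2.add hb.2).add ((ha.2.mul hb.2).mono (by omega))⟩
  inv_mem' := fun {a} ha => by
    refine ⟨(show Commute a K.z from ha.1).inv_left, ?_⟩
    have e : D.ρ a⁻¹ - 1 = -(D.ρ a⁻¹ * (D.ρ a - 1)) := by
      rw [mul_sub, ← map_mul, inv_mul_cancel, map_one, mul_one, neg_sub]
    rw [e]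
    have h := (D.raises_of_comm K hk (show a⁻¹ * K.z = K.z * a⁻¹ from
      (show Commute a K.z from ha.1).inv_left)).mul ha.2
    exact (h.mono (by omega)).neg

theorem mem_unip {s : ℤ} (hs : 1 ≤ s) {g : G} :
    g ∈ D.unip K hk s hs ↔ g * K.z = K.z * g ∧ Raises (lv K.k) s (D.ρ g - 1) := Iff.rfl

include hdp

/-- The unipotent elements lie in `T`. -/
theorem unip_le (h5 : 5 ≤ p) (s : ℤ) (hs : 1 ≤ s) : D.unip K hk s hs ≤ (D.T : Subgroup G) := by
  set C : Subgroup G := Subgroup.centralizer {K.z} with hC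
  have hUC : D.unip K hk s hs ≤ C := fun g hg => Subgroup.mem_centralizer_singleton_iff.2 hg.1
  have hTC : (D.T : Subgroup G) ≤ C := fun t ht =>
    Subgroup.mem_centralizer_singleton_iff.2 (K.central t ht).symm
  have hUp : IsPGroup p (D.unip K hk s hs) := fun g => ⟨1, Subtype.ext (D.inj (by
    have h3 : (D.ρ (g : G) - 1) ^ 3 = 0 := ((g.2.2.pow 3).mono (by push_cast; omega)).eq_zero
    have hd : 0 < d := by have := K.k_lt; omega
    haveI : Nonempty (Fin d) := ⟨⟨0, hd⟩⟩
    haveI : CharP (Matrix (Fin d) (Fin d) (ZMod p)) p := Matrix.charP p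
    have hpow : (D.ρ (g : G) - 1) ^ p = 0 := pow_eq_zero_of_le (by omega) h3
    rw [sub_pow_char_of_commute _ (Commute.one_right _), one_pow, sub_eq_zero] at hpow
    rw [pow_one, SubmonoidClass.coe_pow, Subgroup.coe_one, map_pow, map_one, hpow]))⟩
  haveI : ((D.unip K hk s hs).comap C.subtype).Normal := ⟨fun u hu c => by
    rw [Subgroup.mem_comap, Subgroup.coe_subtype] at hu ⊢
    have hc : (c : G) * K.z = K.z * c := Subgroup.mem_centralizer_singleton_iff.1 c.2
    have hc' : (c : G)⁻¹ * K.z = K.z * (c : G)⁻¹ := (show Commute (c : G) K.z from hc).inv_left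
    refine ⟨?_, ?_⟩
    · exact ((show Commute (c : G) K.z from hc).mul_left hu.1).mul_left hc'
    · have e : D.ρ ((c * u * c⁻¹ : C) : G) - 1 = D.ρ (c : G) * (D.ρ (u : G) - 1) * D.ρ (c : G)⁻¹ := by
        rw [mul_sub, sub_mul, mul_one, ← map_mul, ← map_mul, ← map_mul, mul_inv_cancel, map_one]
        rfl
      rw [e]
      exact (((D.raises_of_comm K hk hc).mul hu.2).mul (D.raises_of_comm K hk hc')).mono (by omega)⟩
  have h := (hUp.comap_subtype (H := D.unip K hk s hs) (K := C)).le_sylow_of_normal ((D.T).subtype hTC)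
  intro g hg
  exact h (show (⟨g, hUC hg⟩ : C) ∈ (D.unip K hk s hs).subgroupOf C from hg)

end Datum

end Cfsg.Agent.RegularSE
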