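import Cfsg.Agent.Lib.RegularSE.SymSquare
import Cfsg.Agent.Lib.FusionFp.Quad
import Mathlib.RingTheory.TensorProduct.Basic
import Mathlib.RingTheory.Adjoin.Basic
import Mathlib.LinearAlgebra.Dual.Lemmas

/-!
A pair of quadratic elements generating a subgroup which is not a `p`-group, each being the only
element of its kind up to powers, generates `SL₂(p)` acting naturally.
-/

set_option autoImplicit false
set_option linter.unusedSectionVars false
set_option linter.style.haveILetI false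

namespace Cfsg.Agent.RegularSE

open Matrix
open Cfsg.Agent.FusionFp

variable {p : ℕ} [hp : Fact p.Prime] {V : Type} [AddCommGroup V] [Module (ZMod p) V] [Finite V]
  {G : Type*} [Group G] [Finite G]

/-- Every element congruent to `1` like `z` is a power of `z`. -/
def Pure (ρ : G →* Module.End (ZMod p) V) (z : G) : Prop :=
  ∀ u : G, LinearMap.range (ρ u - 1) ≤ LinearMap.range (ρ z - 1) →
    LinearMap.ker (ρ z - 1) ≤ LinearMap.ker (ρ u - 1) → u ∈ Subgroup.zpowers z

/-- The matrix model on the range of a stable power of `αβ + βα`. -/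
theorem exists_model {ρ : G →* Module.End (ZMod p) V} {a b : G} (ha : (ρ a - 1) ^ 2 = 0)
    (hb : (ρ b - 1) ^ 2 = 0) (hgen : Subgroup.closure ({a, b} : Set G) = ⊤) {n : ℕ}
    (hinj : ∀ w ∈ LinearMap.range (quadOp ρ a b ^ n), quadOp ρ a b w = 0 → w = 0) :
    ∃ (A : Type) (_ : CommRing A) (_ : Algebra (ZMod p) A) (_ : Finite A) (c : Aˣ)
      (f : G →* Matrix.SpecialLinearGroup (Fin 2) A)
      (Θ : Matrix (Fin 2) (Fin 2) A → Module.End (ZMod p) (LinearMap.range (quadOp ρ a b ^ n))),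
      ((f a : Matrix (Fin 2) (Fin 2) A) = !![1, (c : A); 0, 1]) ∧
      ((f b : Matrix (Fin 2) (Fin 2) A) = !![1, 0; 1, 1]) ∧
      (∀ g (v : LinearMap.range (quadOp ρ a b ^ n)), ρ g (v : V) = (Θ (f g) v : V)) ∧
      (∀ M : Matrix (Fin 2) (Fin 2) A, M 1 0 = 0 → M 0 0 = 1 → M 1 1 = 1 →
        ∀ v : LinearMap.range (quadOp ρ a b ^ n),
          ((Θ M v : V) - (v : V) ∈ LinearMap.range (ρ a - 1)) ∧
          ((ρ a - 1) (v : V) = 0 → (Θ M v : V) = v)) ∧
      (∀ l : ZMod p, (c : A) = algebraMap (ZMod p) A l →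
        ∀ v ∈ LinearMap.range (quadOp ρ a b ^ n), quadOp ρ a b v = l • v) := by
  classical
  set C := quadOp ρ a b with hC
  set α := ρ a - 1 with hα
  set β := ρ b - 1 with hβ
  set R := LinearMap.range (C ^ n) with hR
  have hα2 : ∀ v, α (α v) = 0 := fun v => quad_apply ha v
  have hβ2 : ∀ v, β (β v) = 0 := fun v => quad_apply hb v
  have hCg : ∀ (g : G) (v : V), C (ρ g v) = ρ g (C v) := fun g v =>
    LinearMap.congr_fun (quadOp_comm ha hb hgen g).eq v
  have hRg : ∀ g : G, ∀ v ∈ R, ρ g v ∈ R := by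
    rintro g _ ⟨y, rfl⟩
    exact ⟨ρ g y, quadOp_pow_comm ha hb hgen n g y⟩
  have hRα : ∀ v ∈ R, α v ∈ R := fun v hv => R.sub_mem (hRg a v hv) hv
  have hRβ : ∀ v ∈ R, β v ∈ R := fun v hv => R.sub_mem (hRg b v hv) hv
  have hCval : ∀ v, C v = α (β v) + β (α v) := fun v => rfl
  have hRC : ∀ v ∈ R, C v ∈ R := fun v hv => by
    rw [hCval]; exact R.add_mem (hRα _ (hRβ v hv)) (hRβ _ (hRα v hv))
  have hCα : ∀ v, C (α v) = α (C v) := fun v => by
    simp only [hα, LinearMap.sub_apply, Module.End.one_apply, map_sub, hCg]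
  -- the restricted operator
  set U := R.map α with hU
  have hUR : ∀ u ∈ U, u ∈ R := by rintro _ ⟨v, hv, rfl⟩; exact hRα v hv
  have hUα : ∀ u ∈ U, α u = 0 := by rintro _ ⟨v, -, rfl⟩; exact hα2 v
  have hUC : ∀ u ∈ U, C u ∈ U := by
    rintro _ ⟨v, hv, rfl⟩; exact ⟨C v, hRC v hv, (hCα v).symm⟩
  let CU : Module.End (ZMod p) U := C.restrict hUC
  let A := Algebra.adjoin (ZMod p) {CU}
  letI : CommRing A := { (inferInstance : Ring A) with
    mul_comm := fun x y => by
      have h : ∀ x ∈ A, Commute x CU := fun x hx => by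
        induction hx using Algebra.adjoin_induction with
        | mem y hy => rw [Set.mem_singleton_iff.1 hy]
        | algebraMap r => exact Algebra.commutes r CU
        | add y z _ _ hy hz => exact hy.add_left hz
        | mul y z _ _ hy hz => exact hy.mul_left hz
      refine Subtype.ext ?_
      have hy : ∀ y ∈ A, Commute (x : Module.End (ZMod p) U) y := fun y hy => by
        induction hy using Algebra.adjoin_induction with
        | mem w hw => rw [Set.mem_singleton_iff.1 hw]; exact h _ x.2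
        | algebraMap r => exact (Algebra.commutes r _).symm
        | add u w _ _ hu hw => exact hu.add_right hw
        | mul u w _ _ hu hw => exact hu.mul_right hw
      exact (hy y y.2).eq }
  haveI : Finite (Module.End (ZMod p) U) :=
    Finite.of_injective (fun f : Module.End (ZMod p) U => (f : U → U)) DFunLike.coe_injective
  haveI : Finite A := Subtype.finite
  let cA : A := ⟨CU, Algebra.self_mem_adjoin_singleton _ _⟩
  have hCU : Function.Injective CU := by
    rw [injective_iff_map_eq_zero]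
    intro u hu
    exact Subtype.ext (hinj _ (hUR _ u.2) (congrArg Subtype.val hu))
  obtain ⟨c, hc⟩ : IsUnit cA := by
    refine IsUnit.of_mul_eq_one _ (Classical.choose_spec
      ((Finite.injective_iff_surjective (f := fun y : A => cA * y)).1 (fun y y' h => Subtype.ext
        (LinearMap.ext fun u => hCU (LinearMap.congr_fun (congrArg Subtype.val h) u))) 1))
  -- the coordinates
  let Ψ : U × U →ₗ[ZMod p] R := LinearMap.codRestrict R
    (U.subtype.comp (LinearMap.fst _ _ _) + β.comp (U.subtype.comp (LinearMap.snd _ _ _)))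
    (fun w => R.add_mem (hUR _ w.1.2) (hRβ _ (hUR _ w.2.2)))
  have hΨ : ∀ w : U × U, (Ψ w : V) = (w.1 : V) + β (w.2 : V) := fun w => rfl
  have hαβ : ∀ u : U, α (β (u : V)) = C u := fun u => by rw [hCval, hUα _ u.2, map_zero, add_zero]
  have hΨinj : Function.Injective Ψ := by
    rw [injective_iff_map_eq_zero]
    intro w hw
    have h : (w.1 : V) + β (w.2 : V) = 0 := (hΨ w).symm.trans (congrArg Subtype.val hw)
    have h2 : C (w.2 : V) = 0 := by
      have := congrArg α h
      rwa [map_add, hUα _ w.1.2, zero_add, hαβ, map_zero] at this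
    have h3 : (w.2 : V) = 0 := hinj _ (hUR _ w.2.2) h2
    rw [h3, map_zero, add_zero] at h
    exact Prod.ext (Subtype.ext h) (Subtype.ext h3)
  have hΨsurj : Function.Surjective Ψ := by
    intro v
    let CR : Module.End (ZMod p) R := C.restrict hRC
    have hCR : Function.Surjective CR := by
      refine LinearMap.injective_iff_surjective.1 ((injective_iff_map_eq_zero CR).2 fun u hu => ?_)
      exact Subtype.ext (hinj _ u.2 (congrArg Subtype.val hu))
    obtain ⟨v', hv'⟩ := hCR v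
    refine ⟨(⟨α (β v'), ⟨β v', hRβ _ v'.2, rfl⟩⟩, ⟨α v', ⟨v', v'.2, rfl⟩⟩), Subtype.ext ?_⟩
    rw [hΨ, ← hv']
    exact (hCval v').symm
  let e : (U × U) ≃ₗ[ZMod p] R := LinearEquiv.ofBijective Ψ ⟨hΨinj, hΨsurj⟩
  let act : Matrix (Fin 2) (Fin 2) A → Module.End (ZMod p) (U × U) := fun M =>
    LinearMap.prod
      ((M 0 0 : Module.End (ZMod p) U).comp (LinearMap.fst _ _ _) +
        (M 0 1 : Module.End (ZMod p) U).comp (LinearMap.snd _ _ _))
      ((M 1 0 : Module.End (ZMod p) U).comp (LinearMap.fst _ _ _) +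
        (M 1 1 : Module.End (ZMod p) U).comp (LinearMap.snd _ _ _))
  have hact : ∀ M w, act M w = ((M 0 0 : Module.End (ZMod p) U) w.1 + (M 0 1 : Module.End (ZMod p) U) w.2,
      (M 1 0 : Module.End (ZMod p) U) w.1 + (M 1 1 : Module.End (ZMod p) U) w.2) := fun M w => rfl
  have hactmul : ∀ M N, act (M * N) = act M * act N := fun M N => by
    refine LinearMap.ext fun w => ?_
    rw [Module.End.mul_apply, hact, hact, hact]
    simp only [Matrix.mul_apply, Fin.sum_univ_two, Subalgebra.coe_add, Subalgebra.coe_mul,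
      LinearMap.add_apply, Module.End.mul_apply, map_add]
    ext <;> simp <;> abel
  have hactone : act 1 = 1 := LinearMap.ext fun w => by simp [hact]
  let Θ : Matrix (Fin 2) (Fin 2) A → Module.End (ZMod p) R := fun M =>
    e.toLinearMap.comp ((act M).comp e.symm.toLinearMap)
  have hΘ : ∀ M w, Θ M (e w) = e (act M w) := fun M w => by simp [Θ]
  have hΘmul : ∀ M N, Θ (M * N) = Θ M * Θ N := fun M N => LinearMap.ext fun v => by
    simp [Θ, hactmul, Module.End.mul_apply]
  have hΘinj : ∀ M N, Θ M = Θ N → M = N := by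
    intro M N h
    have h' : ∀ w, act M w = act N w := fun w => e.injective (by rw [← hΘ, ← hΘ, h])
    ext i j : 1
    refine Subtype.ext (LinearMap.ext fun u => ?_)
    have h1 := h' (u, 0)
    have h2 := h' (0, u)
    simp only [hact, map_zero, add_zero, zero_add, Prod.mk.injEq] at h1 h2
    fin_cases i <;> fin_cases j
    exacts [h1.1, h2.1, h1.2, h2.2]
  let ga : Matrix.SpecialLinearGroup (Fin 2) A := ⟨!![1, (c : A); 0, 1], by simp [Matrix.det_fin_two]⟩
  let gb : Matrix.SpecialLinearGroup (Fin 2) A := ⟨!![1, 0; 1, 1], by simp [Matrix.det_fin_two]⟩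
  let Rel : G → Matrix.SpecialLinearGroup (Fin 2) A → Prop := fun g M =>
    ∀ v : R, ρ g (v : V) = (Θ M v : V)
  have hex : ∀ g, ∃ M, Rel g M := by
    intro g
    have hg : g ∈ Subgroup.closure ({a, b} : Set G) := hgen ▸ Subgroup.mem_top g
    induction hg using Subgroup.closure_induction with
    | mem x hx =>
      rcases hx with rfl | rfl
      · refine ⟨ga, fun v => ?_⟩
        obtain ⟨w, rfl⟩ := e.surjective v
        rw [hΘ]
        show ρ x ((w.1 : V) + β (w.2 : V)) = ((act ga w).1 : V) + β ((act ga w).2 : V)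
        rw [hact]
        have e1 : ∀ v, ρ x v = α v + v := fun v => by simp [hα]
        rw [e1, map_add, hUα _ w.1.2, zero_add, hαβ]
        simp [ga, hc, cA, CU]
        abel
      · refine ⟨gb, fun v => ?_⟩
        obtain ⟨w, rfl⟩ := e.surjective v
        rw [hΘ]
        show ρ x ((w.1 : V) + β (w.2 : V)) = ((act gb w).1 : V) + β ((act gb w).2 : V)
        rw [hact]
        have e1 : ∀ v, ρ x v = β v + v := fun v => by simp [hβ]
        rw [e1, map_add, hβ2]
        simp [gb]
        abel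
    | one => exact ⟨1, fun v => by simp [Θ, hactone]⟩
    | mul x y _ _ hx hy =>
      obtain ⟨M, hM⟩ := hx
      obtain ⟨N, hN⟩ := hy
      refine ⟨M * N, fun v => ?_⟩
      rw [map_mul, Module.End.mul_apply, hN v, hM (Θ N v), Matrix.SpecialLinearGroup.coe_mul, hΘmul]
      rfl
    | inv x _ hx =>
      obtain ⟨M, hM⟩ := hx
      refine ⟨M⁻¹, fun v => ?_⟩
      have h : ρ x ((Θ (M⁻¹ : Matrix.SpecialLinearGroup (Fin 2) A) v : R) : V) = (v : V) := by
        rw [hM, ← Module.End.mul_apply, ← hΘmul, ← Matrix.SpecialLinearGroup.coe_mul, mul_inv_cancel,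
          Matrix.SpecialLinearGroup.coe_one]
        simp [Θ, hactone]
      conv_lhs => rw [← h]
      rw [← Module.End.mul_apply, ← map_mul, inv_mul_cancel, map_one, Module.End.one_apply]
  have huniq : ∀ g M N, Rel g M → Rel g N → M = N := fun g M N hM hN =>
    Subtype.ext (hΘinj _ _ (LinearMap.ext fun v => Subtype.ext ((hM v).symm.trans (hN v))))
  choose f hf using hex
  let fh : G →* Matrix.SpecialLinearGroup (Fin 2) A :=
    { toFun := f
      map_one' := huniq 1 _ _ (hf 1) fun v => by simp [Θ, hactone]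
      map_mul' := fun x y => huniq (x * y) _ _ (hf _) fun v => by
        rw [map_mul, Module.End.mul_apply, hf y v, hf x, Matrix.SpecialLinearGroup.coe_mul, hΘmul]
        rfl }
  have hmema : a ∈ ({a, b} : Set G) := Set.mem_insert _ _
  refine ⟨A, inferInstance, inferInstance, inferInstance, c, fh, Θ, ?_, ?_, fun g v => hf g v, ?_, ?_⟩
  · refine congrArg Subtype.val (huniq a (f a) ga (hf a) fun v => ?_)
    obtain ⟨w, rfl⟩ := e.surjective v
    rw [hΘ]
    show ρ a ((w.1 : V) + β (w.2 : V)) = ((act ga w).1 : V) + β ((act ga w).2 : V)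
    rw [hact]
    have e1 : ∀ v, ρ a v = α v + v := fun v => by simp [hα]
    rw [e1, map_add, hUα _ w.1.2, zero_add, hαβ]
    simp [ga, hc, cA, CU]
    abel
  · refine congrArg Subtype.val (huniq b (f b) gb (hf b) fun v => ?_)
    obtain ⟨w, rfl⟩ := e.surjective v
    rw [hΘ]
    show ρ b ((w.1 : V) + β (w.2 : V)) = ((act gb w).1 : V) + β ((act gb w).2 : V)
    rw [hact]
    have e1 : ∀ v, ρ b v = β v + v := fun v => by simp [hβ]
    rw [e1, map_add, hβ2]
    simp [gb]
    abel
  · intro M h10 h00 h11 v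
    obtain ⟨w, rfl⟩ := e.surjective v
    rw [hΘ]
    have hval : ((e (act M w) : R) : V) = (e w : V) + ((M 0 1 : Module.End (ZMod p) U) w.2 : V) := by
      show ((act M w).1 : V) + β ((act M w).2 : V) = ((w.1 : V) + β (w.2 : V)) + _
      rw [hact]
      simp [h10, h00, h11]
      abel
    refine ⟨?_, fun h => ?_⟩
    · rw [hval, add_sub_cancel_left]
      obtain ⟨v, -, hv⟩ := ((M 0 1 : Module.End (ZMod p) U) w.2).2
      exact ⟨v, hv⟩
    · have h2 : C (w.2 : V) = 0 := by
        change α ((w.1 : V) + β (w.2 : V)) = 0 at h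
        rwa [map_add, hUα _ w.1.2, zero_add, hαβ] at h
      have h3 : w.2 = 0 := Subtype.ext (hinj _ (hUR _ w.2.2) h2)
      rw [hval, h3, map_zero, ZeroMemClass.coe_zero, add_zero]
  · intro l hl v hv
    obtain ⟨w, hw⟩ := e.surjective ⟨v, hv⟩
    have hv' : v = (w.1 : V) + β (w.2 : V) := (congrArg Subtype.val hw).symm
    have hCu : ∀ u : U, C (u : V) = l • (u : V) := fun u => by
      have h : (cA : Module.End (ZMod p) U) u = l • u := by
        rw [← hc, hl]; rfl
      exact congrArg Subtype.val h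
    have hCβ : ∀ v, C (β v) = β (C v) := fun v => by
      simp only [hβ, LinearMap.sub_apply, Module.End.one_apply, map_sub, hCg]
    rw [hv', map_add, hCβ, hCu, hCu, map_smul, smul_add]

/-- An element of a subgroup generated by two elements of order `p` fixing the stable kernel. -/
theorem exists_fixing (hp5 : 5 ≤ p) {ρ : G →* Module.End (ZMod p) V}
    (hρ : Function.Injective ρ) {a b : G}
    (ha : (ρ a - 1) ^ 2 = 0) (hb : (ρ b - 1) ^ 2 = 0) (hgen : Subgroup.closure ({a, b} : Set G) = ⊤)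
    (hnp : ¬ IsPGroup p G) {N : Subgroup G} [N.Normal]
    (hN : ∀ g : G, (orderOf g).Coprime p → g ∈ N) : p ∣ Nat.card N := by
  classical
  have hp2 : p ≠ 2 := by omega
  obtain ⟨k₀, hk₀, hk₀c⟩ : ∃ k₀ : G, k₀ ≠ 1 ∧ (orderOf k₀).Coprime p := by
    by_contra h
    push Not at h
    refine hnp fun g => ?_
    obtain ⟨k, m, hm, hkm⟩ := Nat.exists_eq_pow_mul_and_not_dvd (orderOf_pos g).ne' p hp.out.ne_one
    refine ⟨k, ?_⟩
    by_contra hne
    refine h _ hne ?_
    refine Nat.Coprime.coprime_dvd_left (k := m) (orderOf_dvd_of_pow_eq_one ?_)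
      ((hp.out.coprime_iff_not_dvd.2 hm).symm)
    rw [← pow_mul, ← hkm, pow_orderOf_eq_one]
  obtain ⟨E, hEf, hEa, hEfin, μ, φ, W₁, π, hW₁, hμ0, hφa, hφb, -, -, -, -⟩ :=
    PStable.exists_pair_section (p := p) ρ hgen ha hb (k₀ := k₀)
      (fun h => hk₀ (hρ (h.trans (map_one ρ).symm))) hk₀c
  haveI : Finite E := Module.finite_of_finite (ZMod p)
  haveI : CharP E p := charP_of_injective_algebraMap (algebraMap (ZMod p) E).injective p
  have htwo : PStable.HasTwo p φ.range := by
    refine ⟨φ a, ⟨a, rfl⟩, φ b, ⟨b, rfl⟩, ?_, ?_, fun h => ?_⟩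
    · rw [hφa, PStable.upp_pow, CharP.cast_eq_zero, zero_mul, PStable.upp_zero]
    · rw [hφb]
      apply Subtype.ext
      have h : ∀ n : ℕ, ((PStable.low (1 : E) : Matrix.SpecialLinearGroup (Fin 2) E) ^ n) = PStable.low (n : E) := by
        intro n
        induction n with
        | zero => rw [pow_zero]; apply Subtype.ext; simp [PStable.low_val, Matrix.one_fin_two]
        | succ n ih => rw [pow_succ, ih, PStable.low_mul, Nat.cast_succ]
      rw [h, CharP.cast_eq_zero, PStable.low_val]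
      simp [Matrix.one_fin_two]
    · rw [hφa, hφb] at h
      have h1 := congrFun (congrFun (congrArg Subtype.val h) 0) 0
      simp [Matrix.SpecialLinearGroup.coe_mul, PStable.upp_val, PStable.low_val, Matrix.mul_apply,
        Fin.sum_univ_two] at h1
      exact hμ0 h1
  obtain ⟨g, hg⟩ := PStable.dickson hp2 htwo
  have h20 : (2 : ZMod p) ≠ 0 := PStable.two_ne_zero' hp2
  let t : Matrix.SpecialLinearGroup (Fin 2) (ZMod p) :=
    ⟨!![2, 0; 0, 2⁻¹], by simp [Matrix.det_fin_two, h20]⟩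
  have ht0 : (t : Matrix (Fin 2) (Fin 2) (ZMod p)) = !![2, 0; 0, 2⁻¹] := rfl
  obtain ⟨k₁, hk₁⟩ := hg t
  obtain ⟨k₂, hk₂⟩ := hg (PStable.upp 1)
  obtain ⟨s, m, hm, hsm⟩ := Nat.exists_eq_pow_mul_and_not_dvd (orderOf_pos k₁).ne' p hp.out.ne_one
  have hk₃ : k₁ ^ p ^ s ∈ N := by
    refine hN _ (Nat.Coprime.coprime_dvd_left (k := m) (orderOf_dvd_of_pow_eq_one ?_)
      ((hp.out.coprime_iff_not_dvd.2 hm).symm))
    rw [← pow_mul, ← hsm, pow_orderOf_eq_one]
  have ht : t ^ p ^ s = t := by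
    have hdiag : ∀ i : ℕ, ((t ^ i : Matrix.SpecialLinearGroup (Fin 2) (ZMod p)) : Matrix (Fin 2) (Fin 2) (ZMod p))
        = !![(2 : ZMod p) ^ i, 0; 0, (2 : ZMod p)⁻¹ ^ i] := by
      intro i
      induction i with
      | zero => simp [Matrix.one_fin_two]
      | succ i ih =>
        rw [pow_succ, Matrix.SpecialLinearGroup.coe_mul, ih]
        show _ * !![2, 0; 0, 2⁻¹] = _
        ext a b; fin_cases a <;> fin_cases b <;> simp [Matrix.mul_apply, Fin.sum_univ_two, pow_succ]
    apply Subtype.ext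
    rw [hdiag, ZMod.pow_card_pow, ZMod.pow_card_pow]
  set ψ := (PStable.conjGL g).comp (Matrix.SpecialLinearGroup.map (n := Fin 2) (ZMod.castHom dvd_rfl E)) with hψ
  have hψinj : Function.Injective ψ := fun x y hxy => by
    have h1 := PStable.conjGL_injective g hxy
    ext i j
    exact (ZMod.castHom dvd_rfl E).injective (by
      simpa using congrArg (fun M : Matrix.SpecialLinearGroup (Fin 2) E => (M : Matrix (Fin 2) (Fin 2) E) i j) h1)
  change φ k₁ = ψ t at hk₁
  change φ k₂ = ψ (PStable.upp 1) at hk₂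
  have hmem : ψ (t * PStable.upp 1 * t⁻¹ * (PStable.upp 1)⁻¹) ∈ N.map φ := by
    refine ⟨k₁ ^ p ^ s * (k₂ * (k₁ ^ p ^ s)⁻¹ * k₂⁻¹),
      mul_mem hk₃ (Subgroup.Normal.conj_mem inferInstance _ (inv_mem hk₃) k₂), ?_⟩
    simp only [map_mul, map_inv, map_pow, hk₁, hk₂]
    rw [← map_pow, ht]
    group
  have hne : t * PStable.upp 1 * t⁻¹ * (PStable.upp 1)⁻¹ ≠ 1 := by
    intro h
    rw [mul_inv_eq_one, mul_inv_eq_iff_eq_mul] at h
    have h1 := congrFun (congrFun (congrArg Subtype.val h) 0) 1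
    simp only [Matrix.SpecialLinearGroup.coe_mul, PStable.upp_val, ht0] at h1
    simp [Matrix.mul_apply, Fin.sum_univ_two] at h1
    have h3 : (2 : ZMod p) * 2 = 1 := by
      have := congrArg (· * (2 : ZMod p)) h1
      simpa [inv_mul_cancel₀ h20] using this
    have h4 : ((3 : ℕ) : ZMod p) = 0 := by push_cast; linear_combination h3
    have h5 := (Nat.prime_dvd_prime_iff_eq hp.out Nat.prime_three).1 ((ZMod.natCast_eq_zero_iff _ _).1 h4)
    omega
  have hord : orderOf (ψ (t * PStable.upp 1 * t⁻¹ * (PStable.upp 1)⁻¹)) = p := by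
    refine orderOf_eq_prime ?_ fun h => hne (hψinj (h.trans (map_one ψ).symm))
    rw [← map_pow]
    convert map_one ψ
    have e : t * PStable.upp 1 * t⁻¹ = PStable.upp ((2 : ZMod p) * 2) := by
      rw [mul_inv_eq_iff_eq_mul]
      apply Subtype.ext
      ext a b
      simp only [Matrix.SpecialLinearGroup.coe_mul, PStable.upp_val, ht0]
      fin_cases a <;> fin_cases b <;> simp [Matrix.mul_apply, Fin.sum_univ_two, h20]
    rw [e, PStable.upp_inv, PStable.upp_mul, PStable.upp_pow, ZMod.natCast_self, zero_mul, PStable.upp_zero]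
  have h1 := Subgroup.orderOf_dvd_natCard _ hmem
  rw [hord] at h1
  exact h1.trans (Subgroup.card_map_dvd _ _)

/-- The elements fixing the stable kernel. -/
def kerFixer (ρ : G →* Module.End (ZMod p) V) (C : Module.End (ZMod p) V) : Subgroup G where
  carrier := {g | ∀ v, C v = 0 → ρ g v = v}
  one_mem' := fun v _ => by rw [map_one, Module.End.one_apply]
  mul_mem' := fun {x y} hx hy v hv => by rw [map_mul, Module.End.mul_apply, hy v hv, hx v hv]
  inv_mem' := fun {x} hx v hv => by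
    conv_lhs => rw [← hx v hv]
    rw [← Module.End.mul_apply, ← map_mul, inv_mul_cancel, map_one, Module.End.one_apply]

theorem kerFixer_normal {ρ : G →* Module.End (ZMod p) V} {C : Module.End (ZMod p) V}
    (hC : ∀ g v, C (ρ g v) = ρ g (C v)) : (kerFixer ρ C).Normal :=
  ⟨fun a ha g v hv => by
    show ρ (g * a * g⁻¹) v = v
    rw [map_mul, map_mul, Module.End.mul_apply, Module.End.mul_apply,
      ha _ (by rw [hC, hv, map_zero]), ← Module.End.mul_apply, ← map_mul, mul_inv_cancel, map_one,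
      Module.End.one_apply]⟩

/-- A `p`-element fixing the stable kernel and commuting with `a` is a power of `a`. -/
theorem mem_zpowers_of_commute (hp2 : p ≠ 2) {ρ : G →* Module.End (ZMod p) V} {a b : G}
    (ha : (ρ a - 1) ^ 2 = 0) (hb : (ρ b - 1) ^ 2 = 0) (hgen : Subgroup.closure ({a, b} : Set G) = ⊤)
    (hpure : Pure ρ a) {n : ℕ}
    (hcompl : IsCompl (LinearMap.ker (quadOp ρ a b ^ n)) (LinearMap.range (quadOp ρ a b ^ n)))
    (hinj : ∀ w ∈ LinearMap.range (quadOp ρ a b ^ n), quadOp ρ a b w = 0 → w = 0)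
    {u : G} (hu : u ∈ kerFixer ρ (quadOp ρ a b ^ n)) (hua : u * a = a * u) {s : ℕ}
    (hup : u ^ p ^ s = 1) : u ∈ Subgroup.zpowers a := by
  obtain ⟨A, hA1, hA2, hA3, c, f, Θ, hfa, -, hΘ, hΘ1, -⟩ := exists_model ha hb hgen hinj
  set M : Matrix (Fin 2) (Fin 2) A :=
    (f u : Matrix (Fin 2) (Fin 2) A) with hM
  have hcomm : M * !![1, (c : A); 0, 1] = !![1, (c : A); 0, 1] * M := by
    rw [← hfa, hM, ← Matrix.SpecialLinearGroup.coe_mul, ← Matrix.SpecialLinearGroup.coe_mul, ← map_mul,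
      ← map_mul, hua]
  have h00' := congrFun (congrFun hcomm 0) 0
  have h01' := congrFun (congrFun hcomm 0) 1
  simp [Matrix.mul_apply, Fin.sum_univ_two] at h00' h01'
  have h10 : M 1 0 = 0 := h00'
  have hdiag : M 0 0 = M 1 1 := c.isUnit.mul_right_cancel (by linear_combination h01')
  have hdet : M 0 0 * M 1 1 = 1 := by
    have h := (f u).2
    rw [Matrix.det_fin_two, ← hM, h10, mul_zero, sub_zero] at h
    exact h
  have hpow : ∀ i : ℕ, (M ^ i) 1 0 = 0 ∧ (M ^ i) 0 0 = M 0 0 ^ i := by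
    intro i
    induction i with
    | zero => simp
    | succ i ih =>
      rw [pow_succ]
      simp [Matrix.mul_apply, Fin.sum_univ_two, ih.1, ih.2, h10, pow_succ]
  have hone : M 0 0 ^ p ^ s = 1 := by
    rw [← (hpow _).2, hM, ← Matrix.SpecialLinearGroup.coe_pow, ← map_pow, hup, map_one,
      Matrix.SpecialLinearGroup.coe_one, Matrix.one_apply_eq]
  obtain ⟨i, hi⟩ : Odd (p ^ s) := (hp.out.odd_of_ne_two hp2).pow
  have hsq : M 0 0 * M 0 0 = 1 := by
    conv_lhs => arg 2; rw [hdiag]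
    exact hdet
  have h00 : M 0 0 = 1 := by
    rwa [hi, pow_succ, pow_mul, sq, hsq, one_pow, one_mul] at hone
  have h11 : M 1 1 = 1 := by rw [← hdiag, h00]
  have hsplit : ∀ v : V, ∃ v₀ ∈ LinearMap.ker (quadOp ρ a b ^ n),
      ∃ r ∈ LinearMap.range (quadOp ρ a b ^ n), v₀ + r = v := fun v =>
    Submodule.mem_sup.1 (hcompl.sup_eq_top ▸ Submodule.mem_top)
  refine hpure u ?_ ?_
  · rintro _ ⟨v, rfl⟩
    obtain ⟨v₀, hv₀, r, hr, rfl⟩ := hsplit v
    rw [LinearMap.sub_apply, Module.End.one_apply, map_add, hu v₀ hv₀, add_sub_add_left_eq_sub,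
      hΘ u ⟨r, hr⟩]
    exact (hΘ1 M h10 h00 h11 ⟨r, hr⟩).1
  · intro v hv
    obtain ⟨v₀, hv₀, r, hr, rfl⟩ := hsplit v
    have hα0 : (ρ a - 1) v₀ ∈ LinearMap.ker (quadOp ρ a b ^ n) := by
      rw [LinearMap.mem_ker, LinearMap.sub_apply, Module.End.one_apply, map_sub,
        quadOp_pow_comm ha hb hgen, LinearMap.mem_ker.1 hv₀, map_zero, sub_zero]
    have hαr : (ρ a - 1) r ∈ LinearMap.range (quadOp ρ a b ^ n) := by
      obtain ⟨y, rfl⟩ := hr
      exact ⟨ρ a y - y, by rw [map_sub, quadOp_pow_comm ha hb hgen]; rfl⟩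
    rw [LinearMap.mem_ker, map_add] at hv
    have h0 : (ρ a - 1) r = 0 := Submodule.disjoint_def.1 hcompl.disjoint _
      (by rw [eq_neg_of_add_eq_zero_right hv]; exact Submodule.neg_mem _ hα0) hαr
    rw [LinearMap.mem_ker, LinearMap.sub_apply, Module.End.one_apply, map_add, hu v₀ hv₀, sub_eq_zero,
      hΘ u ⟨r, hr⟩, (hΘ1 M h10 h00 h11 ⟨r, hr⟩).2 h0]

/-- A nontrivial element of a normal subgroup central in a Sylow subgroup containing a given element. -/
theorem exists_central_mem {N : Subgroup G} [N.Normal] (hN : p ∣ Nat.card N) (P : Sylow p G) :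
    ∃ u ∈ (P : Subgroup G), u ∈ N ∧ u ≠ 1 ∧ ∀ g ∈ (P : Subgroup G), g * u = u * g := by
  obtain ⟨y, hy⟩ := exists_prime_orderOf_dvd_card' (G := N) p hN
  have hyp : IsPGroup p (Subgroup.zpowers (y : G)) := IsPGroup.of_card (n := 1) (by
    rw [Nat.card_zpowers, Subgroup.orderOf_coe, hy, pow_one])
  obtain ⟨Q, hQ⟩ := hyp.exists_le_sylow
  obtain ⟨g, hg⟩ := MulAction.exists_smul_eq G Q P
  have hmem : g * (y : G) * g⁻¹ ∈ (P : Subgroup G) := by
    rw [← hg, Sylow.coe_subgroup_smul]
    exact Subgroup.mem_pointwise_smul_iff_inv_smul_mem.2 (by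
      simpa [mul_assoc, ← map_inv] using hQ (Subgroup.mem_zpowers (y : G)))
  set K := N.subgroupOf (P : Subgroup G) with hK
  haveI : Nontrivial K := ⟨⟨1, ⟨⟨_, hmem⟩, Subgroup.Normal.conj_mem inferInstance _ y.2 g⟩, fun h => by
    have h1 := congrArg (fun k : K => ((k : (P : Subgroup G)) : G)) h
    simp only [Subgroup.coe_one] at h1
    have h2 : (y : G) = 1 := by
      have := h1.symm
      rwa [mul_inv_eq_one, mul_eq_left] at this
    rw [← Subgroup.orderOf_coe, h2, orderOf_one] at hy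
    exact hp.out.ne_one hy.symm⟩⟩
  have hfix : (1 : K) ∈ MulAction.fixedPoints (ConjAct (P : Subgroup G)) K := fun g => smul_one g
  have hdvd : p ∣ Nat.card K := by
    obtain ⟨i, hi, hi'⟩ := (P.2.to_subgroup K).nontrivial_iff_card.1 inferInstance
    exact hi'.symm ▸ dvd_pow_self p hi.ne'
  obtain ⟨u, hu, hu1⟩ := (P.2.of_equiv ConjAct.toConjAct).exists_fixed_point_of_prime_dvd_card_of_fixed_point
    K hdvd hfix
  refine ⟨((u : (P : Subgroup G)) : G), (u : (P : Subgroup G)).2, u.2, fun h => hu1 ?_, fun g hg => ?_⟩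
  · exact (Subtype.ext (Subtype.ext h)).symm
  · have h := congrArg Subtype.val (hu (ConjAct.toConjAct (⟨g, hg⟩ : (P : Subgroup G))))
    rw [ConjAct.Subgroup.val_conj_smul, ConjAct.smul_def, ConjAct.ofConjAct_toConjAct,
      mul_inv_eq_iff_eq_mul] at h
    exact congrArg Subtype.val h

/-- The first element fixes the stable kernel. -/
theorem mem_kerFixer (hp5 : 5 ≤ p) {ρ : G →* Module.End (ZMod p) V} (hρ : Function.Injective ρ)
    {a b : G} (hap : a ^ p = 1) (ha : (ρ a - 1) ^ 2 = 0) (hb : (ρ b - 1) ^ 2 = 0)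
    (hgen : Subgroup.closure ({a, b} : Set G) = ⊤) (hnp : ¬ IsPGroup p G) (hpure : Pure ρ a) {n : ℕ}
    (hcompl : IsCompl (LinearMap.ker (quadOp ρ a b ^ n)) (LinearMap.range (quadOp ρ a b ^ n)))
    (hinj : ∀ w ∈ LinearMap.range (quadOp ρ a b ^ n), quadOp ρ a b w = 0 → w = 0) :
    a ∈ kerFixer ρ (quadOp ρ a b ^ n) := by
  haveI := kerFixer_normal (C := quadOp ρ a b ^ n) fun g v => quadOp_pow_comm ha hb hgen n g v
  have hdvd := exists_fixing hp5 hρ ha hb hgen hnp (N := kerFixer ρ (quadOp ρ a b ^ n))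
    fun g hg v hv => fixes_ker_pow ha hb hgen hg hv
  rcases eq_or_ne a 1 with rfl | ha1
  · exact one_mem _
  have hord : orderOf a = p := orderOf_eq_prime hap ha1
  obtain ⟨P, hP⟩ := (IsPGroup.of_card (n := 1) (show Nat.card (Subgroup.zpowers a) = p ^ 1 by
    rw [Nat.card_zpowers, hord, pow_one])).exists_le_sylow
  obtain ⟨u, huP, huN, hu1, huc⟩ := exists_central_mem hdvd P
  obtain ⟨s, hs⟩ := P.2 ⟨u, huP⟩
  have hup : u ^ p ^ s = 1 := congrArg Subtype.val hs
  have hum := mem_zpowers_of_commute (by omega) ha hb hgen hpure hcompl hinj huN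
    (huc a (hP (Subgroup.mem_zpowers a))).symm hup
  obtain ⟨i, hi⟩ := (IsOfFinOrder.mem_powers_iff_mem_zpowers (isOfFinOrder_of_finite a)).2 hum
  have hpi : ¬ p ∣ i := by
    rintro ⟨i', rfl⟩
    refine hu1 ?_
    rw [← hi]
    simp [pow_mul, hap]
  obtain ⟨j, hj⟩ := exists_pow_eq_self_of_coprime (x := a) (n := i)
    (hord.symm ▸ (hp.out.coprime_iff_not_dvd.2 hpi).symm)
  have hi' : a ^ i = u := hi
  have h := pow_mem (hi'.symm ▸ huN : a ^ i ∈ kerFixer ρ (quadOp ρ a b ^ n)) j
  rwa [hj] at h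

/-- The pair generates `SL₂(p)` acting naturally. -/
theorem pair_scalar (hp5 : 5 ≤ p) {ρ : G →* Module.End (ZMod p) V} (hρ : Function.Injective ρ)
    {a b : G} (hap : a ^ p = 1) (hbp : b ^ p = 1) (ha : (ρ a - 1) ^ 2 = 0) (hb : (ρ b - 1) ^ 2 = 0)
    (hgen : Subgroup.closure ({a, b} : Set G) = ⊤) (hnp : ¬ IsPGroup p G) (hpa : Pure ρ a)
    (hpb : Pure ρ b) :
    ∃ l : ZMod p, l ≠ 0 ∧ (ρ a - 1) * (ρ b - 1) * (ρ a - 1) = l • (ρ a - 1) ∧
      (ρ b - 1) * (ρ a - 1) * (ρ b - 1) = l • (ρ b - 1) := by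
  classical
  obtain ⟨n, -, hcompl, hinj⟩ := exists_fitting (quadOp ρ a b)
  have hsym : quadOp ρ b a = quadOp ρ a b := add_comm _ _
  have haF := mem_kerFixer hp5 hρ hap ha hb hgen hnp hpa hcompl hinj
  have hbF : b ∈ kerFixer ρ (quadOp ρ a b ^ n) := by
    rw [← hsym]
    exact mem_kerFixer hp5 hρ hbp hb ha (by rw [Set.pair_comm]; exact hgen) hnp hpb
      (by rw [hsym]; exact hcompl) (by rw [hsym]; exact hinj)
  have hall : ∀ g : G, g ∈ kerFixer ρ (quadOp ρ a b ^ n) := fun g => by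
    have hg : g ∈ Subgroup.closure ({a, b} : Set G) := hgen ▸ Subgroup.mem_top g
    exact (Subgroup.closure_le _).2 (by rintro y (rfl | rfl); exacts [haF, hbF]) hg
  have ha1 : a ≠ 1 := by
    rintro rfl
    refine hnp ?_
    have hle : Subgroup.closure ({1, b} : Set G) ≤ Subgroup.zpowers b :=
      (Subgroup.closure_le _).2 (by rintro y (rfl | rfl); exacts [one_mem _, Subgroup.mem_zpowers y])
    rw [hgen] at hle
    intro g
    obtain ⟨i, hi⟩ := Subgroup.mem_zpowers_iff.1 (hle (Subgroup.mem_top g))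
    refine ⟨1, ?_⟩
    rw [← hi, pow_one, ← zpow_natCast, ← _root_.zpow_mul, mul_comm, _root_.zpow_mul, zpow_natCast, hbp, _root_.one_zpow]
  have hord : orderOf a = p := orderOf_eq_prime hap ha1
  -- the Sylow subgroup
  obtain ⟨P, hP⟩ := (IsPGroup.of_card (n := 1) (show Nat.card (Subgroup.zpowers a) = p ^ 1 by
    rw [Nat.card_zpowers, hord, pow_one])).exists_le_sylow
  have hPeq : (P : Subgroup G) = Subgroup.zpowers a := by
    refine le_antisymm (fun g hg => ?_) hP
    obtain ⟨u, huP, -, hu1, huc⟩ := exists_central_mem (N := (⊤ : Subgroup G))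
      (by rw [Subgroup.card_top, ← hord]; exact orderOf_dvd_natCard a) P
    have key : ∀ g ∈ (P : Subgroup G), g * a = a * g → g ∈ Subgroup.zpowers a := fun g hg hga => by
      obtain ⟨s, hs⟩ := P.2 ⟨g, hg⟩
      exact mem_zpowers_of_commute (by omega) ha hb hgen hpa hcompl hinj (hall g) hga
        (congrArg Subtype.val hs)
    have hum := key u huP (huc a (hP (Subgroup.mem_zpowers a))).symm
    obtain ⟨i, hi⟩ := (IsOfFinOrder.mem_powers_iff_mem_zpowers (isOfFinOrder_of_finite a)).2 hum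
    have hpi : ¬ p ∣ i := by
      rintro ⟨i', rfl⟩
      refine hu1 ?_
      rw [← hi]
      simp [pow_mul, hap]
    obtain ⟨j, hj⟩ := exists_pow_eq_self_of_coprime (x := a) (n := i)
      (hord.symm ▸ (hp.out.coprime_iff_not_dvd.2 hpi).symm)
    refine key g hg ?_
    rw [← hj]
    have hi' : a ^ i = u := hi
    exact ((show Commute g (a ^ i) from hi' ▸ huc g hg).pow_right j).eq
  obtain ⟨A, hA1, hA2, hA3, c, f, Θ, hfa, hfb, hΘ, -, hscal⟩ := exists_model ha hb hgen hinj
  -- two embeddings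
  let M₂ : G →* Matrix (Fin 2) (Fin 2) A :=
    { toFun := fun g => (f g : Matrix (Fin 2) (Fin 2) A)
      map_one' := by simp
      map_mul' := fun g h => by simp }
  have hM₂ : ∀ g, M₂ g = (f g : Matrix (Fin 2) (Fin 2) A) := fun g => rfl
  let iL : A →ₐ[ZMod p] TensorProduct (ZMod p) A A := Algebra.TensorProduct.includeLeft
  let iR : A →ₐ[ZMod p] TensorProduct (ZMod p) A A := Algebra.TensorProduct.includeRight
  let fL : G →* Matrix (Fin 2) (Fin 2) (TensorProduct (ZMod p) A A) :=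
    (iL.toRingHom.mapMatrix : Matrix (Fin 2) (Fin 2) A →+* _).toMonoidHom.comp M₂
  let fR : G →* Matrix (Fin 2) (Fin 2) (TensorProduct (ZMod p) A A) :=
    (iR.toRingHom.mapMatrix : Matrix (Fin 2) (Fin 2) A →+* _).toMonoidHom.comp M₂
  have hfL : ∀ g i j, fL g i j = iL (M₂ g i j) := fun g i j => rfl
  have hfR : ∀ g i j, fR g i j = iR (M₂ g i j) := fun g i j => rfl
  have key : iL (c : A) = iR (c : A) := by
    refine param_eq hp5 fL fR (z := a) (w := b) hap (P := P) hPeq (Units.map iL.toMonoidHom c)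
      (Units.map iR.toMonoidHom c) ?_ ?_ ?_ ?_ ?_
    · ext i j; rw [hfL, hM₂, hfa]; fin_cases i <;> fin_cases j <;> simp
    · ext i j; rw [hfR, hM₂, hfa]; fin_cases i <;> fin_cases j <;> simp
    · ext i j; rw [hfL, hM₂, hfb]; fin_cases i <;> fin_cases j <;> simp
    · ext i j; rw [hfR, hM₂, hfb]; fin_cases i <;> fin_cases j <;> simp
    intro m hm
    have hconj : m * a * m⁻¹ ∈ Subgroup.zpowers a :=
      (Subgroup.mem_normalizer_iff.1 hm a).1 (Subgroup.mem_zpowers a)
    obtain ⟨i, hi⟩ := (IsOfFinOrder.mem_powers_iff_mem_zpowers (isOfFinOrder_of_finite a)).2 hconj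
    have hpowa : ∀ i : ℕ, M₂ (a ^ i) = !![1, (i : A) * c; 0, 1] := by
      intro i
      induction i with
      | zero => rw [pow_zero, map_one]; ext r s; fin_cases r <;> fin_cases s <;> simp
      | succ i ih =>
        rw [pow_succ, map_mul, ih, hM₂, hfa]
        ext r s
        fin_cases r <;> fin_cases s <;> simp [Matrix.mul_apply, Fin.sum_univ_two] <;> ring
    have he : M₂ m * !![1, (c : A); 0, 1] = !![1, (i : A) * c; 0, 1] * M₂ m := by
      rw [← hpowa, ← hfa, ← hM₂, ← map_mul, ← map_mul]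
      congr 1
      have hi' : a ^ i = m * a * m⁻¹ := hi
      rw [hi', inv_mul_cancel_right]
    set M := M₂ m with hM
    have e11 := congrFun (congrFun he 1) 1
    have e01 := congrFun (congrFun he 0) 1
    simp [Matrix.mul_apply, Fin.sum_univ_two] at e11 e01
    have h10 : M 1 0 = 0 := e11
    have hae : M 0 0 = (i : A) * M 1 1 := c.isUnit.mul_right_cancel (by linear_combination e01)
    have hdet : M 0 0 * M 1 1 = 1 := by
      have h := (f m).2
      rw [Matrix.det_fin_two, ← hM₂, ← hM, h10, mul_zero, sub_zero] at h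
      exact h
    have hsq : M 0 0 * M 0 0 = (i : A) := by
      calc M 0 0 * M 0 0 = M 0 0 * ((i : A) * M 1 1) := by rw [← hae]
        _ = (i : A) * (M 0 0 * M 1 1) := by ring
        _ = _ := by rw [hdet, mul_one]
    refine ⟨?_, ?_, ?_, ?_, ?_⟩
    · rw [hfL, ← hM, h10, map_zero]
    · rw [hfR, ← hM, h10, map_zero]
    · rw [hfL, hfL, ← hM, ← map_mul, hdet, map_one]
    · rw [hfR, hfR, ← hM, ← map_mul, hdet, map_one]
    · rw [hfL, hfR, ← hM, ← map_mul, ← map_mul, hsq, map_natCast, map_natCast]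
  obtain ⟨l, hl⟩ : ∃ l : ZMod p, (c : A) = algebraMap (ZMod p) A l := by
    by_contra hno
    have hc : (c : A) ∉ (ZMod p) ∙ (1 : A) := fun h => by
      obtain ⟨l, hl⟩ := Submodule.mem_span_singleton.1 h
      exact hno ⟨l, by rw [← hl, Algebra.algebraMap_eq_smul_one]⟩
    obtain ⟨φ, hφ, hφ0⟩ := Submodule.exists_dual_map_eq_bot_of_notMem hc inferInstance
    have hφ1 : φ 1 = 0 := by
      have : φ 1 ∈ Submodule.map φ ((ZMod p) ∙ (1 : A)) := ⟨1, Submodule.mem_span_singleton_self _, rfl⟩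
      rwa [hφ0, Submodule.mem_bot] at this
    let ψ : TensorProduct (ZMod p) A A →ₗ[ZMod p] A :=
      (TensorProduct.lid (ZMod p) A).toLinearMap.comp (TensorProduct.map φ LinearMap.id)
    have h := congrArg ψ key
    simp [ψ, iL, iR, hφ1] at h
    rcases subsingleton_or_nontrivial A with hs | hs
    · exact hno ⟨0, Subsingleton.elim _ _⟩
    · rcases h with h | h
      · exact hφ h
      · exact one_ne_zero h
  have hC := hscal l hl
  set C := quadOp ρ a b with hCdef
  have hsplit : ∀ v : V, ∃ v₀ ∈ LinearMap.ker (C ^ n), ∃ r ∈ LinearMap.range (C ^ n), v₀ + r = v := fun v =>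
    Submodule.mem_sup.1 (hcompl.sup_eq_top ▸ Submodule.mem_top)
  have hfix : ∀ g v₀, v₀ ∈ LinearMap.ker (C ^ n) → (ρ g - 1) v₀ = 0 := fun g v₀ h => by
    rw [LinearMap.sub_apply, Module.End.one_apply, hall g v₀ h, sub_self]
  have hRg : ∀ g, ∀ r ∈ LinearMap.range (C ^ n), (ρ g - 1) r ∈ LinearMap.range (C ^ n) := by
    rintro g _ ⟨y, rfl⟩
    exact ⟨ρ g y - y, by rw [map_sub, hCdef, quadOp_pow_comm ha hb hgen]; rfl⟩
  refine ⟨l, fun h0 => ha1 (hρ ?_), LinearMap.ext fun v => ?_, LinearMap.ext fun v => ?_⟩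
  · refine LinearMap.ext fun v => ?_
    obtain ⟨v₀, hv₀, r, hr, rfl⟩ := hsplit v
    have hr0 : r = 0 := hinj r hr (by rw [hC r hr, h0, zero_smul])
    rw [hr0, add_zero, map_one, Module.End.one_apply]
    exact hall a v₀ hv₀
  · obtain ⟨v₀, hv₀, r, hr, rfl⟩ := hsplit v
    simp only [Module.End.mul_apply, LinearMap.smul_apply, map_add, hfix a v₀ hv₀, map_zero, zero_add,
      smul_zero]
    have h := LinearMap.congr_fun (quadOp_mul_left (b := b) ha).2 r
    simp only [Module.End.mul_apply] at h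
    rw [h, ← hCdef, hC _ (hRg a r hr)]
  · obtain ⟨v₀, hv₀, r, hr, rfl⟩ := hsplit v
    simp only [Module.End.mul_apply, LinearMap.smul_apply, map_add, hfix b v₀ hv₀, map_zero, zero_add,
      smul_zero]
    have h := LinearMap.congr_fun (quadOp_mul_left (b := a) hb).2 r
    simp only [Module.End.mul_apply] at h
    rw [h, hsym, hC _ (hRg b r hr)]

end Cfsg.Agent.RegularSE
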