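import Mathlib.Algebra.CharP.Lemmas
import Mathlib.Data.Matrix.Basic
import Mathlib.Data.ZMod.Basic
import Mathlib.Tactic.LinearCombination

/-!
Square matrices graded by `row - column`, the regular nilpotent `shift 1` and its commutant.
-/

set_option autoImplicit false

namespace Cfsg.Agent.RegularSE

open Matrix

variable {R : Type*} [CommRing R] {d : ℕ}

/-- The matrix with entries `1` at `(c + s, c)`. -/
def shift (R : Type*) [CommRing R] (d s : ℕ) : Matrix (Fin d) (Fin d) R :=
  Matrix.of fun r c => if r.val = c.val + s then 1 else 0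

theorem shift_apply (s : ℕ) (r c : Fin d) :
    shift R d s r c = if r.val = c.val + s then 1 else 0 := rfl

/-- All entries with `row < column + s` vanish. -/
def Ge (s : ℕ) (M : Matrix (Fin d) (Fin d) R) : Prop := ∀ r c : Fin d, r.val < c.val + s → M r c = 0

theorem Ge.mono {s t : ℕ} {M : Matrix (Fin d) (Fin d) R} (h : Ge t M) (hst : s ≤ t) : Ge s M :=
  fun r c hrc => h r c (by omega)

theorem ge_zero_matrix (s : ℕ) : Ge s (0 : Matrix (Fin d) (Fin d) R) := fun _ _ _ => rfl

theorem Ge.add {s : ℕ} {M N : Matrix (Fin d) (Fin d) R} (h : Ge s M) (h' : Ge s N) : Ge s (M + N) :=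
  fun r c hrc => by rw [Matrix.add_apply, h r c hrc, h' r c hrc, add_zero]

theorem Ge.sub {s : ℕ} {M N : Matrix (Fin d) (Fin d) R} (h : Ge s M) (h' : Ge s N) : Ge s (M - N) :=
  fun r c hrc => by rw [Matrix.sub_apply, h r c hrc, h' r c hrc, sub_zero]

theorem Ge.smul {s : ℕ} {M : Matrix (Fin d) (Fin d) R} (h : Ge s M) (a : R) : Ge s (a • M) :=
  fun r c hrc => by rw [Matrix.smul_apply, h r c hrc, smul_zero]

theorem Ge.mul {s t : ℕ} {M N : Matrix (Fin d) (Fin d) R} (h : Ge s M) (h' : Ge t N) :
    Ge (s + t) (M * N) := fun r c hrc => by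
  rw [Matrix.mul_apply]
  refine Finset.sum_eq_zero fun l _ => ?_
  by_cases h1 : r.val < l.val + s
  · rw [h r l h1, zero_mul]
  · rw [h' l c (by omega), mul_zero]

theorem Ge.eq_zero {s : ℕ} {M : Matrix (Fin d) (Fin d) R} (h : Ge s M) (hs : d ≤ s) : M = 0 :=
  Matrix.ext fun r c => h r c (by omega)

theorem ge_one_zero : Ge 0 (1 : Matrix (Fin d) (Fin d) R) := fun r c hrc =>
  Matrix.one_apply_ne fun e => by subst e; omega

theorem Ge.pow {s : ℕ} {M : Matrix (Fin d) (Fin d) R} (h : Ge s M) : ∀ n : ℕ, Ge (n * s) (M ^ n)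
  | 0 => by simpa using ge_one_zero
  | n + 1 => by
    rw [pow_succ, Nat.succ_mul]
    exact (h.pow n).mul h

theorem ge_shift (s : ℕ) : Ge s (shift R d s) := fun r c hrc => by
  rw [shift_apply, if_neg (by omega)]

/-- The leading entries of a product. -/
theorem Ge.mul_apply_lead {s t : ℕ} {M N : Matrix (Fin d) (Fin d) R} (h : Ge s M) (h' : Ge t N)
    {r l c : Fin d} (hl : l.val = c.val + t) (hr : r.val = c.val + s + t) :
    (M * N) r c = M r l * N l c := by
  rw [Matrix.mul_apply]
  refine Finset.sum_eq_single l (fun b _ hb => ?_) (fun h => absurd (Finset.mem_univ l) h)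
  rcases lt_or_gt_of_ne (fun e => hb (Fin.ext e) : b.val ≠ l.val) with h1 | h1
  · rw [h' b c (by omega), mul_zero]
  · rw [h r b (by omega), zero_mul]

theorem shift_zero : shift R d 0 = 1 := by
  ext r c
  by_cases h : r = c
  · subst h; simp [shift_apply]
  · rw [shift_apply, Matrix.one_apply_ne h, if_neg (fun e => h (Fin.ext (by simpa using e)))]

theorem shift_mul_shift (s t : ℕ) : shift R d s * shift R d t = shift R d (s + t) := by
  ext r c
  rw [Matrix.mul_apply, shift_apply]
  by_cases h : r.val = c.val + (s + t)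
  · rw [if_pos h, Finset.sum_eq_single (⟨c.val + t, by omega⟩ : Fin d)]
    · rw [shift_apply, shift_apply, if_pos (show r.val = (c.val + t) + s by omega), if_pos rfl, one_mul]
    · intro b _ hb
      rw [shift_apply t b c, if_neg (fun e => hb (Fin.ext e)), mul_zero]
    · exact fun h => absurd (Finset.mem_univ _) h
  · rw [if_neg h]
    refine Finset.sum_eq_zero fun b _ => ?_
    rw [shift_apply, shift_apply]
    split_ifs <;> simp_all <;> omega

theorem shift_one_pow : ∀ n : ℕ, shift R d 1 ^ n = shift R d n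
  | 0 => by rw [pow_zero, shift_zero]
  | n + 1 => by rw [pow_succ, shift_one_pow n, shift_mul_shift]

theorem shift_one_mul (M : Matrix (Fin d) (Fin d) R) (r c : Fin d) :
    (shift R d 1 * M) r c = if h : r.val = 0 then 0 else M ⟨r.val - 1, by omega⟩ c := by
  rw [Matrix.mul_apply]
  split_ifs with h
  · exact Finset.sum_eq_zero fun b _ => by rw [shift_apply, if_neg (by omega), zero_mul]
  · rw [Finset.sum_eq_single (⟨r.val - 1, by omega⟩ : Fin d)]
    · rw [shift_apply, if_pos (show r.val = r.val - 1 + 1 by omega), one_mul]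
    · intro b _ hb
      rw [shift_apply, if_neg (fun e => hb (Fin.ext (by simp; omega))), zero_mul]
    · exact fun h => absurd (Finset.mem_univ _) h

theorem mul_shift_one (M : Matrix (Fin d) (Fin d) R) (r c : Fin d) :
    (M * shift R d 1) r c = if h : c.val + 1 < d then M r ⟨c.val + 1, h⟩ else 0 := by
  rw [Matrix.mul_apply]
  split_ifs with h
  · rw [Finset.sum_eq_single (⟨c.val + 1, h⟩ : Fin d)]
    · rw [shift_apply, if_pos rfl, mul_one]
    · intro b _ hb
      rw [shift_apply, if_neg (fun e => hb (Fin.ext e)), mul_zero]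
    · exact fun h => absurd (Finset.mem_univ _) h
  · exact Finset.sum_eq_zero fun b _ => by rw [shift_apply, if_neg (by omega), mul_zero]

/-- A matrix commuting with the shift is determined by its first column. -/
theorem commutant {M : Matrix (Fin d) (Fin d) R} (hM : M * shift R d 1 = shift R d 1 * M) :
    ∀ (n : ℕ) (r c : Fin d), c.val = n →
      M r c = if h : c.val ≤ r.val then M ⟨r.val - c.val, by omega⟩ ⟨0, by omega⟩ else 0
  | 0, r, c, hc => by
    rw [dif_pos (by omega)]
    exact congr_arg₂ M (Fin.ext (by simp; omega)) (Fin.ext (by simpa using hc))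
  | n + 1, r, c, hc => by
    have h := congrFun (congrFun hM r) ⟨n, by omega⟩
    rw [mul_shift_one, shift_one_mul, dif_pos (show n + 1 < d by omega)] at h
    have e : (⟨n + 1, by omega⟩ : Fin d) = c := Fin.ext (by simp; omega)
    rw [e] at h
    rw [h]
    split_ifs with h1 h2
    · omega
    · rfl
    · rw [commutant hM n ⟨r.val - 1, by omega⟩ ⟨n, by omega⟩ rfl, dif_pos (by simp; omega)]
      exact congr_arg₂ M (Fin.ext (by simp; omega)) rfl
    · rw [commutant hM n ⟨r.val - 1, by omega⟩ ⟨n, by omega⟩ rfl, dif_neg (by simp; omega)]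

theorem commutant_apply {M : Matrix (Fin d) (Fin d) R} (hM : M * shift R d 1 = shift R d 1 * M)
    (r c : Fin d) :
    M r c = if h : c.val ≤ r.val then M ⟨r.val - c.val, by omega⟩ ⟨0, by omega⟩ else 0 :=
  commutant hM c.val r c rfl

/-- Two matrices commuting with the shift commute. -/
theorem commutant_ext {M N : Matrix (Fin d) (Fin d) R} (hM : M * shift R d 1 = shift R d 1 * M)
    (hN : N * shift R d 1 = shift R d 1 * N)
    (h : ∀ r c : Fin d, c.val = 0 → M r c = N r c) : M = N := by
  ext r c
  rw [commutant_apply hM, commutant_apply hN]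
  split_ifs
  · exact h _ _ rfl
  · rfl

theorem commutant_mulVec_first {M : Matrix (Fin d) (Fin d) R}
    (hM : M * shift R d 1 = shift R d 1 * M) (r c : Fin d) (hc : c.val = 0) :
    M r c = ∑ l : Fin d, M l c * shift R d l.val r c := by
  rw [Finset.sum_eq_single r]
  · rw [shift_apply, if_pos (by omega), mul_one]
  · intro b _ hb
    rw [shift_apply, if_neg (fun e => hb (Fin.ext (by omega))), mul_zero]
  · exact fun h => absurd (Finset.mem_univ _) h

theorem commutant_eq_sum {M : Matrix (Fin d) (Fin d) R} (hM : M * shift R d 1 = shift R d 1 * M)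
    (c₀ : Fin d) (hc : c₀.val = 0) : M = ∑ l : Fin d, M l c₀ • shift R d l.val := by
  refine commutant_ext hM ?_ fun r c hcc => ?_
  · rw [Finset.sum_mul, Finset.mul_sum]
    refine Finset.sum_congr rfl fun l _ => ?_
    rw [smul_mul_assoc, mul_smul_comm, shift_mul_shift, shift_mul_shift, Nat.add_comm]
  · obtain rfl : c = c₀ := Fin.ext (by omega)
    rw [commutant_mulVec_first hM r c hcc, Matrix.sum_apply]
    rfl

theorem commutant_commute {M N : Matrix (Fin d) (Fin d) R} (hM : M * shift R d 1 = shift R d 1 * M)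
    (hN : N * shift R d 1 = shift R d 1 * N) : M * N = N * M := by
  rcases Nat.eq_zero_or_pos d with rfl | hd
  · exact Matrix.ext fun r => r.elim0
  · have h := commutant_eq_sum hM ⟨0, hd⟩ rfl
    rw [h, Finset.sum_mul, Finset.mul_sum]
    refine Finset.sum_congr rfl fun l _ => ?_
    rw [smul_mul_assoc, mul_smul_comm, ← shift_one_pow]
    congr 1
    exact (Commute.pow_left (show Commute (shift R d 1) N from hN.symm) _).eq

end Cfsg.Agent.RegularSE
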