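import Cfsg.Agent.Lib.RegularSE.Orbit
import Mathlib.LinearAlgebra.Matrix.Notation
import Mathlib.Tactic.LinearCombination

/-!
Two representations in dimension two of a group with a Sylow subgroup of order `p` agree on the root
parameter, by a trace on the homomorphisms between the symmetric squares.
-/

set_option autoImplicit false
set_option linter.unusedSectionVars false

namespace Cfsg.Agent.RegularSE

open Matrix
open scoped Classical

variable {p : ℕ} [hp : Fact p.Prime] {A : Type*} [CommRing A] [Algebra (ZMod p) A]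

/-- The symmetric square. -/
def sym2 (M : Matrix (Fin 2) (Fin 2) A) : Matrix (Fin 3) (Fin 3) A :=
  !![M 0 0 * M 0 0, M 0 0 * M 0 1, M 0 1 * M 0 1;
    2 * (M 0 0 * M 1 0), M 0 0 * M 1 1 + M 0 1 * M 1 0, 2 * (M 0 1 * M 1 1);
    M 1 0 * M 1 0, M 1 0 * M 1 1, M 1 1 * M 1 1]

/-- The symmetric square as a homomorphism. -/
def sym2Hom : Matrix (Fin 2) (Fin 2) A →* Matrix (Fin 3) (Fin 3) A where
  toFun := sym2
  map_one' := by
    ext i j
    fin_cases i <;> fin_cases j <;> simp [sym2]
  map_mul' M N := by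
    ext i j
    fin_cases i <;> fin_cases j <;>
      simp [sym2, Matrix.mul_apply, Fin.sum_univ_two, Fin.sum_univ_three] <;> ring

theorem sym2Hom_apply (M : Matrix (Fin 2) (Fin 2) A) : sym2Hom M = sym2 M := rfl

variable {K : Type*} [Group K]

/-- The action on `Hom(Sym², Sym²')`. -/
def symRep (f f' : K →* Matrix (Fin 2) (Fin 2) A) :
    K →* Matrix (Fin 3 × Fin 3) (Fin 3 × Fin 3) A where
  toFun g := Matrix.kroneckerMap (· * ·) (sym2Hom (f' g)) (sym2Hom (f g⁻¹))ᵀ
  map_one' := by
    simp only [inv_one, map_one, Matrix.transpose_one]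
    exact Matrix.one_kronecker_one
  map_mul' g h := by
    simp only [_root_.mul_inv_rev, map_mul, Matrix.transpose_mul]
    exact Matrix.mul_kronecker_mul _ _ _ _

theorem symRep_apply (f f' : K →* Matrix (Fin 2) (Fin 2) A) (g : K) (r c r' c' : Fin 3) :
    symRep f f' g (r, c) (r', c') = sym2 (f' g) r r' * sym2 (f g⁻¹) c' c := rfl

theorem symRep_mulVec (f f' : K →* Matrix (Fin 2) (Fin 2) A) (g : K) (M : Matrix (Fin 3) (Fin 3) A) :
    symRep f f' g *ᵥ (fun rc => M rc.1 rc.2) =
      fun rc => (sym2 (f' g) * M * sym2 (f g⁻¹)) rc.1 rc.2 := by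
  ext ⟨r, c⟩
  simp only [Matrix.mulVec, dotProduct, Fintype.sum_prod_type, symRep_apply, Matrix.mul_apply,
    Finset.sum_mul]
  rw [Finset.sum_comm]
  exact Finset.sum_congr rfl fun i _ => Finset.sum_congr rfl fun l _ => by ring

/-- `column - row`. -/
def degT (rc : Fin 3 × Fin 3) : ℤ := (rc.2.val : ℤ) - rc.1.val

theorem zpow_smul_fixed {α : Type*} [MulAction K α] {z : K} {q : α} (h : z • q = q)
    (t : Subgroup.zpowers z) : t • q = q := by
  obtain ⟨n, hn⟩ := Subgroup.mem_zpowers_iff.1 t.2
  have h2 : z ∈ MulAction.stabilizer K q := h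
  have h3 : (t : K) ∈ MulAction.stabilizer K q := hn ▸ Subgroup.zpow_mem _ h2 n
  exact h3

/-- The trace forces equal root parameters. -/
theorem param_eq [Finite K] (h5 : 5 ≤ p) (f f' : K →* Matrix (Fin 2) (Fin 2) A) {z w : K}
    (hzp : z ^ p = 1) {P : Sylow p K} (hP : (P : Subgroup K) = Subgroup.zpowers z)
    (a a' : Aˣ) (hfz : f z = !![1, (a : A); 0, 1]) (hfz' : f' z = !![1, (a' : A); 0, 1])
    (hfw : f w = !![1, 0; 1, 1]) (hfw' : f' w = !![1, 0; 1, 1])
    (hnorm : ∀ n ∈ Subgroup.normalizer ((Subgroup.zpowers z : Subgroup K) : Set K),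
      f n 1 0 = 0 ∧ f' n 1 0 = 0 ∧ f n 0 0 * f n 1 1 = 1 ∧ f' n 0 0 * f' n 1 1 = 1 ∧
        f n 0 0 * f n 0 0 = f' n 0 0 * f' n 0 0) :
    (a : A) = a' := by
  rcases subsingleton_or_nontrivial A with hA | hA
  · exact Subsingleton.elim _ _
  set r : Aˣ := a' * a⁻¹ with hr
  set D : Matrix (Fin 3) (Fin 3) A := !![(r : A), 0, 0; 0, 1, 0; 0, 0, ((r⁻¹ : Aˣ) : A)] with hD
  set R := symRep f f' with hR
  set m : Fin 3 × Fin 3 → A := fun rc => D rc.1 rc.2 with hm
  have hra : (r : A) * a = a' := by rw [hr, ← Units.val_mul, inv_mul_cancel_right]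
  have hrr : (r : A) * ((r⁻¹ : Aˣ) : A) = 1 := Units.mul_inv r
  have hinter : sym2 (f' z) * D = D * sym2 (f z) := by
    rw [hfz, hfz']
    ext i j
    fin_cases i <;> fin_cases j <;> simp [sym2, hD, Matrix.mul_apply, Fin.sum_univ_three]
    · exact hra.symm
    · rw [← hra]; linear_combination (r : A) * (a : A) * (a : A) * hrr
    · rw [← hra]; linear_combination 2 * (a : A) * hrr
  have hzm : R z *ᵥ m = m := by
    rw [hR, hm, symRep_mulVec, hinter, mul_assoc, ← sym2Hom_apply, ← sym2Hom_apply, ← map_mul,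
      ← map_mul, mul_inv_cancel, map_one, map_one, mul_one]
  -- the operators
  have hup : ∀ (F : K →* Matrix (Fin 2) (Fin 2) A) (g : K) (c : A), F g = !![1, c; 0, 1] →
      ∀ i j : Fin 3, j.val < i.val + 1 → sym2 (F g) i j = if i = j then 1 else 0 := by
    intro F g c hg i j hij
    rw [hg]
    fin_cases i <;> fin_cases j <;> simp_all [sym2]
  have hfinv : f z⁻¹ = !![1, -(a : A); 0, 1] := by
    have h : f z⁻¹ * f z = 1 := by rw [← map_mul, inv_mul_cancel, map_one]
    have h' : f z * !![1, -(a : A); 0, 1] = 1 := by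
      rw [hfz]; ext i j; fin_cases i <;> fin_cases j <;> simp [Matrix.mul_apply, Fin.sum_univ_two]
    calc f z⁻¹ = f z⁻¹ * (f z * !![1, -(a : A); 0, 1]) := by rw [h', mul_one]
      _ = _ := by rw [← mul_assoc, h, one_mul]
  have hraise : Raises degT 1 (R z - 1) := by
    rintro ⟨i, j⟩ ⟨i', j'⟩ hlt
    simp only [degT] at hlt
    rw [Matrix.sub_apply, hR, symRep_apply]
    by_cases h1 : i'.val < i.val + 1
    · rw [hup f' z _ hfz' i i' h1]
      by_cases h1' : i = i'
      · subst h1'
        rw [if_pos rfl, one_mul, hup f z⁻¹ _ hfinv j' j (by omega), Matrix.one_apply]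
        by_cases h2 : j' = j
        · subst h2; simp
        · rw [if_neg h2, if_neg (fun e => h2 (congrArg Prod.snd e).symm), sub_zero]
      · rw [if_neg h1', zero_mul, Matrix.one_apply_ne (fun e => h1' (congrArg Prod.fst e)), sub_zero]
    · have h2 : j' ≠ j := fun e => by subst e; omega
      rw [hup f z⁻¹ _ hfinv j' j (by omega), if_neg h2, mul_zero,
        Matrix.one_apply_ne (fun e => h2 (congrArg Prod.snd e).symm), sub_zero]
  -- the trace
  set Z : Subgroup K := Subgroup.zpowers z with hZ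
  letI : Fintype (K ⧸ Z) := Fintype.ofFinite _
  have hfix : ∀ t ∈ Z, R t *ᵥ m = m := by
    intro t ht
    obtain ⟨n, rfl⟩ : ∃ n : ℕ, z ^ n = t := by
      rw [hZ] at ht
      exact ((IsOfFinOrder.mem_powers_iff_mem_zpowers (isOfFinOrder_of_finite z)).2 ht)
    induction n with
    | zero => rw [pow_zero, map_one, Matrix.one_mulVec]
    | succ n ih => rw [pow_succ, map_mul, ← Matrix.mulVec_mulVec, hzm, ih (pow_mem (Subgroup.mem_zpowers z) n)]
  let val : K ⧸ Z → (Fin 3 × Fin 3 → A) := fun q => R q.out *ᵥ m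
  have hsmul : ∀ (g : K) (q : K ⧸ Z), R g *ᵥ val q = val (g • q) := by
    intro g q
    obtain ⟨t, ht⟩ := QuotientGroup.mk_out_eq_mul Z (g * q.out)
    have e : (g • q).out = g * q.out * t := by
      rw [← ht]; congr 1; conv_lhs => rw [← QuotientGroup.out_eq' q]
      rfl
    show R g *ᵥ (R q.out *ᵥ m) = R (g • q).out *ᵥ m
    rw [e, map_mul _ (g * q.out), ← Matrix.mulVec_mulVec, hfix _ t.2, Matrix.mulVec_mulVec, ← map_mul]
  set W : Fin 3 × Fin 3 → A := ∑ q, val q with hW
  have hWinv : ∀ g, R g *ᵥ W = W := fun g => by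
    rw [hW, Matrix.mulVec_sum]
    simp only [hsmul]
    exact Fintype.sum_equiv (MulAction.toPerm g) _ _ fun q => rfl
  -- moved cosets
  have hmov : ∀ s : Finset (K ⧸ Z), (∀ q ∈ s, z • q ∈ s) → (∀ q ∈ s, z • q ≠ q) →
      Fil degT 1 (∑ q ∈ s, val q) := by
    intro s
    induction hn : s.card using Nat.strong_induction_on generalizing s with
    | _ n ih =>
      intro hinv hne
      rcases s.eq_empty_or_nonempty with rfl | ⟨q, hq⟩
      · exact fun c _ => by simp
      have hord : orderOf z = p := orderOf_eq_prime hzp fun h => hne q hq (by rw [h, one_smul])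
      have hpow : ∀ i : ℕ, z ^ i • q ∈ s := by
        intro i
        induction i with
        | zero => simpa using hq
        | succ i ihi => rw [pow_succ', mul_smul]; exact hinv _ ihi
      let O : Finset (K ⧸ Z) := (Finset.range p).image fun i => z ^ i • q
      have hOs : O ⊆ s := fun y hy => by
        obtain ⟨i, -, rfl⟩ := Finset.mem_image.1 hy
        exact hpow i
      have hqO : q ∈ O := Finset.mem_image.2 ⟨0, Finset.mem_range.2 hp.out.pos, by simp⟩
      rw [← Finset.sum_sdiff hOs]
      refine Fil.add (ih (s \ O).card ?_ (s \ O) rfl ?_ fun y hy => hne y (Finset.mem_sdiff.1 hy).1) ?_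
      · rw [← hn]; exact Finset.card_lt_card (Finset.sdiff_ssubset hOs ⟨q, hqO⟩)
      · intro y hy
        rw [Finset.mem_sdiff] at hy ⊢
        refine ⟨hinv y hy.1, fun hyO => hy.2 ?_⟩
        obtain ⟨i, -, he⟩ := Finset.mem_image.1 hyO
        refine Finset.mem_image.2 ⟨(p - 1 + i) % p, Finset.mem_range.2 (Nat.mod_lt _ hp.out.pos), ?_⟩
        rw [← pow_eq_pow_mod _ hzp, pow_add, mul_smul, he, ← mul_smul, ← pow_succ,
          Nat.sub_add_cancel hp.out.one_le, hzp, one_smul]
      · have hinj : Set.InjOn (fun i : ℕ => z ^ i • q) (Finset.range p : Finset ℕ) := by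
          have aux : ∀ c e : ℕ, c ≤ e → e < p → z ^ c • q = z ^ e • q → c = e := by
            intro c e hce hep he
            have h1 : z ^ c • (z ^ (e - c) • q) = z ^ c • q := by
              rw [← mul_smul, ← pow_add, Nat.add_sub_cancel' hce]; exact he.symm
            have h2 : z ^ (e - c) • q = q := MulAction.injective (z ^ c) h1
            by_contra hce'
            obtain ⟨j, hj⟩ := exists_pow_eq_self_of_coprime (x := z) (n := e - c)
              (hord.symm ▸ (hp.out.coprime_iff_not_dvd.2 fun h =>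
                absurd (Nat.le_of_dvd (by omega) h) (by omega)).symm)
            refine hne q hq ?_
            rw [← hj]
            clear hj
            induction j with
            | zero => rw [pow_zero, one_smul]
            | succ j ihj => rw [pow_succ, mul_smul, h2, ihj]
          intro i hi j hj he
          simp only [Finset.coe_range, Set.mem_Iio] at hi hj
          rcases le_total i j with h | h
          · exact aux i j h hj he
          · exact (aux j i h hi he.symm).symm
        rw [Finset.sum_image hinj]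
        have hsum : ∑ i ∈ Finset.range p, val (z ^ i • q) = (R z - 1) ^ (p - 1) *ᵥ val q := by
          rw [← sum_pow_eq, Matrix.sum_mulVec]
          exact Finset.sum_congr rfl fun i _ => by rw [← map_pow, hsmul]
        rw [hsum]
        refine ((hraise.pow (p - 1)).fil (e := -2) fun c hc => ?_).mono (by push_cast; omega)
        exact absurd hc (by simp only [degT]; have := c.1.2; omega)
  set fx : Finset (K ⧸ Z) := Finset.univ.filter fun q => z • q = q with hfx
  have hcardfx : ¬ p ∣ fx.card := by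
    intro h
    have hZp : IsPGroup p Z := hP ▸ P.2
    have h1 := hZp.card_modEq_card_fixedPoints (K ⧸ Z)
    have h2 : Nat.card (MulAction.fixedPoints Z (K ⧸ Z)) = fx.card := by
      rw [Nat.card_coe_set_eq, ← Set.ncard_coe_finset]
      congr 1
      ext q
      simp only [hfx, MulAction.mem_fixedPoints, Finset.coe_filter, Finset.mem_univ, true_and, Set.mem_setOf_eq]
      refine ⟨fun h' => h' ⟨z, Subgroup.mem_zpowers z⟩, fun h' t => ?_⟩
      exact zpow_smul_fixed h' t
    rw [h2] at h1
    have h3 : ¬ p ∣ Z.index := hP ▸ P.not_dvd_index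
    exact h3 ((Nat.ModEq.dvd_iff h1 dvd_rfl).2 h)
  have hout : ∀ q ∈ fx, q.out ∈ Subgroup.normalizer (Z : Set K) := by
    intro q hq
    refine smul_mem_normalizer fun t ht => ?_
    exact zpow_smul_fixed (Finset.mem_filter.1 hq).2 ⟨t, ht⟩
  have hrest : Fil degT 1 (W - ∑ q ∈ fx, val q) := by
    rw [hW, sub_eq_iff_eq_add.2 (Finset.sum_sdiff (Finset.subset_univ fx)).symm]
    refine hmov _ (fun q hq => ?_) fun q hq => ?_
    · simp only [hfx, Finset.mem_sdiff, Finset.mem_univ, Finset.mem_filter, true_and] at hq ⊢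
      exact fun h => hq (MulAction.injective z h)
    · simpa [hfx] using hq
  have hfilfx : ∀ q ∈ fx, ∀ i j : Fin 3, j.val ≤ i.val → val q (i, j) = D i j := by
    intro q hq i j hij
    obtain ⟨h1, h2, h3, h4, h5'⟩ := hnorm q.out (hout q hq)
    obtain ⟨g1, g2, g3, g4, g5⟩ := hnorm q.out⁻¹ (inv_mem (hout q hq))
    have hprod := congrFun (congrFun (show f q.out * f q.out⁻¹ = 1 by rw [← map_mul, mul_inv_cancel, map_one]) 0) 0
    have hprod' := congrFun (congrFun (show f' q.out * f' q.out⁻¹ = 1 by rw [← map_mul, mul_inv_cancel, map_one]) 0) 0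
    rw [Matrix.mul_apply, Fin.sum_univ_two, g1, mul_zero, add_zero, Matrix.one_apply_eq] at hprod
    rw [Matrix.mul_apply, Fin.sum_univ_two, g2, mul_zero, add_zero, Matrix.one_apply_eq] at hprod'
    have e1 : f q.out⁻¹ 1 1 = f q.out 0 0 := by
      linear_combination f q.out 0 0 * g3 - f q.out⁻¹ 1 1 * hprod
    show (R q.out *ᵥ m) (i, j) = _
    rw [hR, hm, symRep_mulVec]
    fin_cases i <;> fin_cases j <;>
      simp only [Fin.zero_eta, Fin.mk_one, Fin.reduceFinMk, Matrix.mul_apply, Fin.sum_univ_three] <;>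
      simp [sym2, hD, g1, h2] at hij ⊢
    · linear_combination (r : A) * (f q.out 0 0 * f q.out⁻¹ 0 0 + 1) * hprod
        - (r : A) * f q.out⁻¹ 0 0 * f q.out⁻¹ 0 0 * h5'
    · linear_combination f q.out⁻¹ 0 0 * f q.out⁻¹ 1 1 * h4 + g3
    · linear_combination ((r⁻¹ : Aˣ) : A) *
        (f' q.out 1 1 * f' q.out 1 1 * (f q.out⁻¹ 1 1 + f q.out 0 0) * e1 +
          f' q.out 1 1 * f' q.out 1 1 * h5' + (f' q.out 0 0 * f' q.out 1 1 + 1) * h4)
  have hlow : ∀ i j : Fin 3, j.val ≤ i.val → W (i, j) = (fx.card : A) * D i j := by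
    intro i j hij
    have h := hrest (i, j) (by simp [degT]; omega)
    rw [Pi.sub_apply, sub_eq_zero, Finset.sum_apply, Finset.sum_congr rfl fun q hq => hfilfx q hq i j hij,
      Finset.sum_const, nsmul_eq_mul] at h
    exact h
  -- the lower root element
  have hL := hWinv w
  rw [show W = fun rc => Matrix.of (fun i j => W (i, j)) rc.1 rc.2 from rfl, hR, symRep_mulVec] at hL
  set M : Matrix (Fin 3) (Fin 3) A := Matrix.of fun i j => W (i, j) with hM
  have hL' : sym2 (f' w) * M * sym2 (f w⁻¹) = M := Matrix.ext fun i j => congrFun hL (i, j)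
  have hLM : sym2 (f' w) * M = M * sym2 (f w) := by
    calc sym2 (f' w) * M = sym2 (f' w) * M * sym2 (f w⁻¹) * sym2 (f w) := by
          rw [mul_assoc _ (sym2 (f w⁻¹)), ← sym2Hom_apply (f w⁻¹), ← sym2Hom_apply (f w), ← map_mul,
            ← map_mul, inv_mul_cancel, map_one, map_one, mul_one]
      _ = M * sym2 (f w) := by rw [hL']
  rw [hfw, hfw'] at hLM
  have h10 : M 1 0 = 0 := by simp [hM, hlow 1 0 (by decide), hD]
  have h20 : M 2 0 = 0 := by simp [hM, hlow 2 0 (by decide), hD]
  have h21 : M 2 1 = 0 := by simp [hM, hlow 2 1 (by decide), hD]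
  have e01 := congrFun (congrFun hLM 0) 1
  have e00 := congrFun (congrFun hLM 0) 0
  have e11 := congrFun (congrFun hLM 1) 1
  have e10 := congrFun (congrFun hLM 1) 0
  simp [sym2, Matrix.mul_apply, Fin.sum_univ_three, h10, h20, h21] at e01 e00 e11 e10
  have hunit : IsUnit (fx.card : A) := by
    have h : (fx.card : ZMod p) ≠ 0 := fun h0 => hcardfx ((ZMod.natCast_eq_zero_iff _ _).1 h0)
    simpa using (isUnit_iff_ne_zero.2 h).map (algebraMap (ZMod p) A)
  have h2 : IsUnit (2 : A) := by
    have h : ((2 : ℕ) : ZMod p) ≠ 0 := fun h0 => by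
      have := Nat.le_of_dvd (by norm_num) ((ZMod.natCast_eq_zero_iff _ _).1 h0)
      omega
    have h' := (isUnit_iff_ne_zero.2 h).map (algebraMap (ZMod p) A)
    rwa [map_natCast, Nat.cast_ofNat] at h'
  have m01 : M 0 1 = 0 := by
    refine h2.mul_right_eq_zero.1 ?_
    linear_combination -e00 - e01
  have m12 : M 1 2 = 0 := by linear_combination -e11 + 2 * m01
  have hdiag : M 0 0 = M 1 1 := h2.mul_left_cancel (by linear_combination e10 + m12)
  have hr1 : (r : A) = 1 := by
    have h00 : M 0 0 = (fx.card : A) * r := by simp [hM, hlow 0 0 le_rfl, hD]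
    have h11 : M 1 1 = (fx.card : A) := by simp [hM, hlow 1 1 le_rfl, hD]
    exact hunit.mul_left_cancel (by rw [← h00, mul_one, ← h11, hdiag])
  rw [← hra, hr1, one_mul]

end Cfsg.Agent.RegularSE
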