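import Mathlib.Algebra.Field.ZMod
import Mathlib.Algebra.Polynomial.Expand
import Mathlib.Data.Matrix.Mul
import Mathlib.LinearAlgebra.Matrix.Kronecker
import Mathlib.GroupTheory.OrderOfElement

/-!
Tensor powers of a matrix representation in coordinates, filtered by a weight.
-/

set_option autoImplicit false
set_option linter.unusedSectionVars false

namespace Cfsg.Agent.RegularSE

open Matrix

variable {R : Type*} [CommRing R] {ι : Type*} [Fintype ι] [DecidableEq ι] {G : Type*} [Group G]

/-- The `j`-th tensor power of a matrix representation. -/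
def tpow (A : G →* Matrix ι ι R) (j : ℕ) : G →* Matrix (Fin j → ι) (Fin j → ι) R where
  toFun g := Matrix.of fun q q' => ∏ l, A g (q l) (q' l)
  map_one' := by
    ext q q'
    rw [Matrix.of_apply, map_one]
    by_cases h : q = q'
    · subst h; simp
    · rw [Matrix.one_apply_ne h]
      obtain ⟨l, hl⟩ := Function.ne_iff.1 h
      exact Finset.prod_eq_zero (Finset.mem_univ l) (Matrix.one_apply_ne hl)
  map_mul' g h := by
    ext q q'
    rw [Matrix.mul_apply, Matrix.of_apply]
    simp only [map_mul, Matrix.mul_apply, Matrix.of_apply]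
    rw [Finset.prod_univ_sum]
    simp only [Fintype.piFinset_univ]
    exact Finset.sum_congr rfl fun q'' _ => Finset.prod_mul_distrib

theorem tpow_apply (A : G →* Matrix ι ι R) (j : ℕ) (g : G) (q q' : Fin j → ι) :
    tpow A j g q q' = ∏ l, A g (q l) (q' l) := rfl

/-- The pure tensor. -/
def pureT {j : ℕ} (v : Fin j → ι → R) : (Fin j → ι) → R := fun q => ∏ l, v l (q l)

theorem tpow_pureT (A : G →* Matrix ι ι R) {j : ℕ} (g : G) (v : Fin j → ι → R) :
    tpow A j g *ᵥ pureT v = pureT fun l => A g *ᵥ v l := by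
  ext q
  simp only [pureT, Matrix.mulVec, dotProduct, tpow_apply]
  rw [Finset.prod_univ_sum]
  simp only [Fintype.piFinset_univ]
  exact Finset.sum_congr rfl fun q'' _ => Finset.prod_mul_distrib.symm

/-- The total weight. -/
def wt {j : ℕ} (δ : ι → ℤ) (q : Fin j → ι) : ℤ := ∑ l, δ (q l)

variable {κ : Type*} [Fintype κ] [DecidableEq κ]

/-- Vectors supported in weights `≥ e`. -/
def Fil (δ : κ → ℤ) (e : ℤ) (m : κ → R) : Prop := ∀ q, δ q < e → m q = 0

/-- Operators raising weights by at least `s`. -/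
def Raises (δ : κ → ℤ) (s : ℤ) (M : Matrix κ κ R) : Prop := ∀ q q', δ q < δ q' + s → M q q' = 0

theorem Raises.fil {δ : κ → ℤ} {s e : ℤ} {M : Matrix κ κ R} (hM : Raises δ s M) {m : κ → R}
    (hm : Fil δ e m) : Fil δ (e + s) (M *ᵥ m) := fun q hq => by
  refine Finset.sum_eq_zero fun q' _ => ?_
  by_cases h : δ q' < e
  · show M q q' * m q' = 0
    rw [hm q' h, mul_zero]
  · show M q q' * m q' = 0
    rw [hM q q' (by omega), zero_mul]

theorem Raises.mul {δ : κ → ℤ} {s t : ℤ} {M N : Matrix κ κ R} (hM : Raises δ s M) (hN : Raises δ t N) :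
    Raises δ (s + t) (M * N) := fun q q' h => by
  rw [Matrix.mul_apply]
  refine Finset.sum_eq_zero fun l _ => ?_
  by_cases h1 : δ q < δ l + s
  · rw [hM q l h1, zero_mul]
  · rw [hN l q' (by omega), mul_zero]

theorem Raises.pow {δ : κ → ℤ} {s : ℤ} {M : Matrix κ κ R} (hM : Raises δ s M) :
    ∀ n : ℕ, Raises δ (n * s) (M ^ n)
  | 0 => fun q q' h => by
    rw [pow_zero, Matrix.one_apply_ne fun e => by subst e; simp at h]
  | n + 1 => by
    rw [pow_succ, Nat.cast_succ, add_mul, one_mul]
    exact (hM.pow n).mul hM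

theorem Fil.add {δ : κ → ℤ} {e : ℤ} {m m' : κ → R} (h : Fil δ e m) (h' : Fil δ e m') :
    Fil δ e (m + m') := fun q hq => by rw [Pi.add_apply, h q hq, h' q hq, add_zero]

theorem Fil.sum {δ : κ → ℤ} {e : ℤ} {α : Type*} {s : Finset α} {m : α → κ → R}
    (h : ∀ a ∈ s, Fil δ e (m a)) : Fil δ e (∑ a ∈ s, m a) := fun q hq => by
  rw [Finset.sum_apply]
  exact Finset.sum_eq_zero fun a ha => h a ha q hq

theorem Fil.mono {δ : κ → ℤ} {e e' : ℤ} {m : κ → R} (h : Fil δ e m) (he : e' ≤ e) : Fil δ e' m :=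
  fun q hq => h q (by omega)

/-- A weight-unitriangular matrix stays so in tensor powers. -/
theorem raises_tpow {A : G →* Matrix ι ι R} {δ : ι → ℤ} {s : ℤ} (hs : 1 ≤ s) {g : G}
    (h : Raises δ s (A g - 1)) (j : ℕ) : Raises (wt δ) s (tpow A j g - 1) := by
  have hdiag : ∀ i, A g i i = 1 := fun i => by
    have := h i i (by omega)
    rwa [Matrix.sub_apply, Matrix.one_apply_eq, sub_eq_zero] at this
  intro q q' hq
  rw [Matrix.sub_apply, tpow_apply]
  by_cases he : q = q'
  · subst he
    rw [Matrix.one_apply_eq, Finset.prod_eq_one (fun l _ => hdiag _), sub_self]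
  rw [Matrix.one_apply_ne he, sub_zero]
  by_cases hall : ∀ l, q l = q' l ∨ δ (q' l) + s ≤ δ (q l)
  · exfalso
    obtain ⟨l₀, hl₀⟩ := Function.ne_iff.1 he
    have h1 : ∀ l ∈ Finset.univ, δ (q' l) ≤ δ (q l) := fun l _ => by
      rcases hall l with h2 | h2
      · rw [h2]
      · omega
    have h2 : wt δ q' + s ≤ wt δ q := by
      unfold wt
      rw [← Finset.add_sum_erase _ _ (Finset.mem_univ l₀), ← Finset.add_sum_erase _ _ (Finset.mem_univ l₀)]
      have h3 := (hall l₀).resolve_left hl₀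
      have h4 : ∑ l ∈ Finset.univ.erase l₀, δ (q' l) ≤ ∑ l ∈ Finset.univ.erase l₀, δ (q l) :=
        Finset.sum_le_sum fun l hl => h1 l (Finset.mem_of_mem_erase hl)
      omega
    omega
  · push Not at hall
    obtain ⟨l, hl, hl'⟩ := hall
    refine Finset.prod_eq_zero (Finset.mem_univ l) ?_
    have := h (q l) (q' l) (by omega)
    rwa [Matrix.sub_apply, Matrix.one_apply_ne hl, sub_zero] at this

theorem tpow_fil {A : G →* Matrix ι ι R} {δ : ι → ℤ} {g : G} (h : Raises δ 0 (A g)) (j : ℕ) :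
    Raises (wt δ) 0 (tpow A j g) := by
  intro q q' hq
  rw [tpow_apply]
  obtain ⟨l, -, hl⟩ : ∃ l ∈ (Finset.univ : Finset (Fin j)), δ (q l) < δ (q' l) :=
    Finset.exists_lt_of_sum_lt (by unfold wt at hq; omega)
  exact Finset.prod_eq_zero (Finset.mem_univ l) (h _ _ (by omega))

/-- In characteristic `p` the norm of an element of order `p` is the power `p - 1` of `u - 1`. -/
theorem sum_pow_eq {p : ℕ} [hp : Fact p.Prime] {B : Type*} [Ring B] [Algebra (ZMod p) B] (u : B) :
    ∑ a ∈ Finset.range p, u ^ a = (u - 1) ^ (p - 1) := by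
  have hX : (∑ a ∈ Finset.range p, (Polynomial.X : Polynomial (ZMod p)) ^ a) =
      (Polynomial.X - 1) ^ (p - 1) := by
    refine mul_right_cancel₀ (b := (Polynomial.X - 1 : Polynomial (ZMod p))) ?_ ?_
    · simpa using Polynomial.X_sub_C_ne_zero (1 : ZMod p)
    · rw [geom_sum_mul, ← pow_succ, Nat.sub_add_cancel hp.out.one_le,
        sub_pow_char_of_commute _ (Commute.one_right _), one_pow]
  have h := congrArg (Polynomial.aeval u) hX
  simpa using h

end Cfsg.Agent.RegularSE
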